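import Groth.Agent.ModSt.K927.Cart
import Groth.Agent.Stk.K751.FF
import Groth.Agent.Fdesc.FlatBC
import Groth.Agent.FormalA.PullbackQC
import Groth.Agent.FormalB.BCExact
import Groth.Agent.Models2.FlatIso
import Groth.Agent.PerfC.FPSections

/-!
# The categories over `(Sch/S)` of modules are fibred in groupoids
-/

set_option autoImplicit false
universe u

open CategoryTheory CategoryTheory.Limits AlgebraicGeometry Opposite ModSt

noncomputable section

namespace K927.ModSt

variable {X S : Scheme.{u}} {f : X ⟶ S}

/-- The pull-back of a family along a morphism of bases. -/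
def bc (A : Obj f) {V : Over S} (g : V ⟶ A.base) : Obj f where
  base := V
  XT := pullback A.q g.left
  p := pullback.fst _ _ ≫ A.p
  q := pullback.snd _ _
  isPullback := by
    have h1 := (IsPullback.of_hasPullback A.q g.left).paste_horiz A.isPullback
    rw [Over.w g] at h1
    exact h1
  E := (Scheme.Modules.pullback (pullback.fst A.q g.left)).obj A.E

/-- The projection of the pull-back. -/
def bcHom (A : Obj f) {V : Over S} (g : V ⟶ A.base) : bc A g ⟶ A where
  base := g
  top := pullback.fst _ _
  w_p := rfl
  w_q := pullback.condition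
  c := (Scheme.Modules.pullbackPushforwardAdjunction _).unit.app A.E
  cart := isCart_unit _ _

variable (f) in
theorem isFibGrpd_fam : FibCat.IsFibGrpd (Fam f).p where
  exists_lift := fun {A} {V} g => ⟨bc A g, bcHom A g, IsHomLift.map (Obj.forget f) (bcHom A g)⟩
  isStronglyCartesian := fun {B A} φ =>
    { universal_property' := fun {C} g ψ hψ => by
        have hg : g ≫ φ.base = ψ.base :=
          IsHomLift.eq_of_isHomLift (Obj.forget f) (g ≫ (Obj.forget f).map φ) ψ
        obtain ⟨χ, ⟨h1, h2⟩, h3⟩ := existsUnique_lift φ ψ g hg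
        refine ⟨χ, ⟨?_, h2⟩, ?_⟩
        · subst h1
          exact IsHomLift.map (Obj.forget f) χ
        · rintro χ' ⟨hχ', h4⟩
          exact h3 χ' ⟨(IsHomLift.eq_of_isHomLift (Obj.forget f) g χ').symm, h4⟩ }

/-- Coherence (flatness over the base and finite presentation) is stable under base change. -/
theorem isCohObj_of_hom {A B : Obj f} (φ : B ⟶ A) (h : IsCohObj A) : IsCohObj B := by
  obtain ⟨e⟩ := nonempty_iso_pullback φ.cart
  have hsq := Obj.Hom.isPullback_top φ
  refine ⟨Groth.Agent.Models2.FlatIso.isFlatOver_of_iso _ e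
    (Groth.Agent.FormalB.BC.isFlatOver_pullback hsq A.E h.1), ?_⟩
  exact Groth.Agent.PerfC.FPSections.isFP_of_iso e (Groth.Agent.FormalA.PullbackQC.isFP_pullback φ.top A.E h.2)

variable (f) in
theorem isFibGrpd_coh : FibCat.IsFibGrpd (Coh f).p := by
  refine K751.FF.isFibGrpd_sub (isFibGrpd_fam f) ?_
  intro A B φ hB
  exact ⟨A, Iso.refl _, isCohObj_of_hom φ hB, IsHomLift.id rfl⟩

end K927.ModSt
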