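import Groth.Agent.ModSt.K927.Fib
import Groth.Agent.S1441
import Groth.Agent.S1393
import Groth.Agent.Lim8.K116.RankLim
import Groth.Agent.CurvSt.K899.OpenCrit
import Groth.Agent.FlatMor.K259.FlatId
import Groth.Agent.Dcoh.Spread

/-!
# The locus where a flat family of modules is locally free of given rank is open

`K927.ModSt.hasOpenLocus_rk`
-/

set_option autoImplicit false
universe v u

open CategoryTheory CategoryTheory.Limits AlgebraicGeometry Opposite ModSt K116.RankLim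

noncomputable section

namespace K927.ModSt

/-- A finitely presented module flat at `x` is free near `x`. -/
theorem exists_free_of_flatAt {X : Scheme.{u}} (F : X.Modules) (hF : CohB1.IsFP F) (x : X)
    (h : FlatMod.IsFlatOverAt (𝟙 X) F x) :
    ∃ (U : X.Opens) (n : ℕ), x ∈ U ∧ Nonempty (F.restrict U.ι ≅ FlatMod.freeMod (↑U) n) := by
  refine Groth.Agent.S1393.result (𝟙 X) F (Groth.Agent.PerfC.FPSections.isQCoh_of_isFP hF) hF x h ?_
  have hmap : Ideal.map ((𝟙 X : X ⟶ X).stalkMap x).hom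
      (IsLocalRing.maximalIdeal (X.presheaf.stalk ((𝟙 X : X ⟶ X) x))) =
      IsLocalRing.maximalIdeal (X.presheaf.stalk x) := by
    have hb : Function.Surjective ((𝟙 X : X ⟶ X).stalkMap x).hom :=
      ((ConcreteCategory.isIso_iff_bijective ((𝟙 X : X ⟶ X).stalkMap x)).1 inferInstance).2
    exact IsLocalRing.map_maximalIdeal_of_surjective _ hb
  rw [hmap]
  have : (IsLocalRing.maximalIdeal (X.presheaf.stalk x)).IsMaximal := inferInstance
  let _ := Ideal.Quotient.field (IsLocalRing.maximalIdeal (X.presheaf.stalk x))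
  exact inferInstance

/-- The locus on the base. -/
theorem hasOpenLocus_rk {X S : Scheme.{u}} (f : X ⟶ S) [IsProper f] [LocallyOfFinitePresentation f] (n : ℕ) :
    K899.OpenCrit.HasOpenLocus (𝒳 := Coh f) (fun A => FlatMod.IsFinLocFreeOfRank n A.obj.E) := by
  rintro ⟨A, hA⟩
  have hpr : IsProper A.q := MorphismProperty.of_isPullback A.isPullback.flip.flip ‹IsProper f›
  have hlfp : LocallyOfFinitePresentation A.q :=
    MorphismProperty.of_isPullback A.isPullback.flip.flip ‹LocallyOfFinitePresentation f›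
  let W : A.XT.Opens := locus n A.E
  have hcl : IsClosed (A.q '' ((W : Set A.XT)ᶜ)) := A.q.isClosedMap _ W.isOpen.isClosed_compl
  refine ⟨⟨(A.q '' ((W : Set A.XT)ᶜ))ᶜ, hcl.isOpen_compl⟩, ?_⟩
  rintro ⟨B, hB⟩ φ
  let φ' : B ⟶ A := φ.hom
  change FlatMod.IsFinLocFreeOfRank n B.E ↔ Set.range φ'.base.left ⊆ (A.q '' ((W : Set A.XT)ᶜ))ᶜ
  have hsq : IsPullback φ'.top B.q A.q φ'.base.left := Obj.Hom.isPullback_top φ'
  obtain ⟨e⟩ := nonempty_iso_pullback φ'.cart
  constructor
  · rintro h _ ⟨t, rfl⟩ ⟨x, hx, hxt⟩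
    apply hx
    obtain ⟨x', hx'1⟩ : ∃ x' : B.XT, φ'.top x' = x := by
      obtain ⟨z, hz, -⟩ := Scheme.Pullback.exists_preimage_pullback (f := A.q) (g := φ'.base.left) x t hxt
      refine ⟨hsq.isoPullback.inv z, ?_⟩
      rw [← Scheme.Hom.comp_apply, IsPullback.isoPullback_inv_fst]
      exact hz
    have hflat : FlatMod.IsFlatOverAt (𝟙 A.XT) A.E x := by
      have hs := (Groth.Agent.S1441.result (𝟙 A.XT) A.q A.E (Groth.Agent.PerfC.FPSections.isQCoh_of_isFP hA.2)
        hA.2 hA.1).2 φ'.base.left φ'.top B.q hsq φ'.top (𝟙 B.XT) (by simpa using hsq) (by simp)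
      have hx'2 : x' ∈ {x' : B.XT | FlatMod.IsFlatOverAt (𝟙 B.XT)
        ((Scheme.Modules.pullback φ'.top).obj A.E) x'} :=
        (K259.FlatId.isFlatOverAt_id_iff _ x').2 (Groth.Agent.Dcoh.Spread.isFlat_of_isFinLocFree
          (fun y => (isFinLocFreeOfRank_of_iso e.symm h y).imp fun V hV => ⟨n, hV⟩) x')
      rw [hs] at hx'2
      have h2 : FlatMod.IsFlatOverAt (𝟙 A.XT) A.E (φ'.top x') := hx'2
      rwa [hx'1] at h2
    obtain ⟨U, m, hxU, e'⟩ := exists_free_of_flatAt A.E hA.2 x hflat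
    subst hx'1
    have h3 := isFinLocFreeOfRank_of_iso e.symm h
    obtain ⟨V, hxV, e''⟩ := h3 x'
    have hmn := rank_unique (x := x') (U := φ'.top ⁻¹ᵁ U) hxU hxV (nonempty_iso_restrict_pullback φ'.top e') e''
    subst hmn
    exact mem_locus.2 ⟨U, hxU, e'⟩
  · intro h
    refine isFinLocFreeOfRank_of_iso e (isFinLocFreeOfRank_pullback' φ'.top fun x' => ?_)
    by_contra hx
    refine h ⟨B.q x', rfl⟩ ⟨φ'.top x', hx, ?_⟩
    rw [← Scheme.Hom.comp_apply, φ'.w_q, Scheme.Hom.comp_apply]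

end K927.ModSt
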