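import Groth.Agent.ModSt.K927.LimCoh
import Groth.Agent.PicLoc.K729.FGCone
import Groth.Agent.AlgSp.K607.ArtinDefs

/-!
# Artin's axiom of limit preservation for `Coh f`
-/

set_option autoImplicit false
universe u

open CategoryTheory CategoryTheory.Limits AlgebraicGeometry Opposite ModSt K607.Artin

noncomputable section

namespace K927.ModSt

theorem isHomLift_fullSub {C : Type*} [Category C] {𝒳 : BasedCategory C} {Q : ObjectProperty 𝒳.obj}
    {x y : Q.FullSubcategory} {R S : C} (g : R ⟶ S) (φ : x ⟶ y) (h : 𝒳.p.IsHomLift g φ.hom) :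
    (Q.ι ⋙ 𝒳.p).IsHomLift g φ :=
  IsHomLift.of_fac (Q.ι ⋙ 𝒳.p) g φ (IsHomLift.domain_eq 𝒳.p g φ.hom) (IsHomLift.codomain_eq 𝒳.p g φ.hom)
    (IsHomLift.fac 𝒳.p g φ.hom)

theorem of_isHomLift_fullSub {C : Type*} [Category C] {𝒳 : BasedCategory C} {Q : ObjectProperty 𝒳.obj}
    {x y : Q.FullSubcategory} {R S : C} (g : R ⟶ S) (φ : x ⟶ y) (h : (Q.ι ⋙ 𝒳.p).IsHomLift g φ) :
    𝒳.p.IsHomLift g φ.hom :=
  IsHomLift.of_fac 𝒳.p g φ.hom (IsHomLift.domain_eq (Q.ι ⋙ 𝒳.p) g φ) (IsHomLift.codomain_eq (Q.ι ⋙ 𝒳.p) g φ)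
    (IsHomLift.fac (Q.ι ⋙ 𝒳.p) g φ)

variable {Λ : Type u} [CommRing Λ] {X : Scheme.{u}} (f : X ⟶ Spec (CommRingCat.of Λ))

open Groth.Agent.Etcore.FGLim in
theorem artin_lp [LocallyOfFinitePresentation f] [QuasiCompact f] [QuasiSeparated f] : LP (Coh f) := by
  intro A _ _ x hx
  obtain ⟨i, B, a, hB, ha⟩ := exists_stage_coh (f := f) (K729.FGCone.fgD Λ A) (K729.FGCone.fgC Λ A)
    (K729.FGCone.isLimitFgC Λ A) (fun i => inferInstanceAs (IsAffine (Spec _))) x.obj x.property hx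
  have hft : Algebra.FiniteType Λ i.unop.1 := i.unop.1.fg_iff_finiteType.1 i.unop.2
  refine ⟨i.unop.1, inferInstance, inferInstance, hft, i.unop.1.val, ⟨B, hB⟩, ObjectProperty.homMk a, ?_⟩
  exact isHomLift_fullSub (𝒳 := Fam f) (Q := IsCohObj) (x := x) (y := ⟨B, hB⟩) (spMap i.unop.1.val)
    (ObjectProperty.homMk a) ha

end K927.ModSt
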