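import Groth.Agent.ModSt.K927.RSBase
import Groth.Agent.ModSt.K927.ArtinLP

/-!
# Artin's axioms `RSobj`, `RShom` for `Coh f`
-/

set_option autoImplicit false
universe v u

open CategoryTheory CategoryTheory.Limits AlgebraicGeometry Opposite ModSt K607.Artin

noncomputable section

namespace K927.ModSt

theorem BSq.cast {S : Scheme.{u}} {z x x' T z₀ x₀ x₀' T₀ : Over S} (hz : z = z₀) (hx : x = x₀) (hx' : x' = x₀')
    (hT : T = T₀) {a : z₀ ⟶ x₀} {b : z₀ ⟶ x₀'} {tA : x₀ ⟶ T₀} {tB : x₀' ⟶ T₀} (B : BSq a b tA tB)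
    {a' : z ⟶ x} {b' : z ⟶ x'} {tA' : x ⟶ T} {tB' : x' ⟶ T}
    (h1 : a' = eqToHom hz ≫ a ≫ eqToHom hx.symm) (h2 : b' = eqToHom hz ≫ b ≫ eqToHom hx'.symm)
    (h3 : tA' = eqToHom hx ≫ tA ≫ eqToHom hT.symm) (h4 : tB' = eqToHom hx' ≫ tB ≫ eqToHom hT.symm) :
    BSq a' b' tA' tB' := by
  subst hz hx hx' hT
  simp only [eqToHom_refl, Category.id_comp, Category.comp_id] at h1 h2 h3 h4
  subst h1 h2 h3 h4
  exact B

variable {Λ : Type u} [CommRing Λ] {X : Scheme.{u}} (f : X ⟶ Spec (CommRingCat.of Λ))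

/-- The morphism of bases of a lift. -/
theorem base_eq_of_isHomLift {S : Scheme.{u}} {f : X ⟶ S} {x y : (Coh f).obj} {R T : Over S} (g : R ⟶ T)
    (φ : x ⟶ y) (h : (Coh f).p.IsHomLift g φ) :
    φ.hom.base = eqToHom (IsHomLift.domain_eq (Coh f).p g φ) ≫ g ≫
      eqToHom (IsHomLift.codomain_eq (Coh f).p g φ).symm := IsHomLift.fac' (Coh f).p g φ

theorem artin_rsObj : RSobj (Coh f) := by
  intro A B B' P _ _ _ _ _ _ _ _ φ ψ p q hfib hsurj _ z x x' a b ha hb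
  have hz : z.obj.base = sp Λ B := IsHomLift.domain_eq (Coh f).p (spMap φ) a
  have hx : x.obj.base = sp Λ A := IsHomLift.codomain_eq (Coh f).p (spMap φ) a
  have hx' : x'.obj.base = sp Λ B' := IsHomLift.codomain_eq (Coh f).p (spMap ψ) b
  have r1 : eqToHom hx ≫ spMap p = eqToHom hx ≫ spMap p ≫ 𝟙 _ :=
    (congrArg (fun t => eqToHom hx ≫ t) (Category.comp_id (spMap p))).symm
  have r2 : eqToHom hx' ≫ spMap q = eqToHom hx' ≫ spMap q ≫ 𝟙 _ :=
    (congrArg (fun t => eqToHom hx' ≫ t) (Category.comp_id (spMap q))).symm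
  have Bq : BSq a.hom.base b.hom.base (eqToHom hx ≫ spMap p) (eqToHom hx' ≫ spMap q) :=
    (bsq_spMap φ ψ p q hfib hsurj).cast hz hx hx' rfl (base_eq_of_isHomLift _ a ha) (base_eq_of_isHomLift _ b hb)
      r1 r2
  obtain ⟨E, c, d, hE, hc, hd, hcomp⟩ := exists_glue_fam a.hom b.hom Bq x.property x'.property
    (Groth.Agent.PerfC.FPSections.isQCoh_of_isFP z.property.2)
  refine ⟨⟨ofHat (sp Λ P) E, hE⟩, ObjectProperty.homMk c, ObjectProperty.homMk d, ?_, ?_, ?_⟩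
  · exact IsHomLift.of_fac' (Coh f).p (spMap p) _ hx rfl (hc.trans r1)
  · exact IsHomLift.of_fac' (Coh f).p (spMap q) _ hx' rfl (hd.trans r2)
  · exact ObjectProperty.hom_ext _ hcomp

theorem artin_rsHom : RShom (Coh f) := by
  intro A B B' P D _ _ _ _ _ _ _ _ _ _ φ ψ p q hfib hsurj _ z x x' w y a b c d ha hb hc hd hcomp hy c' d' h
  have hz : z.obj.base = sp Λ B := IsHomLift.domain_eq (Coh f).p (spMap φ) a
  have hx : x.obj.base = sp Λ A := IsHomLift.codomain_eq (Coh f).p (spMap φ) a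
  have hx' : x'.obj.base = sp Λ B' := IsHomLift.codomain_eq (Coh f).p (spMap ψ) b
  have hw : w.obj.base = sp Λ P := IsHomLift.codomain_eq (Coh f).p (spMap p) c
  have Bq : BSq a.hom.base b.hom.base c.hom.base d.hom.base :=
    (bsq_spMap φ ψ p q hfib hsurj).cast hz hx hx' hw (base_eq_of_isHomLift _ a ha) (base_eq_of_isHomLift _ b hb)
      (base_eq_of_isHomLift _ c hc) (base_eq_of_isHomLift _ d hd)
  have hyA : IsAffine y.obj.base.left := by
    have h1 : y.obj.base = sp Λ D := hy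
    rw [h1]
    exact inferInstanceAs (IsAffine (Spec _))
  have h0 : a.hom ≫ c'.hom = b.hom ≫ d'.hom := congrArg (fun t : z ⟶ y => t.hom) h
  have h00 : a.hom ≫ c.hom = b.hom ≫ d.hom := congrArg (fun t : z ⟶ w => t.hom) hcomp
  obtain ⟨g, ⟨hg1, hg2⟩, hg3⟩ := Bq.existsUnique_hom c'.hom.base d'.hom.base
    (congrArg (fun t : z.obj ⟶ y.obj => t.base) h0)
  have q1 := fun (t : (Coh f).obj) => Groth.Agent.PerfC.FPSections.isQCoh_of_isFP t.property.2
  obtain ⟨e, ⟨he0, he1, he2⟩, he3⟩ := existsUnique_glue_hom a.hom b.hom c.hom d.hom h00 Bq x.property.1 x'.property.1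
    (q1 x) (q1 x') (q1 z) (q1 w) (q1 y) g c'.hom d'.hom hg1 hg2 h0
  refine ⟨ObjectProperty.homMk e, ⟨ObjectProperty.hom_ext _ he1, ObjectProperty.hom_ext _ he2⟩, ?_⟩
  rintro e' ⟨h1, h2⟩
  have k1 : c.hom ≫ e'.hom = c'.hom := congrArg (fun t : x ⟶ y => t.hom) h1
  have k2 : d.hom ≫ e'.hom = d'.hom := congrArg (fun t : x' ⟶ y => t.hom) h2
  exact ObjectProperty.hom_ext _ (he3 e'.hom ⟨hg3 _ ⟨congrArg (fun t : x.obj ⟶ y.obj => t.base) k1,
    congrArg (fun t : x'.obj ⟶ y.obj => t.base) k2⟩, k1, k2⟩)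

end K927.ModSt
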