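import Groth.Agent.ModSt.K927.MdPb
import Groth.Agent.ModSt.K927.Fib
import Groth.Agent.S5134
import Groth.Agent.GrpQ.K185.Inst

/-!
# Full subcategories of `Fam f` defined by local conditions are stacks; the stack `Coh f`

`K927.ModSt.isStack_of_local`, `K927.ModSt.isStack_coh`
-/

set_option autoImplicit false
universe v u

open CategoryTheory CategoryTheory.Limits AlgebraicGeometry Opposite ModSt

noncomputable section

namespace K927.ModSt

variable {X S : Scheme.{u}} {f : X ⟶ S}

section Sub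

variable {P : Obj f → Prop} (hPQ : ∀ A : Obj f, P A → Coh.IsQCoh A.E)

/-- The nested full subcategories. -/
def nest : K751.FF.sub (𝒳 := QFam f) (fun a => P a.obj) ⥤ᵇ AlgSt.fullSub (Fam f) P where
  obj a := ⟨a.obj.obj, a.property⟩
  map φ := ObjectProperty.homMk φ.hom.hom
  map_id _ := rfl
  map_comp _ _ := rfl
  w := rfl

instance : (nest (f := f) (P := P)).toFunctor.Faithful where
  map_injective {_ _} φ ψ h := by
    apply ObjectProperty.hom_ext
    apply ObjectProperty.hom_ext
    exact congrArg (fun t => t.hom) h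

instance : (nest (f := f) (P := P)).toFunctor.Full where
  map_surjective {_ _} ψ := ⟨ObjectProperty.homMk (ObjectProperty.homMk ψ.hom), rfl⟩

include hPQ in
theorem isEquivOver_nest : FibCat.IsEquivOver (nest (f := f) (P := P)) := by
  refine K751.FF.isEquivOver_of_ff_of_exists_iso _ fun y => ?_
  exact ⟨⟨⟨y.obj, hPQ _ y.property⟩, y.property⟩, Iso.refl _, IsHomLift.id rfl⟩

variable {K : Precoverage Scheme.{u}} [K.IsStableUnderComposition]
    [K.IsStableUnderBaseChange] [K.HasPullbacks] [K.HasIsos] [Precoverage.Small.{u} K]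

include hPQ in
/-- A full subcategory of quasi-coherent modules given by a condition stable under base change and local for
`K` is a stack. -/
theorem isStack_of_local (hK : K ≤ Scheme.fpqcPrecoverage) (hbc : ∀ ⦃A B : Obj f⦄ (_ : B ⟶ A), P A → P B)
    (hloc : ∀ (A : Obj f), Coh.IsQCoh A.E → ∀ (ι : Type u) (Z : ι → Over S) (p : ∀ i, Z i ⟶ A.base),
      Presieve.ofArrows (fun i => (Z i).left) (fun i => (p i).left) ∈ K A.base.left →
      (∀ i, P (bc A (p i))) → P A) :
    Stk.IsStack (QuotSh.J K S) (AlgSt.fullSub (Fam f) P) := by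
  have h1 : Stk.IsStack (QuotSh.J K S) (K751.FF.sub (𝒳 := QFam f) (fun a => P a.obj)) := by
    refine K751.FF.isStack_sub (isStack_qfam f hK) ?_ ?_
    · intro y x φ hx
      exact ⟨y, Iso.refl _, hbc φ.hom hx, IsHomLift.id rfl⟩
    · intro U R hR x hxU H
      subst hxU
      obtain ⟨ι, Z, p, hp, hpR⟩ := K185.Cover.exists_ofArrows_of_mem_J hR
      refine ⟨x, Iso.refl _, hloc x.obj x.property ι Z p hp fun i => ?_, IsHomLift.id rfl⟩
      have hq : Coh.IsQCoh (bc x.obj (p i)).E :=
        Groth.Agent.VarietyB.PullSec.isQCoh_pullback _ _ x.property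
      let y : (QFam f).obj := ⟨bc x.obj (p i), hq⟩
      let φ : y ⟶ x := ObjectProperty.homMk (bcHom x.obj (p i))
      obtain ⟨y', e, hy', -⟩ := H (p i) (hpR i) y φ (IsHomLift.map (QFam f).p φ)
      exact hbc e.hom.hom hy'
  exact K751.Inv.isStack_of_isEquivOver (isEquivOver_nest hPQ) h1

end Sub

/-- Finite presentation descends along fppf families. -/
theorem isFP_of_fppf {Y : Scheme.{u}} (M : Y.Modules) (hM : Coh.IsQCoh M)
    (h : ∀ y : Y, ∃ (Y' : Scheme.{u}) (g : Y' ⟶ Y) (y' : Y'), Flat g ∧ LocallyOfFinitePresentation g ∧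
      g y' = y ∧ CohB1.IsFP ((Scheme.Modules.pullback g).obj M)) : CohB1.IsFP M := by
  refine Groth.Agent.PerfC.FPSections.isFP_of_cover fun y => ?_
  obtain ⟨Y', g, y', hg, hg', rfl, hFP⟩ := h y
  obtain ⟨U, hU, hyU, -⟩ := exists_isAffineOpen_mem_and_subset (X := Y) (x := g y') (U := ⊤) trivial
  obtain ⟨W, hW, hyW, hWU⟩ := exists_isAffineOpen_mem_and_subset (X := Y') (x := y') (U := g ⁻¹ᵁ U) hyU
  -- the open image
  let q : (W : Scheme.{u}) ⟶ Y := W.ι ≫ g
  have hq : IsOpenMap q := (q).isOpenMap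
  let O : Y.Opens := ⟨Set.range q, hq.isOpen_range⟩
  have hO : O ≤ U := by
    rintro _ ⟨w, rfl⟩
    exact hWU w.2
  let r : (W : Scheme.{u}) ⟶ (O : Scheme.{u}) := IsOpenImmersion.lift O.ι q (by
    rw [Scheme.Opens.range_ι]; exact le_rfl)
  have hr : r ≫ O.ι = q := IsOpenImmersion.lift_fac _ _ _
  have hWa : IsAffine (W : Scheme.{u}) := hW
  have : Surjective r := ⟨fun o => by
    obtain ⟨w, hw⟩ := o.2
    refine ⟨w, ?_⟩
    apply O.ι.isOpenEmbedding.injective
    rw [← Scheme.Hom.comp_apply, hr]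
    exact hw⟩
  have : Flat r := by
    have h1 : Flat (r ≫ O.ι) := by rw [hr]; infer_instance
    have h2 : IsPullback (𝟙 _) r (r ≫ O.ι) O.ι := ⟨⟨by simp⟩, ⟨PullbackCone.IsLimit.mk _ (fun s => s.fst)
      (fun s => by simp) (fun s => by
        rw [← cancel_mono O.ι, Category.assoc]
        exact s.condition) (fun s m h1 _ => by simpa using h1)⟩⟩
    exact MorphismProperty.of_isPullback h2 h1
  have hsep : (O : Scheme.{u}).IsSeparated := by
    have hUa : IsAffine (U : Scheme.{u}) := hU
    have : IsSeparated (Y.homOfLE hO ≫ terminal.from (U : Scheme.{u})) := inferInstance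
    exact ⟨by rwa [terminal.comp_from] at this⟩
  have : QuasiCompact r := by
    have h3 : QuasiCompact (r ≫ terminal.from _) := by
      rw [terminal.comp_from]
      infer_instance
    exact QuasiCompact.of_comp r (terminal.from _)
  refine ⟨O, O.ι, inferInstance, ⟨g y', ⟨⟨y', hyW⟩, rfl⟩⟩, rfl, ?_⟩
  have e0 : (Scheme.Modules.pullback O.ι).obj M ≅ M.restrict O.ι :=
    ((Scheme.Modules.restrictFunctorIsoPullback O.ι).app M).symm
  refine Groth.Agent.PerfC.FPSections.isFP_of_iso e0 ?_
  refine Groth.Agent.S5134.result r _ (Groth.Agent.VarietyB.PullSec.isQCoh_pullback _ _ hM) ?_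
  refine Groth.Agent.PerfC.FPSections.isFP_of_iso
    ((Scheme.Modules.pullbackComp W.ι g).app M ≪≫ (Scheme.Modules.pullbackCongr hr.symm).app M ≪≫
      ((Scheme.Modules.pullbackComp r O.ι).symm).app M) ?_
  exact Groth.Agent.FormalA.PullbackQC.isFP_pullback W.ι _ hFP

open scoped K185 in
variable (f) in
/-- The stack of flat finitely presented modules (= S17418). -/
theorem isStack_coh : Stk.IsStack (QuotSh.J Scheme.fppfPrecoverage S) (Coh f) := by
  refine isStack_of_local (fun A hA => Groth.Agent.PerfC.FPSections.isQCoh_of_isFP hA.2)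
    Scheme.fppfPrecoverage_le_fpqcPrecoverage (fun A B φ hA => isCohObj_of_hom φ hA) ?_
  intro A hA ι Z p hp H
  have hp' := Scheme.fppfPrecoverage_le_fpqcPrecoverage _ hp
  have hsq : ∀ i, IsPullback (pullback.fst A.q (p i).left) (pullback.snd A.q (p i).left) A.q (p i).left :=
    fun i => IsPullback.of_hasPullback _ _
  have hfl : ∀ i, Flat (p i).left := flat_of_fpqc hp'
  have hex : ∀ y : A.XT, ∃ (i : ι) (z : (pullback A.q (p i).left : Scheme.{u})),
      pullback.fst A.q (p i).left z = y := by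
    intro y
    obtain ⟨i, z, hz⟩ := exists_of_fpqc hp' (A.q y)
    obtain ⟨w, hw1, hw2⟩ := Scheme.Pullback.exists_preimage_pullback y z hz.symm
    exact ⟨i, w, hw1⟩
  constructor
  · intro y
    obtain ⟨i, z, rfl⟩ := hex y
    exact Groth.Agent.Fdesc.FlatBC.isFlatOverAt_of_pullback (hsq i) A.E z ((H i).1 z)
  · refine isFP_of_fppf A.E hA fun y => ?_
    obtain ⟨i, z, hz⟩ := hex y
    have hlfp : LocallyOfFinitePresentation (p i).left :=
      ((Scheme.ofArrows_mem_precoverage_iff _).1 hp).2 i |>.2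
    refine ⟨_, pullback.fst A.q (p i).left, z, inferInstance, inferInstance, hz, (H i).2⟩

end K927.ModSt
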