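import Groth.Agent.ModSt.K927.MdSec
import Groth.Agent.GrpQ.K185.Cover
import Groth.Agent.FlatMor.K256.StalkPull

/-!
# `Md X` is a prestack for every topology coarser than the fpqc topology
-/

set_option autoImplicit false
universe v u

open CategoryTheory CategoryTheory.Limits AlgebraicGeometry Opposite ModSt Groth.Agent.Desc.QD

noncomputable section

namespace K927.ModSt

variable {X : Scheme.{u}}

theorem flat_of_fpqc {ι : Type v} {S : Scheme.{u}} {Y : ι → Scheme.{u}} {f : ∀ i, Y i ⟶ S}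
    (h : Presieve.ofArrows Y f ∈ Scheme.fpqcPrecoverage S) (i : ι) : Flat (f i) := by
  exact ((Scheme.ofArrows_mem_precoverage_iff _).1 h.2).2 i

theorem exists_of_fpqc {ι : Type v} {S : Scheme.{u}} {Y : ι → Scheme.{u}} {f : ∀ i, Y i ⟶ S}
    (h : Presieve.ofArrows Y f ∈ Scheme.fpqcPrecoverage S) (s : S) : ∃ (i : ι) (y : Y i), f i y = s := by
  exact ((Scheme.ofArrows_mem_precoverage_iff _).1 h.2).1 s

/-- The base change of a covering family in `Over X`. -/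
theorem exists_bc_cover {K : Precoverage Scheme.{u}} [K.IsStableUnderBaseChange] {ι : Type v} {V W : Over X}
    {Z : ι → Over X} (p : ∀ i, Z i ⟶ V)
    (hp : Presieve.ofArrows (fun i => (Z i).left) (fun i => (p i).left) ∈ K V.left) (a : W ⟶ V) :
    ∃ (P : ι → Over X) (q : ∀ i, P i ⟶ W) (r : ∀ i, P i ⟶ Z i), (∀ i, q i ≫ a = r i ≫ p i) ∧
      Presieve.ofArrows (fun i => (P i).left) (fun i => (q i).left) ∈ K W.left := by
  refine ⟨fun i => Over.mk (pullback.fst a.left (p i).left ≫ W.hom), fun i => Over.homMk (pullback.fst _ _),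
    fun i => Over.homMk (pullback.snd _ _) ?_, fun i => ?_, ?_⟩
  · change pullback.snd _ _ ≫ (Z i).hom = pullback.fst _ _ ≫ W.hom
    rw [← Over.w (p i), ← Over.w a, pullback.condition_assoc]
  · apply Over.OverMorphism.ext
    exact pullback.condition
  · exact Precoverage.mem_coverings_of_isPullback _ hp a.left _ (fun i => pullback.snd _ _)
      (fun i => IsPullback.of_hasPullback a.left (p i).left)

theorem bcMHom_base (A : MObj X) {V : Over X} (g : V ⟶ A.base) : (bcMHom A g).base = g := rfl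

theorem apc_bcMHom (A : MObj X) {V : Over X} (g : V ⟶ A.base) (U : A.base.left.Opens) (m : Γ(A.E, U)) :
    apc (bcMHom A g) U m = sc g.left A.E (le_refl (g.left ⁻¹ᵁ U)) m := by
  have h1 := ap_adj g.left (𝟙 (PB g.left A.E)) U m
  rw [ap_id] at h1
  refine Eq.trans ?_ h1
  have h2 : adj g.left (𝟙 (PB g.left A.E)) =
      (Scheme.Modules.pullbackPushforwardAdjunction g.left).unit.app A.E := by
    exact Adjunction.homEquiv_id _ _
  rw [h2]
  rfl

variable {K : Precoverage Scheme.{u}}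

/-- The projection of a double base change. -/
theorem exists_bb (A : MObj X) {V W : Over X} (p : V ⟶ A.base) (q : W ⟶ A.base) (g : W ⟶ V) (w : g ≫ p = q) :
    ∃ b : bcM A q ⟶ bcM A p, b.base = g ∧ b ≫ bcMHom A p = bcMHom A q ∧
      ∀ (U : V.left.Opens) (s : Γ(PB p.left A.E, U)) (w' : g.left ≫ p.left = q.left) (Y : W.left.Opens)
        (e : Y ≤ b.base.left ⁻¹ᵁ U) (e' : Y ≤ g.left ⁻¹ᵁ U),
        rs (PB q.left A.E) e (apc b U s) = tr g.left p.left q.left w' A.E e' s := by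
  subst w
  have hi : IsIso (cmpInv g.left p.left (g ≫ p).left rfl A.E) := inferInstance
  refine ⟨ofTh (A := bcM A (g ≫ p)) (B := bcM A p) g (cmpInv g.left p.left (g ≫ p).left rfl A.E) hi, rfl, ?_, ?_⟩
  · refine md_ext_sec rfl fun U m e => ?_
    have e0 : (g ≫ p).left ⁻¹ᵁ U ≤ (ofTh (A := bcM A (g ≫ p)) (B := bcM A p) g
      (cmpInv g.left p.left (g ≫ p).left rfl A.E) hi ≫ bcMHom A p).base.left ⁻¹ᵁ U := le_rfl
    have e1 : (g ≫ p).left ⁻¹ᵁ U ≤ (ofTh (A := bcM A (g ≫ p)) (B := bcM A p) g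
      (cmpInv g.left p.left (g ≫ p).left rfl A.E) hi).base.left ⁻¹ᵁ ((bcMHom A p).base.left ⁻¹ᵁ U) := le_rfl
    refine (rs_refl _ (le_refl _) _).symm.trans ?_
    refine (comp_apc _ (bcMHom A p) U m e0 e1).trans ?_
    refine (congrArg (fun z => rs _ e1 (apc (ofTh (A := bcM A (g ≫ p)) (B := bcM A p) g
      (cmpInv g.left p.left (g ≫ p).left rfl A.E) hi) (p.left ⁻¹ᵁ U) z)) (apc_bcMHom A p U m)).trans ?_
    refine (congrArg (fun z => rs _ e1 z) (apc_ofTh (A := bcM A (g ≫ p)) (B := bcM A p) g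
      (cmpInv g.left p.left (g ≫ p).left rfl A.E) hi _ (sc p.left A.E le_rfl m))).trans ?_
    refine (rs_refl _ _ _).trans ?_
    refine (cmpInv_sc g.left p.left (g ≫ p).left rfl A.E le_rfl le_rfl le_rfl m).trans ?_
    refine (apc_bcMHom A (g ≫ p) U m).symm.trans ?_
    exact (rs_refl _ _ _).symm
  · intro U s w' Y e e'
    refine (congrArg (fun z => rs _ e z) (apc_ofTh (A := bcM A (g ≫ p)) (B := bcM A p) g
      (cmpInv g.left p.left (g ≫ p).left rfl A.E) hi U s)).trans ?_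
    exact rs_tr g.left p.left (g ≫ p).left w' A.E (le_refl _) e' s

theorem exists_glue (A B : MObj X) {ι : Type u} {Z : ι → Over X} (p : ∀ i, Z i ⟶ A.base)
    (hp : Presieve.ofArrows (fun i => (Z i).left) (fun i => (p i).left) ∈ Scheme.fpqcPrecoverage A.base.left)
    (g : A.base ⟶ B.base) (φ : ∀ i, bcM A (p i) ⟶ B) (hφ : ∀ i, (φ i).base = p i ≫ g)
    (H : ∀ (W : MObj X) (i j : ι) (b : W ⟶ bcM A (p i)) (b' : W ⟶ bcM A (p j)),
      b ≫ bcMHom A (p i) = b' ≫ bcMHom A (p j) → b ≫ φ i = b' ≫ φ j) :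
    ∃ ψ : A ⟶ B, ψ.base = g ∧ ∀ i, bcMHom A (p i) ≫ ψ = φ i := by
  have hb : ∀ i, (φ i).base.left = (p i).left ≫ g.left := fun i => by rw [hφ i]; rfl
  let ψ : ∀ i, PB (p i).left (PB g.left B.E) ⟶ PB (p i).left A.E := fun i =>
    cmpInv (p i).left g.left ((p i).left ≫ g.left) rfl B.E ≫ th (φ i) ((p i).left ≫ g.left) (hb i)
  have hψ : ∀ i (U : B.base.left.Opens) (m : Γ(B.E, U)) (e : (p i).left ⁻¹ᵁ (g.left ⁻¹ᵁ U) ≤
      (φ i).base.left ⁻¹ᵁ U), ap (ψ i) ((p i).left ⁻¹ᵁ (g.left ⁻¹ᵁ U))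
        (sc (p i).left (PB g.left B.E) le_rfl (sc g.left B.E le_rfl m)) =
      rs (PB (p i).left A.E) e (apc (φ i) U m) := by
    intro i U m e
    have e2 : (p i).left ⁻¹ᵁ (g.left ⁻¹ᵁ U) ≤ ((p i).left ≫ g.left) ⁻¹ᵁ U := le_rfl
    refine (congrArg (ap (th (φ i) ((p i).left ≫ g.left) (hb i)) _)
      (cmpInv_sc (p i).left g.left ((p i).left ≫ g.left) rfl B.E le_rfl le_rfl e2 m)).trans ?_
    exact ap_th (φ i) ((p i).left ≫ g.left) (hb i) e2 e m
  have hisoψ : ∀ i, IsIso (ψ i) := fun i =>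
    IsIso.comp_isIso' (inferInstance : IsIso (cmpInv (p i).left g.left ((p i).left ≫ g.left) rfl B.E))
      (isIso_th (φ i) ((p i).left ≫ g.left) (hb i))
  have key : ∀ (i j : ι) (Y : Scheme.{u}) (gi : Y ⟶ (Z i).left) (gj : Y ⟶ (Z j).left) (c : Y ⟶ A.base.left)
      (wi : gi ≫ (p i).left = c) (wj : gj ≫ (p j).left = c),
      pullH (ψ i) gi c c wi wi = pullH (ψ j) gj c c wj wj := by
    intro i j Y gi gj c wi wj
    let W : Over X := Over.mk (c ≫ A.base.hom)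
    let c' : W ⟶ A.base := Over.homMk c
    let gi' : W ⟶ Z i := Over.homMk gi (by
      change gi ≫ (Z i).hom = c ≫ A.base.hom
      rw [← Over.w (p i), ← wi, Category.assoc])
    let gj' : W ⟶ Z j := Over.homMk gj (by
      change gj ≫ (Z j).hom = c ≫ A.base.hom
      rw [← Over.w (p j), ← wj, Category.assoc])
    have wi' : gi' ≫ p i = c' := Over.OverMorphism.ext wi
    have wj' : gj' ≫ p j = c' := Over.OverMorphism.ext wj
    obtain ⟨bi, hbi, hbi1, hbi2⟩ := exists_bb A (p i) c' gi' wi'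
    obtain ⟨bj, hbj, hbj1, hbj2⟩ := exists_bb A (p j) c' gj' wj'
    have hcomp := H (bcM A c') i j bi bj (hbi1.trans hbj1.symm)
    have main : ∀ (l : ι) (gl : Y ⟶ (Z l).left) (wl : gl ≫ (p l).left = c) (gl' : W ⟶ Z l) (_ : gl'.left = gl)
        (b : bcM A c' ⟶ bcM A (p l)) (hb0 : b.base = gl')
        (hb2 : ∀ (U : (Z l).left.Opens) (s : Γ(PB (p l).left A.E, U)) (w' : gl'.left ≫ (p l).left = c'.left)
          (Y : W.left.Opens) (e : Y ≤ b.base.left ⁻¹ᵁ U) (e' : Y ≤ gl'.left ⁻¹ᵁ U),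
          rs (PB c'.left A.E) e (apc b U s) = tr gl'.left (p l).left c'.left w' A.E e' s)
        (U : B.base.left.Opens) (m : Γ(B.E, U)) (e : c ⁻¹ᵁ (g.left ⁻¹ᵁ U) ≤ (b ≫ φ l).base.left ⁻¹ᵁ U),
        ap (pullH (ψ l) gl c c wl wl) (c ⁻¹ᵁ (g.left ⁻¹ᵁ U))
          (sc c (PB g.left B.E) le_rfl (sc g.left B.E le_rfl m)) =
        rs (PB c A.E) e (apc (b ≫ φ l) U m) := by
      intro l gl wl gl' hgl b hb0 hb2 U m e
      subst hgl
      have e3 : c ⁻¹ᵁ (g.left ⁻¹ᵁ U) ≤ gl'.left ⁻¹ᵁ ((p l).left ⁻¹ᵁ (g.left ⁻¹ᵁ U)) := by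
        rw [← wl]; exact le_rfl
      have e4 : (p l).left ⁻¹ᵁ (g.left ⁻¹ᵁ U) ≤ (φ l).base.left ⁻¹ᵁ U := by
        rw [hb l]; exact le_rfl
      have e5 : c ⁻¹ᵁ (g.left ⁻¹ᵁ U) ≤ b.base.left ⁻¹ᵁ ((φ l).base.left ⁻¹ᵁ U) := by
        rw [hb0]; exact e3.trans (gl'.left.preimage_mono e4)
      rw [← tr_sc gl'.left (p l).left c wl (PB g.left B.E) e3 le_rfl le_rfl,
        ap_pullH_tr (ψ l) gl'.left c c wl wl e3, hψ l U m e4]
      refine Eq.trans ?_ (comp_apc b (φ l) U m e e5).symm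
      refine Eq.trans ?_ (hb2 _ (apc (φ l) U m) wl (c ⁻¹ᵁ (g.left ⁻¹ᵁ U)) e5
        (e3.trans (gl'.left.preimage_mono e4))).symm
      exact tr_rs gl'.left (p l).left c wl A.E e3 e4 (apc (φ l) U m)
    apply hom_ext₂ c g.left
    intro U m
    have ei : c ⁻¹ᵁ (g.left ⁻¹ᵁ U) ≤ (bi ≫ φ i).base.left ⁻¹ᵁ U := by
      change _ ≤ bi.base.left ⁻¹ᵁ ((φ i).base.left ⁻¹ᵁ U)
      rw [hbi, hb i, ← wi]
      exact le_rfl
    have ej : c ⁻¹ᵁ (g.left ⁻¹ᵁ U) ≤ (bj ≫ φ j).base.left ⁻¹ᵁ U := by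
      change _ ≤ bj.base.left ⁻¹ᵁ ((φ j).base.left ⁻¹ᵁ U)
      rw [hbj, hb j, ← wj]
      exact le_rfl
    rw [main i gi wi gi' rfl bi hbi hbi2 U m ei, main j gj wj gj' rfl bj hbj hbj2 U m ej]
    exact rs_apc_congr hcomp m ei ej
  obtain ⟨t, ht⟩ := exists_hom_fpqc (fun i => (p i).left) hp A.qc ψ key
  have hiso : IsIso t := by
    refine K256.StalkPull.isIso_of_cover t fun y => ?_
    obtain ⟨i, z, hz⟩ := exists_of_fpqc hp y
    refine ⟨_, (p i).left, z, flat_of_fpqc hp i, hz, ?_⟩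
    have h1 := ht i
    change PBmap (p i).left t = ψ i at h1
    change IsIso (PBmap (p i).left t)
    rw [h1]
    exact hisoψ i
  refine ⟨ofTh g t hiso, rfl, fun i => ?_⟩
  refine md_ext_sec (hφ i).symm fun U m e => ?_
  refine (rs_refl _ (le_refl _) _).symm.trans ?_
  refine (comp_apc (bcMHom A (p i)) (ofTh g t hiso) U m le_rfl le_rfl).trans ?_
  rw [apc_bcMHom, apc_ofTh]
  refine (rs_refl _ _ _).trans ?_
  refine Eq.trans ?_ (hψ i U m e)
  refine Eq.trans ?_ (congrArg (fun z => ap z ((p i).left ⁻¹ᵁ (g.left ⁻¹ᵁ U))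
    (sc (p i).left (PB g.left B.E) (le_refl _) (sc g.left B.E (le_refl _) m))) (ht i))
  exact (map_sc (p i).left t (le_refl _) (sc g.left B.E (le_refl _) m)).symm

/-- Morphisms glue along a sieve containing an fpqc family. -/
theorem glueFrom_md (A : MObj X) (R : Sieve A.base)
    (h : ∃ (ι : Type u) (Z : ι → Over X) (p : ∀ i, Z i ⟶ A.base),
      Presieve.ofArrows (fun i => (Z i).left) (fun i => (p i).left) ∈ Scheme.fpqcPrecoverage A.base.left ∧
        ∀ i, R (p i)) : K751.Test.GlueFrom (Md X).p A R := by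
  intro B g φ hφ cφ
  obtain ⟨ι, Z, p, hp, hpR⟩ := h
  have cong : ∀ ⦃z : MObj X⦄ (a a' : z ⟶ A) (ha : R a.base) (ha' : R a'.base), a = a' → φ a ha = φ a' ha' := by
    rintro z a a' ha ha' rfl
    rfl
  obtain ⟨ψ, hψ1, hψ2⟩ := exists_glue A B p hp g (fun i => φ (bcMHom A (p i)) (hpR i))
    (fun i => hφ (bcMHom A (p i)) (hpR i)) (fun W i j b b' hbb => by
      have h1 : R (b ≫ bcMHom A (p i)).base := R.downward_closed (hpR i) b.base
      have h2 : R (b' ≫ bcMHom A (p j)).base := R.downward_closed (hpR j) b'.base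
      exact ((cφ b (bcMHom A (p i)) (hpR i) h1).symm.trans (cong _ _ h1 h2 hbb)).trans
        (cφ b' (bcMHom A (p j)) (hpR j) h2))
  refine ⟨ψ, ⟨hψ1, fun z a ha => ?_⟩, ?_⟩
  · obtain ⟨P, q, r, hqr, hP⟩ := exists_bc_cover p hp a.base
    refine sep (fun i => bcM z (q i)) (fun i => bcMHom z (q i)) hP ?_ fun i => ?_
    · exact (congrArg (fun t => a.base ≫ t) hψ1).trans (hφ a ha).symm
    · obtain ⟨γ, ⟨hγ1, hγ2⟩, -⟩ := md_existsUnique_lift (bcMHom A (p i)) (bcMHom z (q i) ≫ a) (r i) (hqr i).symm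
      have h1 : R (γ ≫ bcMHom A (p i)).base := R.downward_closed (hpR i) γ.base
      have h2 : R (bcMHom z (q i) ≫ a).base := R.downward_closed ha _
      calc bcMHom z (q i) ≫ a ≫ ψ = γ ≫ bcMHom A (p i) ≫ ψ := by
            rw [← Category.assoc, ← Category.assoc, hγ2]
        _ = γ ≫ φ (bcMHom A (p i)) (hpR i) := by rw [hψ2 i]
        _ = φ (γ ≫ bcMHom A (p i)) h1 := (cφ γ (bcMHom A (p i)) (hpR i) h1).symm
        _ = φ (bcMHom z (q i) ≫ a) h2 := cong _ _ h1 h2 hγ2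
        _ = bcMHom z (q i) ≫ φ a ha := cφ _ a ha h2
  · rintro ψ' ⟨h1, h2⟩
    exact sep (fun i => bcM A (p i)) (fun i => bcMHom A (p i)) hp (h1.trans hψ1.symm)
      (fun i => (h2 (bcMHom A (p i)) (hpR i)).trans (hψ2 i).symm)

/-- `Md X` is a prestack. -/
theorem isPrestack_md [K.IsStableUnderComposition] [K.IsStableUnderBaseChange] [K.HasPullbacks]
    [K.HasIsos] [Precoverage.Small.{u} K] (hK : K ≤ Scheme.fpqcPrecoverage) :
    Stk.IsPrestack (QuotSh.J K X) (Md X) := by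
  rw [K751.Test.isPrestack_iff]
  refine ⟨isFibGrpd_md X, fun A R hR => ?_⟩
  obtain ⟨ι, Z, p, hp, hpR⟩ := K185.Cover.exists_ofArrows_of_mem_J hR
  exact glueFrom_md A R ⟨ι, Z, p, hK _ hp, hpR⟩

end K927.ModSt
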