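import Groth.Agent.ModSt.K599.LMod
import Groth.Agent.ModSt.K927.MdPre

/-!
# Gluing arbitrary comparison maps of modules along fpqc families

* `thL` : the adjoint form of a morphism of `LObj`.
* `sepL` : morphisms out of `A`, `A.M` quasi-coherent, are determined on a family of cartesian morphisms which is an
  fpqc covering.
* `exists_glueL` : they glue.
-/

set_option autoImplicit false
universe v u

open CategoryTheory CategoryTheory.Limits AlgebraicGeometry Opposite ModSt Groth.Agent.Desc.QD K599.LMod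

noncomputable section

namespace K927.En

open K927.ModSt

/-- The comparison map on sections. -/
def apL {A B : LObj.{u}} (χ : A ⟶ B) (U : B.Y.Opens) : Γ(B.M, U) →+ Γ(A.M, χ.top ⁻¹ᵁ U) := ap χ.c U

theorem apL_rs {A B : LObj.{u}} (χ : A ⟶ B) {U V : B.Y.Opens} (h : V ≤ U) (m : Γ(B.M, U)) :
    apL χ V (rs B.M h m) = rs A.M (χ.top.preimage_mono h) (apL χ U m) := ap_rs χ.c h m

/-- The adjoint form of a morphism over `p`. -/
def thL {A B : LObj.{u}} (χ : A ⟶ B) (p : A.Y ⟶ B.Y) (h : χ.top = p) : PB p B.M ⟶ A.M :=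
  (adj p).symm (χ.c ≫ (Scheme.Modules.pushforwardCongr h).hom.app A.M)

theorem ap_thL {A B : LObj.{u}} (χ : A ⟶ B) (p : A.Y ⟶ B.Y) (h : χ.top = p)
    {U : B.Y.Opens} {W : A.Y.Opens} (e : W ≤ p ⁻¹ᵁ U) (e' : W ≤ χ.top ⁻¹ᵁ U) (m : Γ(B.M, U)) :
    ap (thL χ p h) W (sc p B.M e m) = rs A.M e' (apL χ U m) := by
  rw [thL, ap_adj_symm]
  exact ap_congr_app h A.M U _ e e'

theorem rs_ap_congr {A B : LObj.{u}} {χ χ' : A ⟶ B} (h : χ = χ') {U : B.Y.Opens} {W : A.Y.Opens}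
    (e : W ≤ χ.top ⁻¹ᵁ U) (e' : W ≤ χ'.top ⁻¹ᵁ U) (m : Γ(B.M, U)) :
    rs A.M e (apL χ U m) = rs A.M e' (apL χ' U m) := by
  subst h
  rfl

theorem ext_sec {A B : LObj.{u}} {χ χ' : A ⟶ B} (h : χ.top = χ'.top)
    (H : ∀ (U : B.Y.Opens) (m : Γ(B.M, U)) (e : χ.top ⁻¹ᵁ U ≤ χ'.top ⁻¹ᵁ U),
      apL χ U m = rs A.M e (apL χ' U m)) : χ = χ' := by
  obtain ⟨t, c⟩ := χ
  obtain ⟨t', c'⟩ := χ'
  cases h
  have : c = c' := by
    apply ap_ext
    intro U m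
    exact (H U m le_rfl).trans (rs_refl _ _ _)
  rw [this]

theorem ext_thL {A B : LObj.{u}} {χ χ' : A ⟶ B} (p : A.Y ⟶ B.Y) (h : χ.top = p) (h' : χ'.top = p)
    (H : thL χ p h = thL χ' p h') : χ = χ' := by
  refine ext_sec (h.trans h'.symm) fun U m e => ?_
  have e1 : χ.top ⁻¹ᵁ U ≤ p ⁻¹ᵁ U := by subst h; exact le_rfl
  have := ap_thL χ p h e1 le_rfl m
  rw [rs_refl] at this
  rw [← this, H, ap_thL χ' p h' e1 e]

theorem thL_congr {A B : LObj.{u}} {χ χ' : A ⟶ B} (H : χ = χ') (p : A.Y ⟶ B.Y) (h : χ.top = p) (h' : χ'.top = p) :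
    thL χ p h = thL χ' p h' := by
  subst H
  rfl

/-- The morphism with a given adjoint form. -/
def ofThL {A B : LObj.{u}} (p : A.Y ⟶ B.Y) (t : PB p B.M ⟶ A.M) : A ⟶ B := ⟨p, adj p t⟩

theorem thL_ofThL {A B : LObj.{u}} (p : A.Y ⟶ B.Y) (t : PB p B.M ⟶ A.M) : thL (ofThL (A := A) p t) p rfl = t := by
  apply Groth.Agent.Desc.QD.hom_ext
  intro U m
  refine (ap_thL (ofThL (A := A) p t) p rfl le_rfl le_rfl m).trans ?_
  exact (rs_refl _ _ _).trans (ap_adj p t U m)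

theorem isIso_thL {A B : LObj.{u}} (χ : A ⟶ B) (p : A.Y ⟶ B.Y) (h : χ.top = p) (hχ : Cart χ) :
    IsIso (thL χ p h) :=
  (isCart_iff _).1 (IsCart.congr hχ h)

theorem cart_of_isIso_thL {A B : LObj.{u}} (χ : A ⟶ B) (H : IsIso (thL χ χ.top rfl)) : Cart χ := by
  rw [Cart, isCart_iff]
  have h1 : thL χ χ.top rfl = (adj χ.top).symm χ.c := by
    rw [thL, pushforwardCongr_rfl_app, Category.comp_id]
  rw [h1] at H
  exact H

theorem comp_ap {A B C : LObj.{u}} (φ : A ⟶ B) (ψ : B ⟶ C) (U : C.Y.Opens) (m : Γ(C.M, U))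
    {W : A.Y.Opens} (e : W ≤ (φ ≫ ψ).top ⁻¹ᵁ U) (e' : W ≤ φ.top ⁻¹ᵁ (ψ.top ⁻¹ᵁ U)) :
    rs A.M e (apL (φ ≫ ψ) U m) = rs A.M e' (apL φ _ (apL ψ U m)) := rfl

theorem thL_comp {A B C : LObj.{u}} (φ : A ⟶ B) (ψ : B ⟶ C) (g : A.Y ⟶ B.Y) (g' : B.Y ⟶ C.Y) (k : A.Y ⟶ C.Y)
    (h : φ.top = g) (h' : ψ.top = g') (hk : (φ ≫ ψ).top = k) (w : g ≫ g' = k) :
    thL (φ ≫ ψ) k hk = cmp g g' k w C.M ≫ PBmap g (thL ψ g' h') ≫ thL φ g h := by
  subst h h' w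
  apply Groth.Agent.Desc.QD.hom_ext
  intro U m
  have e0 : (φ.top ≫ ψ.top) ⁻¹ᵁ U ≤ (φ ≫ ψ).top ⁻¹ᵁ U := le_rfl
  have e1 : (φ.top ≫ ψ.top) ⁻¹ᵁ U ≤ φ.top ⁻¹ᵁ (ψ.top ⁻¹ᵁ U) := le_rfl
  have e2 : ψ.top ⁻¹ᵁ U ≤ ψ.top ⁻¹ᵁ U := le_rfl
  rw [ap_thL (φ ≫ ψ) _ hk le_rfl e0]
  refine Eq.trans ?_ (ap_comp (cmp φ.top ψ.top _ rfl C.M) (PBmap φ.top (thL ψ ψ.top rfl) ≫ thL φ φ.top rfl) _ _).symm
  rw [cmp_sc _ _ _ _ _ le_rfl e1 le_rfl, ap_comp, map_sc, ap_thL ψ _ rfl le_rfl e2, rs_refl,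
    ap_thL φ _ rfl e1 e1]
  rfl

theorem thL_pbHom (A : LObj.{u}) {Y : Scheme.{u}} (p : Y ⟶ A.Y) : thL (pbHom A p) p rfl = 𝟙 _ := by
  rw [thL, pushforwardCongr_rfl_app, Category.comp_id, Equiv.symm_apply_eq]
  exact (Adjunction.homEquiv_id _ _).symm

theorem ap_pbHom (A : LObj.{u}) {Y : Scheme.{u}} (p : Y ⟶ A.Y) (U : A.Y.Opens) (m : Γ(A.M, U)) :
    apL (pbHom A p) U m = sc p A.M (le_refl (p ⁻¹ᵁ U)) m := by
  have h1 := ap_thL (pbHom A p) p rfl (le_refl (p ⁻¹ᵁ U)) (le_refl (p ⁻¹ᵁ U)) m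
  rw [thL_pbHom, rs_refl] at h1
  exact h1.symm

/-- The projection of a double base change. -/
def bbL (A : LObj.{u}) {Y W : Scheme.{u}} (p : Y ⟶ A.Y) (q : W ⟶ A.Y) (g : W ⟶ Y) (w : g ≫ p = q) : pb A q ⟶ pb A p :=
  ofThL (A := pb A q) (B := pb A p) g (cmpInv g p q w A.M)

theorem bbL_comp (A : LObj.{u}) {Y W : Scheme.{u}} (p : Y ⟶ A.Y) (q : W ⟶ A.Y) (g : W ⟶ Y) (w : g ≫ p = q) :
    bbL A p q g w ≫ pbHom A p = pbHom A q := by
  refine ext_thL q w rfl ?_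
  rw [thL_comp (bbL A p q g w) (pbHom A p) g p q rfl rfl w w, thL_pbHom, thL_pbHom]
  have h1 : thL (bbL A p q g w) g rfl = cmpInv g p q w A.M := thL_ofThL (A := pb A q) (B := pb A p) g _
  rw [h1]
  have h2 : PBmap g (𝟙 (PB p A.M)) = 𝟙 _ := (Scheme.Modules.pullback g).map_id _
  rw [h2, Category.id_comp, cmp_cmpInv]

section sep

/-- A section is determined on a covering. -/
theorem sec_sepL {ι : Type v} {A : LObj.{u}} (hA : Coh.IsQCoh A.M) (Z : ι → LObj.{u}) (β : ∀ i, Z i ⟶ A)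
    (hβ : ∀ i, Cart (β i))
    (hcov : Presieve.ofArrows (fun i => (Z i).Y) (fun i => (β i).top) ∈ Scheme.fpqcPrecoverage A.Y)
    (U : A.Y.Opens) {s s' : Γ(A.M, U)} (h : ∀ i, apL (β i) U s = apL (β i) U s') : s = s' := by
  refine Groth.Agent.Desc.QD.sec_ext (fun i => (β i).top) hcov A.M hA fun i => ?_
  have := isIso_thL (β i) (β i).top rfl (hβ i)
  apply (ap_bijective (thL (β i) (β i).top rfl) _).1
  rw [ap_thL (β i) _ rfl le_rfl le_rfl, ap_thL (β i) _ rfl le_rfl le_rfl, h i]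

/-- Morphisms are determined on a covering. -/
theorem sepL {ι : Type v} {A B : LObj.{u}} (hA : Coh.IsQCoh A.M) (Z : ι → LObj.{u}) (β : ∀ i, Z i ⟶ A)
    (hβ : ∀ i, Cart (β i))
    (hcov : Presieve.ofArrows (fun i => (Z i).Y) (fun i => (β i).top) ∈ Scheme.fpqcPrecoverage A.Y)
    {χ χ' : A ⟶ B} (hb : χ.top = χ'.top) (h : ∀ i, β i ≫ χ = β i ≫ χ') : χ = χ' := by
  refine ext_sec hb fun U m e => ?_
  refine sec_sepL hA Z β hβ hcov _ fun i => ?_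
  have h1 := rs_ap_congr (h i) (W := (β i).top ⁻¹ᵁ (χ.top ⁻¹ᵁ U)) le_rfl
    ((β i).top.preimage_mono e) m
  rw [apL_rs, ← comp_ap (β i) χ' U m (W := (β i).top ⁻¹ᵁ (χ.top ⁻¹ᵁ U))
    ((β i).top.preimage_mono e) ((β i).top.preimage_mono e), ← h1]
  exact (rs_refl _ _ _).symm

end sep

/-- Gluing, over the identity, for a family of base changes. -/
theorem exists_glue_pb {ι : Type v} {A : LObj.{u}} (hA : Coh.IsQCoh A.M) {Y : ι → Scheme.{u}} (p : ∀ i, Y i ⟶ A.Y)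
    (hcov : Presieve.ofArrows Y p ∈ Scheme.fpqcPrecoverage A.Y) {M : A.Y.Modules}
    (χ : ∀ i, pb A (p i) ⟶ (⟨A.Y, M⟩ : LObj.{u})) (hχ : ∀ i, (χ i).top = p i)
    (H : ∀ (W : LObj.{u}) (i j : ι) (a : W ⟶ pb A (p i)) (b : W ⟶ pb A (p j)), Cart a → Cart b →
      a ≫ pbHom A (p i) = b ≫ pbHom A (p j) → a ≫ χ i = b ≫ χ j) :
    ∃ φ : M ⟶ A.M, ∀ i, pbHom A (p i) ≫ ofMap φ = χ i := by
  let ψ : ∀ i, PB (p i) M ⟶ PB (p i) A.M := fun i => thL (χ i) (p i) (hχ i)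
  have hcart : ∀ {Y W : Scheme.{u}} (p : Y ⟶ A.Y) (q : W ⟶ A.Y) (g : W ⟶ Y) (w : g ≫ p = q), Cart (bbL A p q g w) := by
    intro Y W p q g w
    refine Cart.of_comp (cart_pbHom A p) ?_
    rw [bbL_comp]
    exact cart_pbHom A q
  have key : ∀ (i j : ι) (Z : Scheme.{u}) (gi : Z ⟶ Y i) (gj : Z ⟶ Y j) (c : Z ⟶ A.Y)
      (wi : gi ≫ p i = c) (wj : gj ≫ p j = c),
      pullH (ψ i) gi c c wi wi = pullH (ψ j) gj c c wj wj := by
    intro i j Z gi gj c wi wj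
    have h1 := H (pb A c) i j (bbL A (p i) c gi wi) (bbL A (p j) c gj wj) (hcart _ _ _ _) (hcart _ _ _ _)
      ((bbL_comp A (p i) c gi wi).trans (bbL_comp A (p j) c gj wj).symm)
    have h2 : ∀ (l : ι) (gl : Z ⟶ Y l) (wl : gl ≫ p l = c) (h : (bbL A (p l) c gl wl ≫ χ l).top = c),
        thL (bbL A (p l) c gl wl ≫ χ l) c h = pullH (ψ l) gl c c wl wl := by
      intro l gl wl h
      rw [thL_comp (bbL A (p l) c gl wl) (χ l) gl (p l) c rfl (hχ l) h wl]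
      have h3 : thL (bbL A (p l) c gl wl) gl rfl = cmpInv gl (p l) c wl A.M :=
        thL_ofThL (A := pb A c) (B := pb A (p l)) gl _
      rw [h3]
      rfl
    have t1 : (bbL A (p i) c gi wi ≫ χ i).top = c := by
      change gi ≫ (χ i).top = c
      rw [hχ i, wi]
    have t2 : (bbL A (p j) c gj wj ≫ χ j).top = c := by
      change gj ≫ (χ j).top = c
      rw [hχ j, wj]
    rw [← h2 i gi wi t1, ← h2 j gj wj t2]
    exact thL_congr h1 c t1 t2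
  obtain ⟨φ, hφ⟩ := exists_hom_fpqc p hcov hA ψ key
  refine ⟨φ, fun i => ?_⟩
  have ht : (pbHom A (p i) ≫ ofMap φ).top = p i := Category.comp_id _
  refine ext_thL (p i) ht (hχ i) ?_
  apply Groth.Agent.Desc.QD.hom_ext
  intro U m
  have e1 : (p i) ⁻¹ᵁ U ≤ (pbHom A (p i) ≫ ofMap φ).top ⁻¹ᵁ U := by rw [ht]
  rw [ap_thL (pbHom A (p i) ≫ ofMap φ) (p i) ht le_rfl e1 m]
  have h1 : ap (PBmap (p i) φ) (p i ⁻¹ᵁ U) (sc (p i) M le_rfl m) = ap (ψ i) (p i ⁻¹ᵁ U) (sc (p i) M le_rfl m) := by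
    rw [hφ i]
  refine Eq.trans ?_ h1
  rw [map_sc]
  have h2 := ap_pbHom A (p i) U (ap φ U m)
  rw [← h2]
  exact rs_refl (PB (p i) A.M) (le_refl (p i ⁻¹ᵁ U)) (apL (pbHom A (p i)) U (ap φ U m))

/-- Morphisms out of `A` glue along a family of cartesian morphisms which is an fpqc covering. -/
theorem exists_glueL {ι : Type v} {A B : LObj.{u}} (hA : Coh.IsQCoh A.M) (Z : ι → LObj.{u}) (β : ∀ i, Z i ⟶ A)
    (hβ : ∀ i, Cart (β i))
    (hcov : Presieve.ofArrows (fun i => (Z i).Y) (fun i => (β i).top) ∈ Scheme.fpqcPrecoverage A.Y)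
    (t : A.Y ⟶ B.Y) (χ : ∀ i, Z i ⟶ B) (hχ : ∀ i, (χ i).top = (β i).top ≫ t)
    (H : ∀ (W : LObj.{u}) (i j : ι) (a : W ⟶ Z i) (b : W ⟶ Z j), Cart a → Cart b →
      a ≫ β i = b ≫ β j → a ≫ χ i = b ≫ χ j) :
    ∃ ψ : A ⟶ B, ψ.top = t ∧ ∀ i, β i ≫ ψ = χ i := by
  -- the comparison with the inverse images
  choose u hu using fun i => (hβ i).existsUnique_lift (pbHom A (β i).top) (𝟙 _) (Category.id_comp _)
  choose v hv using fun i => (cart_pbHom A (β i).top).existsUnique_lift (β i) (𝟙 _) (Category.id_comp _)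
  have hu1 : ∀ i, (u i).top = 𝟙 _ := fun i => (hu i).1.1
  have hu2 : ∀ i, u i ≫ β i = pbHom A (β i).top := fun i => (hu i).1.2
  have hv1 : ∀ i, (v i).top = 𝟙 _ := fun i => (hv i).1.1
  have hv2 : ∀ i, v i ≫ pbHom A (β i).top = β i := fun i => (hv i).1.2
  have huc : ∀ i, Cart (u i) := fun i => Cart.of_comp (hβ i) (by rw [hu2]; exact cart_pbHom A _)
  have hvu : ∀ i, v i ≫ u i = 𝟙 _ := fun i => by
    refine (hβ i).hom_ext' ?_ ?_
    · rw [comp_top, hu1, hv1]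
      exact Category.comp_id _
    · rw [Category.assoc, hu2, hv2, Category.id_comp]
  -- the target
  choose w hw using fun i => (cart_pbHom B t).existsUnique_lift (u i ≫ χ i) (β i).top (by
    rw [comp_top, hu1, hχ]
    exact (Category.id_comp _).symm)
  have hw1 : ∀ i, (w i).top = (β i).top := fun i => (hw i).1.1
  have hw2 : ∀ i, w i ≫ pbHom B t = u i ≫ χ i := fun i => (hw i).1.2
  obtain ⟨φ, hφ⟩ := exists_glue_pb hA (fun i => (β i).top) hcov (M := (Scheme.Modules.pullback t).obj B.M) w hw1 (by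
    intro W i j a b ha hb hab
    refine (cart_pbHom B t).hom_ext' ?_ ?_
    · have h1 : (a ≫ pbHom A (β i).top).top = (b ≫ pbHom A (β j).top).top := by rw [hab]
      rw [comp_top, comp_top, hw1, hw1]
      exact h1
    · rw [Category.assoc, Category.assoc, hw2, hw2, ← Category.assoc, ← Category.assoc]
      refine H W i j (a ≫ u i) (b ≫ u j) (ha.comp (huc i)) (hb.comp (huc j)) ?_
      rw [Category.assoc, Category.assoc, hu2, hu2, hab])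
  refine ⟨ofMap φ ≫ pbHom B t, ?_, fun i => ?_⟩
  · exact Category.id_comp t
  · have h1 : β i ≫ ofMap φ ≫ pbHom B t = v i ≫ (pbHom A (β i).top ≫ ofMap φ) ≫ pbHom B t := by
      rw [Category.assoc, reassoc_of% hv2 i]
    rw [h1, hφ, hw2, reassoc_of% hvu i]

end K927.En
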