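import Groth.Agent.ModSt.K927.BcStack
import Groth.Agent.PerfB.ApproxMain
import Groth.Agent.PerfB.StructFlat

/-!
# Algebraicity of `Coh f`: reduction to bases of finite type over `ℤ`

* `isAlgStack_coh_of_fg`.
-/

set_option autoImplicit false
universe v u

open CategoryTheory CategoryTheory.Limits AlgebraicGeometry Opposite ModSt K927.PrChart

noncomputable section

namespace K927.ModSt

/-- `Coh h` is an algebraic stack with products of objects. -/
def Good {Y R : Scheme.{u}} (h : Y ⟶ R) : Prop :=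
  AlgSt.IsAlgStack Scheme.fppfPrecoverage (Coh h) ∧
    ∀ x y : (Coh h).obj, ∃ (w : (Coh h).obj) (p : w ⟶ x) (q : w ⟶ y), IsProd p q

theorem exists_model
    (H : ∀ (Λ : Type u) [CommRing Λ] [Algebra.FiniteType ℤ Λ] {Y : Scheme.{u}} (h : Y ⟶ Spec (CommRingCat.of Λ))
      [IsProper h] [LocallyOfFinitePresentation h], Good h)
    {X S : Scheme.{u}} (f : X ⟶ S) [IsProper f] [LocallyOfFinitePresentation f] (s : S) : Nonempty (Model f s) := by
  obtain ⟨W, hW, hs, -⟩ := exists_isAffineOpen_mem_and_subset (x := s) (U := ⊤) trivial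
  let j : Spec (CommRingCat.of Γ(S, W)) ⟶ S := hW.fromSpec
  have hj : IsOpenImmersion j := inferInstanceAs (IsOpenImmersion hW.fromSpec)
  have hmem : s ∈ Set.range j := by
    have h1 : Set.range j = (W : Set S) := hW.range_fromSpec
    rw [h1]
    exact hs
  have sq := IsPullback.of_hasPullback f j
  have p1 : IsProper (pullback.snd f j) := inferInstance
  have p2 : LocallyOfFinitePresentation (pullback.snd f j) := inferInstance
  obtain ⟨A₀, X₀, f₀, g, F₀, hfg, hlfp, hqc, hqs, hpb, -, -, -, -, hprop, -, -⟩ :=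
    Groth.Agent.PerfB.ApproxMain.exists_noetherian_model Γ(S, W) (pullback.snd f j)
      (Coh.structureModule _) (Groth.Agent.PerfB.StructFlat.isFP_structure)
  have hft : Algebra.FiniteType ℤ A₀ := A₀.fg_iff_finiteType.1 hfg
  have := hprop p1
  obtain ⟨h1, h2⟩ := H A₀ f₀
  exact ⟨{ open_j := hj, mem := hmem, sq := sq, sq₀ := hpb, isAlgStack := h1, pr := h2 }⟩

theorem isAlgStack_coh_of_fg
    (H : ∀ (Λ : Type u) [CommRing Λ] [Algebra.FiniteType ℤ Λ] {Y : Scheme.{u}} (h : Y ⟶ Spec (CommRingCat.of Λ))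
      [IsProper h] [LocallyOfFinitePresentation h], Good h)
    {X S : Scheme.{u}} (f : X ⟶ S) [IsProper f] [LocallyOfFinitePresentation f] :
    AlgSt.IsAlgStack Scheme.fppfPrecoverage (Coh f) :=
  isAlgStack_coh_of_models f (exists_model H f)

end K927.ModSt
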