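import Groth.Agent.ModSt.K927.BcPull

/-!
# Transfer of products of families along a change of the base scheme

`S₀ ⟵ S' ⟶ S`, cartesian squares `X₀ ⟵ X' ⟶ X`.
* `exists_prod_transfer`.
-/

set_option autoImplicit false
universe v u

open CategoryTheory CategoryTheory.Limits AlgebraicGeometry Opposite ModSt

noncomputable section

namespace K927.ModSt

/-- `w` is the product of `x` and `y` in the category of families. -/
def IsProdF {X S : Scheme.{u}} {f : X ⟶ S} {x y w : Obj f} (p : w ⟶ x) (q : w ⟶ y) : Prop :=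
  ∀ (z : Obj f) (a : z ⟶ x) (b : z ⟶ y), ∃! c : z ⟶ w, c ≫ p = a ∧ c ≫ q = b

variable {X' S' X S X₀ S₀ : Scheme.{u}} {f' : X' ⟶ S'} {f : X ⟶ S} {a : X' ⟶ X} {j : S' ⟶ S}
  {f₀ : X₀ ⟶ S₀} {a₀ : X' ⟶ X₀} {g : S' ⟶ S₀} {sq : IsPullback a f' f j} {sq₀ : IsPullback a₀ f' f₀ g}

theorem prod_transfer_aux {ξ₀ : Obj f₀} {ξ' : Obj f'} (ε₀ : push sq₀ ξ' ⟶ ξ₀)
    (h₀ : IsPullback ε₀.base.left ξ'.base.hom ξ₀.base.hom g) {τ : Obj f} {τ' : Obj f'} (ε : push sq τ' ⟶ τ)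
    (h : IsPullback ε.base.left τ'.base.hom τ.base.hom j) {w' : Obj f'} (p' : w' ⟶ τ') (q' : w' ⟶ ξ')
    (H : IsProdF (pushHom (sq := sq₀) p') (pushHom q' ≫ ε₀)) :
    IsProdF (pushHom (sq := sq) p' ≫ ε) (pushHom (sq := sq) q') := by
  intro z α β
  obtain ⟨z', e, hk⟩ := exists_push sq z (β.base.left ≫ ξ'.base.hom)
    ((Category.assoc _ _ _).trans (Over.w β.base))
  subst e
  have hk' : β.base.left ≫ ξ'.base.hom = z'.base.hom := hk.trans (Category.id_comp _)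
  obtain ⟨β', hβ⟩ := exists_pushHom (sq := sq) β hk'
  subst hβ
  obtain ⟨α', hα, huniq⟩ := pull_univ ε h z' α
  dsimp only at hα huniq
  subst hα
  obtain ⟨c₀, ⟨hc1, hc2⟩, hc3⟩ := H (push sq₀ z') (pushHom α') (pushHom β' ≫ ε₀)
  have hb : c₀.base.left ≫ w'.base.hom = z'.base.hom := by
    have h1 : (c₀ ≫ pushHom (sq := sq₀) p').base.left = (pushHom (sq := sq₀) α').base.left := by rw [hc1]
    have h2 : c₀.base.left ≫ p'.base.left = α'.base.left := h1
    have h3 : p'.base.left ≫ τ'.base.hom = w'.base.hom := Over.w p'.base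
    have h4 : α'.base.left ≫ τ'.base.hom = z'.base.hom := Over.w α'.base
    rw [← h3, ← h4, ← h2]
    exact (Category.assoc _ _ _).symm
  obtain ⟨c', hc'⟩ := exists_pushHom (sq := sq₀) c₀ hb
  subst hc'
  have e1 : c' ≫ p' = α' := pushHom_injective (sq := sq₀) hc1
  have e2 : c' ≫ q' = β' := by
    refine (pull_univ ε₀ h₀ z' (pushHom β' ≫ ε₀)).unique ?_ rfl
    rw [← hc2, pushHom_comp, Category.assoc]
  refine ⟨pushHom (sq := sq) c', ⟨?_, ?_⟩, ?_⟩
  · rw [← Category.assoc, ← pushHom_comp, e1]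
  · rw [← pushHom_comp, e2]
  · rintro d ⟨hd1, hd2⟩
    have hb' : d.base.left ≫ w'.base.hom = z'.base.hom := by
      have h1 : (d ≫ pushHom (sq := sq) q').base.left = (pushHom (sq := sq) β').base.left := by rw [hd2]
      have h2 : d.base.left ≫ q'.base.left = β'.base.left := h1
      have h3 : q'.base.left ≫ ξ'.base.hom = w'.base.hom := Over.w q'.base
      have h4 : β'.base.left ≫ ξ'.base.hom = z'.base.hom := Over.w β'.base
      rw [← h3, ← h4, ← h2]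
      exact (Category.assoc _ _ _).symm
    obtain ⟨d', hd'⟩ := exists_pushHom (sq := sq) d hb'
    subst hd'
    have i1 : d' ≫ p' = α' := by
      refine huniq _ ?_
      rw [pushHom_comp, Category.assoc, hd1]
    have i2 : d' ≫ q' = β' := pushHom_injective (sq := sq) hd2
    have i3 : pushHom (sq := sq₀) d' = pushHom (sq := sq₀) c' := by
      refine hc3 _ ⟨?_, ?_⟩
      · rw [← pushHom_comp, i1]
      · rw [← Category.assoc, ← pushHom_comp, i2]
    rw [pushHom_injective (sq := sq₀) i3]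

theorem exists_prod_transfer {ξ₀ : Obj f₀} {ξ' : Obj f'} (ε₀ : push sq₀ ξ' ⟶ ξ₀)
    (h₀ : IsPullback ε₀.base.left ξ'.base.hom ξ₀.base.hom g) {τ : Obj f} {τ' : Obj f'} (ε : push sq τ' ⟶ τ)
    (h : IsPullback ε.base.left τ'.base.hom τ.base.hom j) {w₀ : Obj f₀} (p₀ : w₀ ⟶ push sq₀ τ') (q₀ : w₀ ⟶ ξ₀)
    (H : IsProdF p₀ q₀) :
    ∃ (w' : Obj f') (p' : w' ⟶ τ') (q' : w' ⟶ ξ'), IsProdF (pushHom (sq := sq) p' ≫ ε) (pushHom (sq := sq) q') ∧
      ∀ Q : MorphismProperty Scheme.{u}, Q p₀.base.left → Q p'.base.left := by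
  obtain ⟨w', e, hk⟩ := exists_push sq₀ w₀ (p₀.base.left ≫ τ'.base.hom)
    ((Category.assoc _ _ _).trans (Over.w p₀.base))
  subst e
  have hk' : p₀.base.left ≫ τ'.base.hom = w'.base.hom := hk.trans (Category.id_comp _)
  obtain ⟨p', hp⟩ := exists_pushHom (sq := sq₀) p₀ hk'
  subst hp
  obtain ⟨q', hq, -⟩ := pull_univ ε₀ h₀ w' q₀
  subst hq
  exact ⟨w', p', q', prod_transfer_aux ε₀ h₀ ε h p' q' H, fun Q hQ => hQ⟩

end K927.ModSt
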