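import Groth.Agent.ModSt.K927.BcPush

/-!
# Pull-back of families along a change of the base scheme

* `exists_pull` : the right adjoint of `push`.
-/

set_option autoImplicit false
universe v u

open CategoryTheory CategoryTheory.Limits AlgebraicGeometry Opposite ModSt

noncomputable section

namespace K927.ModSt

variable {X' S' Z R : Scheme.{u}} {f' : X' ⟶ S'} {h : Z ⟶ R} {a : X' ⟶ Z} {g : S' ⟶ R} (sq : IsPullback a f' h g)

theorem exists_pull_aux (ξ C : Obj h) (ε : C ⟶ ξ) (k : C.base.left ⟶ S')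
    (hpb : IsPullback ε.base.left k ξ.base.hom g) :
    ∃ (ξ' : Obj f') (ε' : push sq ξ' ⟶ ξ), IsPullback ε'.base.left ξ'.base.hom ξ.base.hom g := by
  obtain ⟨ξ', e, hk⟩ := exists_push sq C k (hpb.w.symm.trans (Over.w ε.base))
  subst e
  have hk' : k = ξ'.base.hom := hk.trans (Category.id_comp _)
  exact ⟨ξ', ε, hk' ▸ hpb⟩

variable {sq} in
theorem pull_univ {ξ : Obj h} {ξ' : Obj f'} (ε : push sq ξ' ⟶ ξ)
    (hpb : IsPullback ε.base.left ξ'.base.hom ξ.base.hom g) (z : Obj f') (φ : push sq z ⟶ ξ) :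
    ∃! φ' : z ⟶ ξ', pushHom φ' ≫ ε = φ := by
  have hw : φ.base.left ≫ ξ.base.hom = z.base.hom ≫ g := Over.w φ.base
  obtain ⟨b, hb1, hb2⟩ : ∃ b : z.base.left ⟶ ξ'.base.left, b ≫ ε.base.left = φ.base.left ∧ b ≫ ξ'.base.hom = z.base.hom :=
    ⟨hpb.lift φ.base.left z.base.hom hw, hpb.lift_fst _ _ _, hpb.lift_snd _ _ _⟩
  let b' : (push sq z).base ⟶ (push sq ξ').base := Over.homMk b (by
    change b ≫ ξ'.base.hom ≫ g = z.base.hom ≫ g
    rw [← Category.assoc, hb2])
  have hb' : b' ≫ ε.base = φ.base := Over.OverMorphism.ext hb1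
  obtain ⟨χ, ⟨h1, h2⟩, h3⟩ := existsUnique_lift ε φ b' hb'
  obtain ⟨φ', h4⟩ := exists_pushHom (sq := sq) χ (by rw [h1]; exact hb2)
  refine ⟨φ', by dsimp only; rw [h4]; exact h2, ?_⟩
  intro φ'' h5
  apply pushHom_injective (sq := sq)
  rw [h4]
  refine h3 _ ⟨?_, h5⟩
  apply Over.OverMorphism.ext
  apply hpb.hom_ext
  · have h6 : (pushHom (sq := sq) φ'' ≫ ε).base.left = φ.base.left := by rw [h5]
    exact h6.trans hb1.symm
  · have h7 : φ''.base.left ≫ ξ'.base.hom = z.base.hom := Over.w φ''.base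
    exact h7.trans hb2.symm

theorem exists_pull (ξ : Obj h) : ∃ (ξ' : Obj f') (ε : push sq ξ' ⟶ ξ),
    IsPullback ε.base.left ξ'.base.hom ξ.base.hom g := by
  let V : Over R := Over.mk (pullback.fst ξ.base.hom g ≫ ξ.base.hom)
  let v : V ⟶ ξ.base := Over.homMk (pullback.fst ξ.base.hom g) rfl
  exact exists_pull_aux sq ξ (bc ξ v) (bcHom ξ v) (pullback.snd ξ.base.hom g) (IsPullback.of_hasPullback _ _)

end K927.ModSt
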