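import Groth.Agent.ModSt.K927.RSFam

/-!
# Glueing morphisms of `Fam f` over a fibre product of rings

* `existsUnique_glue_hom`.
-/

set_option autoImplicit false
universe v u

open CategoryTheory CategoryTheory.Limits AlgebraicGeometry Opposite ModSt Groth.Agent.Desc.QD K28 K927.RSAlg

noncomputable section

namespace K927.ModSt

variable {X S : Scheme.{u}} {f : X ⟶ S}

/-- The pull-back of `y` on the total space of `w`. -/
abbrev pbTop (y w : Obj f) (τ : w.XT ⟶ y.XT) : Obj f where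
  base := w.base
  XT := w.XT
  p := w.p
  q := w.q
  isPullback := w.isPullback
  E := PB τ y.E

/-- Its projection to `y`. -/
def pbTopHom (y w : Obj f) (τ : w.XT ⟶ y.XT) (g : w.base ⟶ y.base) (h1 : τ ≫ y.p = w.p)
    (h2 : τ ≫ y.q = w.q ≫ g.left) : pbTop y w τ ⟶ y where
  base := g
  top := τ
  w_p := h1
  w_q := h2
  c := (Scheme.Modules.pullbackPushforwardAdjunction τ).unit.app y.E
  cart := isCart_unit _ _

theorem exists_lift_top {x y w : Obj f} (c' : x ⟶ y) (τ : w.XT ⟶ y.XT) (g : w.base ⟶ y.base)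
    (h1 : τ ≫ y.p = w.p) (h2 : τ ≫ y.q = w.q ≫ g.left) (gx : x.base ⟶ w.base) (hg : gx ≫ g = c'.base)
    (i : x.XT ⟶ w.XT) (hip : i ≫ w.p = x.p) (hiq : i ≫ w.q = x.q ≫ gx.left) :
    ∃ (c1 : PB τ y.E ⟶ (Scheme.Modules.pushforward i).obj x.E) (hc : IsCart i c1),
      (⟨gx, i, hip, hiq, c1, hc⟩ : x ⟶ pbTop y w τ) ≫ pbTopHom y w τ g h1 h2 = c' := by
  obtain ⟨⟨b, t, wp, wq, c1, hc1⟩, ⟨hb, hcomp⟩, -⟩ := existsUnique_lift (pbTopHom y w τ g h1 h2) c' gx hg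
  dsimp only at hb
  subst hb
  have ht : t = i := by
    apply w.isPullback.hom_ext
    · exact wp.trans hip.symm
    · exact wq.trans hiq.symm
  subst ht
  exact ⟨c1, hc1, hcomp⟩

theorem mk_congr {A B : Obj f} {b : A.base ⟶ B.base} {t : A.XT ⟶ B.XT} {wp : t ≫ B.p = A.p}
    {wq : t ≫ B.q = A.q ≫ b.left} {c c' : B.E ⟶ (Scheme.Modules.pushforward t).obj A.E} {hc : IsCart t c}
    {hc' : IsCart t c'} (h : c = c') : (⟨b, t, wp, wq, c, hc⟩ : A ⟶ B) = ⟨b, t, wp, wq, c', hc'⟩ := by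
  subst h
  rfl

theorem hom_eq_of_comp {x y w : Obj f} (τ : w.XT ⟶ y.XT) (g : w.base ⟶ y.base)
    (h1 : τ ≫ y.p = w.p) (h2 : τ ≫ y.q = w.q ≫ g.left) (Θ : PB τ y.E ⟶ w.E)
    (hcart : IsCart τ ((Scheme.Modules.pullbackPushforwardAdjunction τ).unit.app y.E ≫
      (Scheme.Modules.pushforward τ).map Θ)) (c : x ⟶ w) (c1 : PB τ y.E ⟶ (Scheme.Modules.pushforward c.top).obj x.E)
    (hc1 : IsCart c.top c1) (hΘ : Θ ≫ c.c = c1) :
    c ≫ (⟨g, τ, h1, h2, _, hcart⟩ : w ⟶ y) =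
      (⟨c.base, c.top, c.w_p, c.w_q, c1, hc1⟩ : x ⟶ pbTop y w τ) ≫ pbTopHom y w τ g h1 h2 := by
  subst hΘ
  refine mk_congr ?_
  change ((Scheme.Modules.pullbackPushforwardAdjunction τ).unit.app y.E ≫ (Scheme.Modules.pushforward τ).map Θ) ≫
    (Scheme.Modules.pushforward τ).map c.c ≫ (Scheme.Modules.pushforwardComp c.top τ).hom.app x.E =
    (Scheme.Modules.pullbackPushforwardAdjunction τ).unit.app y.E ≫
    (Scheme.Modules.pushforward τ).map (Θ ≫ c.c) ≫ (Scheme.Modules.pushforwardComp c.top τ).hom.app x.E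
  rw [Functor.map_comp]
  simp only [Category.assoc]

theorem isCart_of_isIso {Y Z : Scheme.{u}} (τ : Y ⟶ Z) {N : Z.Modules} {M : Y.Modules} (Θ : PB τ N ⟶ M) [IsIso Θ] :
    IsCart τ ((Scheme.Modules.pullbackPushforwardAdjunction τ).unit.app N ≫ (Scheme.Modules.pushforward τ).map Θ) := by
  refine (isCart_iff (h := τ) (N := N) (M := M) _).2 ?_
  have h : (Scheme.Modules.pullbackPushforwardAdjunction τ).unit.app N ≫ (Scheme.Modules.pushforward τ).map Θ =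
      (Scheme.Modules.pullbackPushforwardAdjunction τ).homEquiv N M Θ := (Adjunction.homEquiv_unit _ _ _ _).symm
  have h2 : ((Scheme.Modules.pullbackPushforwardAdjunction τ).homEquiv N M).symm
      ((Scheme.Modules.pullbackPushforwardAdjunction τ).unit.app N ≫ (Scheme.Modules.pushforward τ).map Θ) = Θ := by
    rw [Equiv.symm_apply_eq]
    exact h
  have h3 : IsIso Θ := inferInstance
  rw [← h2] at h3
  exact h3

theorem cs_congr {A B : Obj f} {φ ψ : A ⟶ B} (h : φ = ψ) {U : B.XT.Opens} {V : A.XT.Opens}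
    (e : V ≤ φ.top ⁻¹ᵁ U) (e' : V ≤ ψ.top ⁻¹ᵁ U) (s : Γ(B.E, U)) :
    cs φ.top φ.c e s = cs ψ.top ψ.c e' s := by
  subst h
  rfl

theorem ap_cs {A B C : Obj f} (φ : A ⟶ B) (ψ : B ⟶ C) {U : C.XT.Opens} {V : B.XT.Opens}
    (e : V ≤ ψ.top ⁻¹ᵁ U) (e' : φ.top ⁻¹ᵁ V ≤ (φ ≫ ψ).top ⁻¹ᵁ U) (s : Γ(C.E, U)) :
    (ap φ.c V (cs ψ.top ψ.c e s) : Γ(A.E, φ.top ⁻¹ᵁ V)) = cs (φ ≫ ψ).top (φ ≫ ψ).c e' s := by
  exact ap_rs φ.c e (ap ψ.c U s : Γ(B.E, ψ.top ⁻¹ᵁ U))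

theorem hom_ext_of_glue {z x x' w y : Obj f} (a : z ⟶ x) (b : z ⟶ x') (c : x ⟶ w) (d : x' ⟶ w)
    (h : a ≫ c = b ≫ d) (B : BSq a.base b.base c.base d.base) (fx : FlatMod.IsFlatOver x.q x.E)
    (fx' : FlatMod.IsFlatOver x'.q x'.E) (qx : Coh.IsQCoh x.E) (qx' : Coh.IsQCoh x'.E) (qz : Coh.IsQCoh z.E)
    (qw : Coh.IsQCoh w.E) {e1 e2 : w ⟶ y} (hb : e1.base = e2.base) (h1 : c ≫ e1 = c ≫ e2)
    (h2 : d ≫ e1 = d ≫ e2) : e1 = e2 := by
  have G := BSq.gcube a b B w.isPullback c.top c.w_p c.w_q d.top d.w_p d.w_q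
  have ht : e1.top = e2.top := by
    apply y.isPullback.hom_ext
    · rw [e1.w_p, e2.w_p]
    · rw [e1.w_q, e2.w_q, hb]
  refine fam_ext_sec hb ht fun U s e e' => ?_
  have P := pairBij_of_cart G a.cart b.cart qx qx' fx fx' c.c d.c (al_be_of_comp a b c d h G.w) qw qz c.cart d.cart
    (e1.top ⁻¹ᵁ U)
  rw [← sub_eq_zero]
  refine P.1 _ ?_ ?_
  · rw [map_sub, sub_eq_zero]
    have i1 : c.top ⁻¹ᵁ (e1.top ⁻¹ᵁ U) ≤ (c ≫ e1).top ⁻¹ᵁ U := le_rfl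
    have i2 : c.top ⁻¹ᵁ (e1.top ⁻¹ᵁ U) ≤ (c ≫ e2).top ⁻¹ᵁ U := by rw [← h1]; exact i1
    exact (ap_cs c e1 e i1 s).trans ((cs_congr h1 i1 i2 s).trans (ap_cs c e2 e' i2 s).symm)
  · rw [map_sub, sub_eq_zero]
    have i1 : d.top ⁻¹ᵁ (e1.top ⁻¹ᵁ U) ≤ (d ≫ e1).top ⁻¹ᵁ U := le_rfl
    have i2 : d.top ⁻¹ᵁ (e1.top ⁻¹ᵁ U) ≤ (d ≫ e2).top ⁻¹ᵁ U := by rw [← h2]; exact i1
    exact (ap_cs d e1 e i1 s).trans ((cs_congr h2 i1 i2 s).trans (ap_cs d e2 e' i2 s).symm)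

/-- **Glueing of morphisms.** -/
theorem existsUnique_glue_hom {z x x' w y : Obj f} (a : z ⟶ x) (b : z ⟶ x') (c : x ⟶ w) (d : x' ⟶ w)
    (h : a ≫ c = b ≫ d) (B : BSq a.base b.base c.base d.base) (fx : FlatMod.IsFlatOver x.q x.E)
    (fx' : FlatMod.IsFlatOver x'.q x'.E) (qx : Coh.IsQCoh x.E) (qx' : Coh.IsQCoh x'.E) (qz : Coh.IsQCoh z.E)
    (qw : Coh.IsQCoh w.E) (qy : Coh.IsQCoh y.E) (g : w.base ⟶ y.base) (c' : x ⟶ y) (d' : x' ⟶ y)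
    (hc' : c.base ≫ g = c'.base) (hd' : d.base ≫ g = d'.base) (h' : a ≫ c' = b ≫ d') :
    ∃! e : w ⟶ y, e.base = g ∧ c ≫ e = c' ∧ d ≫ e = d' := by
  have G := BSq.gcube a b B w.isPullback c.top c.w_p c.w_q d.top d.w_p d.w_q
  let τ : w.XT ⟶ y.XT := topMap w g y.isPullback
  have τ1 : τ ≫ y.p = w.p := topMap_p _ _ _
  have τ2 : τ ≫ y.q = w.q ≫ g.left := topMap_q _ _ _
  obtain ⟨c1, hc1, ec⟩ := exists_lift_top c' τ g τ1 τ2 c.base hc' c.top c.w_p c.w_q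
  obtain ⟨c2, hc2, ed⟩ := exists_lift_top d' τ g τ1 τ2 d.base hd' d.top d.w_p d.w_q
  have q1 : Coh.IsQCoh (PB τ y.E) := Groth.Agent.VarietyB.PullSec.isQCoh_pullback τ y.E qy
  have hcomp : a ≫ (⟨c.base, c.top, c.w_p, c.w_q, c1, hc1⟩ : x ⟶ pbTop y w τ) =
      b ≫ (⟨d.base, d.top, d.w_p, d.w_q, c2, hc2⟩ : x' ⟶ pbTop y w τ) := by
    refine (existsUnique_lift (pbTopHom y w τ g τ1 τ2) (a ≫ c') (a.base ≫ c.base) ?_).unique ⟨rfl, ?_⟩ ⟨?_, ?_⟩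
    · rw [Category.assoc]
      exact congrArg (fun t => a.base ≫ t) hc'
    · rw [Category.assoc, ec]
    · exact B.w.symm
    · rw [Category.assoc, ed, h']
  have e1 := al_be_of_comp a b _ _ hcomp G.w
  have e2 := al_be_of_comp a b c d h G.w
  have i1 : IsIso (pullback.lift c1 c2 e1) := isIso_lift G a.cart b.cart qx qx' fx fx' c1 c2 e1 q1 qz hc1 hc2
  have i2 : IsIso (pullback.lift c.c d.c e2) := isIso_lift G a.cart b.cart qx qx' fx fx' c.c d.c e2 qw qz c.cart d.cart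
  let Θ : PB τ y.E ⟶ w.E := pullback.lift c1 c2 e1 ≫ inv (pullback.lift c.c d.c e2)
  have Θ1 : Θ ≫ c.c = c1 := by
    have h1 : inv (pullback.lift c.c d.c e2) ≫ c.c = pullback.fst (al c.top a.c) (be G.w b.c) := by
      rw [IsIso.inv_comp_eq, pullback.lift_fst]
    rw [Category.assoc, h1, pullback.lift_fst]
  have Θ2 : Θ ≫ d.c = c2 := by
    have h1 : inv (pullback.lift c.c d.c e2) ≫ d.c = pullback.snd (al c.top a.c) (be G.w b.c) := by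
      rw [IsIso.inv_comp_eq, pullback.lift_snd]
    rw [Category.assoc, h1, pullback.lift_snd]
  have hcart := isCart_of_isIso τ Θ
  have k1 := (hom_eq_of_comp τ g τ1 τ2 Θ hcart c c1 hc1 Θ1).trans ec
  have k2 := (hom_eq_of_comp τ g τ1 τ2 Θ hcart d c2 hc2 Θ2).trans ed
  refine ⟨⟨g, τ, τ1, τ2, _, hcart⟩, ⟨rfl, k1, k2⟩, ?_⟩
  rintro e' ⟨hb, h1, h2⟩
  exact hom_ext_of_glue a b c d h B fx fx' qx qx' qz qw hb (h1.trans k1.symm) (h2.trans k2.symm)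

end K927.ModSt
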