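import Groth.Agent.ModSt.K927.Fib
import Groth.Agent.ModSt.K927.RSHom

/-!
# Change of the base scheme for families of modules

For a cartesian square `a : X' ⟶ Z`, `f' : X' ⟶ S'`, `h : Z ⟶ R`, `g : S' ⟶ R`:
* `push sq : Obj f' → Obj h`, `pushHom` : composition with `g`, faithful, full over `S'`;
* `exists_push` : a family over `R` with a lift of its base to `S'` comes from a family over `S'`;
* `exists_pull` : the right adjoint.
-/

set_option autoImplicit false
universe v u

open CategoryTheory CategoryTheory.Limits AlgebraicGeometry Opposite ModSt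

noncomputable section

namespace K927.ModSt

variable {X' S' Z R : Scheme.{u}} {f' : X' ⟶ S'} {h : Z ⟶ R} {a : X' ⟶ Z} {g : S' ⟶ R} (sq : IsPullback a f' h g)

/-- The family over `R`. -/
def push (A : Obj f') : Obj h where
  base := Over.mk (A.base.hom ≫ g)
  XT := A.XT
  p := A.p ≫ a
  q := A.q
  isPullback := A.isPullback.paste_horiz sq
  E := A.E

theorem push_left (A : Obj f') : (push sq A).base.left = A.base.left := rfl

theorem push_hom (A : Obj f') : (push sq A).base.hom = A.base.hom ≫ g := rfl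

variable {sq} in
/-- The morphism over `R`. -/
def pushHom {A B : Obj f'} (φ : A ⟶ B) : push sq A ⟶ push sq B where
  base := Over.homMk φ.base.left (by
    change φ.base.left ≫ B.base.hom ≫ g = A.base.hom ≫ g
    rw [← Category.assoc, Over.w])
  top := φ.top
  w_p := by
    change φ.top ≫ B.p ≫ a = A.p ≫ a
    rw [← Category.assoc, φ.w_p]
  w_q := φ.w_q
  c := φ.c
  cart := φ.cart

theorem pushHom_left {A B : Obj f'} (φ : A ⟶ B) : (pushHom (sq := sq) φ).base.left = φ.base.left := rfl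

theorem pushHom_comp {A B C : Obj f'} (φ : A ⟶ B) (ψ : B ⟶ C) :
    pushHom (sq := sq) (φ ≫ ψ) = pushHom φ ≫ pushHom ψ := rfl

theorem pushHom_injective {A B : Obj f'} {φ ψ : A ⟶ B} (h : pushHom (sq := sq) φ = pushHom ψ) : φ = ψ := by
  have h00 : (pushHom (sq := sq) φ).base.left = (pushHom (sq := sq) ψ).base.left :=
    congrArg (fun t : push sq A ⟶ push sq B => t.base.left) h
  have h0 : φ.base.left = ψ.base.left := h00
  obtain ⟨b, t, wp, wq, c, hc⟩ := φ
  obtain ⟨b', t', wp', wq', c', hc'⟩ := ψ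
  injection h with h1 h2 h3
  have hb : b = b' := Over.OverMorphism.ext h0
  subst hb h2
  cases eq_of_heq h3
  rfl

theorem exists_pushHom {A B : Obj f'} (ψ : push sq A ⟶ push sq B) (hψ : ψ.base.left ≫ B.base.hom = A.base.hom) :
    ∃ φ : A ⟶ B, pushHom φ = ψ := by
  let t : A.XT ⟶ B.XT := ψ.top
  let b : A.base.left ⟶ B.base.left := ψ.base.left
  have h1 : t ≫ B.p ≫ a = A.p ≫ a := ψ.w_p
  have h2 : t ≫ B.q = A.q ≫ b := ψ.w_q
  have hb : b ≫ B.base.hom = A.base.hom := hψ
  have wp : t ≫ B.p = A.p := by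
    apply sq.hom_ext
    · rw [Category.assoc, h1]
    · rw [Category.assoc, B.isPullback.w, A.isPullback.w, ← Category.assoc, h2, Category.assoc, hb]
  exact ⟨⟨Over.homMk ψ.base.left hψ, ψ.top, wp, ψ.w_q, ψ.c, ψ.cart⟩, rfl⟩

theorem exists_push (C : Obj h) (k : C.base.left ⟶ S') (hk : k ≫ g = C.base.hom) :
    ∃ (A : Obj f') (e : C = push sq A), k = eqToHom (congrArg (fun t : Obj h => t.base.left) e) ≫ A.base.hom := by
  obtain ⟨T, XT, p, q, hpb, E⟩ := C
  obtain ⟨L, ⟨⟩, t⟩ := T
  change L ⟶ S' at k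
  change k ≫ g = t at hk
  subst hk
  have hw : p ≫ h = (q ≫ k) ≫ g := by
    rw [Category.assoc]
    exact hpb.w
  obtain ⟨p', hp1, hp2⟩ : ∃ p' : XT ⟶ X', p' ≫ a = p ∧ p' ≫ f' = q ≫ k :=
    ⟨sq.lift p (q ≫ k) hw, sq.lift_fst _ _ _, sq.lift_snd _ _ _⟩
  subst hp1
  have hpb' : IsPullback p' q f' k := IsPullback.of_right hpb hp2 sq
  exact ⟨⟨Over.mk k, XT, p', q, hpb', E⟩, rfl, (Category.id_comp k).symm⟩

end K927.ModSt
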