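import Groth.Agent.AlgSt.K747.Pr
import Groth.Agent.AlgSt.K735.Lift
import Groth.Agent.Gerb.K894.Span
import Groth.Agent.CurvSt.K742.AtlasMain

/-!
# Charts and products of objects

* `IsProd p q` : `w` is the product of `x` and `y` in the category `𝒳` (over `(Sch/S)`).
* `exists_iso_yon` : then the 2-fibre product of the charts is the scheme under `w`.
* `repWith_of_prod` : a chart is representable with `Q` when all products exist and have `Q` (L1).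
* `prod_of_repWith` : the converse (L2).
* `mem_of_prod` : points.
-/

set_option autoImplicit false
set_option backward.isDefEq.respectTransparency false
set_option backward.isDefEq.respectTransparency.types false
universe w v u

open CategoryTheory Opposite K734.Fib AlgebraicGeometry Limits K747 K747.Sc

namespace K927.PrChart

section lift

variable {C : Type*} [Category C] {X : Type*} [Category X] {p : X ⥤ C}

theorem lift_unique {V W : C} {k k' : V ⟶ W} {a b : X} {φ : a ⟶ b} (h : p.IsHomLift k φ) (h' : p.IsHomLift k' φ) :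
    k = k' :=
  (IsHomLift.fac p k φ).trans (IsHomLift.fac p k' φ).symm

theorem exists_base {V W : C} {a b : X} (ha : p.obj a = V) (hb : p.obj b = W) (φ : a ⟶ b) :
    ∃ k : V ⟶ W, p.IsHomLift k φ := by
  subst ha hb
  exact ⟨p.map φ, IsHomLift.map p φ⟩

end lift

variable {S : Scheme.{u}} {𝒳 : BasedCategory.{u, w} (Over S)}

/-- `w` is the product of `x` and `y` in the category `𝒳`. -/
def IsProd {x y w : 𝒳.obj} (p : w ⟶ x) (q : w ⟶ y) : Prop :=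
  ∀ (z : 𝒳.obj) (a : z ⟶ x) (b : z ⟶ y), ∃! c : z ⟶ w, c ≫ p = a ∧ c ≫ q = b

theorem IsProd.comp_iso {x y w x' y' : 𝒳.obj} {p : w ⟶ x} {q : w ⟶ y} (h : IsProd p q) (e : x ≅ x') (e' : y ≅ y') :
    IsProd (p ≫ e.hom) (q ≫ e'.hom) := by
  intro z a b
  obtain ⟨c, ⟨h1, h2⟩, h3⟩ := h z (a ≫ e.inv) (b ≫ e'.inv)
  refine ⟨c, ⟨?_, ?_⟩, ?_⟩
  · rw [← Category.assoc, h1, Category.assoc, e.inv_hom_id, Category.comp_id]
  · rw [← Category.assoc, h2, Category.assoc, e'.inv_hom_id, Category.comp_id]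
  · rintro c' ⟨h4, h5⟩
    refine h3 c' ⟨?_, ?_⟩
    · rw [← h4, Category.assoc, Category.assoc, e.hom_inv_id, Category.comp_id]
    · rw [← h5, Category.assoc, Category.assoc, e'.hom_inv_id, Category.comp_id]

variable (h𝒳 : FibCat.IsFibGrpd 𝒳.p)

/-- The 2-fibre product of two charts is a scheme when the product of the two objects exists. -/
theorem exists_iso_yon {T U W : Over S} {x : FibCat.overCat T ⥤ᵇ 𝒳} {z : FibCat.overCat U ⥤ᵇ 𝒳} {w : 𝒳.obj}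
    (p : w ⟶ x.obj (Over.mk (𝟙 T))) (q : w ⟶ z.obj (Over.mk (𝟙 U))) (t : W ⟶ T) (u : W ⟶ U)
    (ht : 𝒳.p.IsHomLift t p) (hu : 𝒳.p.IsHomLift u q) (H : IsProd p q) :
    ∃ e : (AlgSp.pyon S).obj W ≅ P h𝒳 x z, e.hom ≫ prT h𝒳 x z = (AlgSp.pyon S).map t := by
  obtain ⟨α, ⟨hα, hαp⟩, -⟩ := Fib.existsUnique_fac h𝒳 ht (om_lift x t (𝟙 T) t (Category.comp_id t)) (𝟙 W)
    (Category.id_comp t)
  obtain ⟨φ, ⟨hφ, hφq⟩, -⟩ := Fib.existsUnique_fac h𝒳 (om_lift z u (𝟙 U) u (Category.comp_id u))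
    (Fib.isHomLift_id_comp hα hu) (𝟙 W) (Category.id_comp u)
  let s0 : Sec x z W := ⟨t, u, φ, hφ⟩
  have hom_x : ∀ {V : Over S} (k : V ⟶ W) (t' : V ⟶ T) (h : k ≫ t = t'),
      x.map (om k t t' h) ≫ x.map (om t (𝟙 T) t (Category.comp_id t)) =
        x.map (om t' (𝟙 T) t' (Category.comp_id t')) := by
    intro V k t' h
    rw [← x.map_comp]
    congr 1
    exact Over.OverMorphism.ext h
  have hom_z : ∀ {V : Over S} (k : V ⟶ W) (t' : V ⟶ U) (h : k ≫ u = t'),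
      z.map (om k u t' h) ≫ z.map (om u (𝟙 U) u (Category.comp_id u)) =
        z.map (om t' (𝟙 U) t' (Category.comp_id t')) := by
    intro V k t' h
    rw [← z.map_comp]
    congr 1
    exact Over.OverMorphism.ext h
  let F : (AlgSp.pyon S).obj W ⟶ P h𝒳 x z :=
    { app := fun V => ↾fun k => ⟨res h𝒳 k.down s0⟩
      naturality := fun V V' g => by
        ext k
        refine Eq.symm ((psh_map_eq_iff.{u+1} h𝒳).2 ?_)
        have h1 : IsRes (g.unop ≫ k.down) s0 (res h𝒳 (g.unop ≫ k.down) s0) := isRes_res h𝒳 _ s0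
        obtain ⟨s2, h2⟩ := exists_isRes h𝒳 g.unop (res h𝒳 k.down s0)
        have h3 := (isRes_res h𝒳 k.down s0).comp h2
        have h4 := h3.unique h𝒳 h1
        subst h4
        exact h2 }
  have hbij : ∀ V, Function.Bijective (F.app V) := by
    intro V
    constructor
    · rintro ⟨k⟩ ⟨k'⟩ h
      have e1 : res h𝒳 k s0 = res h𝒳 k' s0 := congrArg ULift.down h
      obtain ⟨s, hs⟩ : ∃ s, res h𝒳 k s0 = s := ⟨_, rfl⟩
      have r1 : IsRes k s0 s := hs ▸ isRes_res h𝒳 k s0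
      have r2 : IsRes k' s0 s := by
        rw [← hs, e1]
        exact isRes_res h𝒳 k' s0
      have key : ∀ (m : V.unop ⟶ W) (r : IsRes m s0 s), (x.map (om m t s.t r.ht) ≫ α) ≫ p =
          x.map (om s.t (𝟙 T) s.t (Category.comp_id _)) ∧ (x.map (om m t s.t r.ht) ≫ α) ≫ q =
          s.φ ≫ z.map (om s.u (𝟙 U) s.u (Category.comp_id _)) := by
        intro m r
        constructor
        · rw [Category.assoc, hαp]
          exact hom_x m s.t r.ht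
        · have h5 : s.φ ≫ z.map (om m u s.u r.hu) = x.map (om m t s.t r.ht) ≫ φ := r.hφ
          rw [Category.assoc, ← hφq, ← Category.assoc, ← h5, Category.assoc, hom_z m s.u r.hu]
      have h6 := (H _ _ _).unique (key k r1) (key k' r2)
      have l1 : 𝒳.p.IsHomLift k (x.map (om k t s.t r1.ht) ≫ α) := Fib.isHomLift_comp_id (om_lift x k t s.t r1.ht) hα
      have l2 : 𝒳.p.IsHomLift k' (x.map (om k' t s.t r2.ht) ≫ α) := Fib.isHomLift_comp_id (om_lift x k' t s.t r2.ht) hα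
      rw [← h6] at l2
      exact ULift.ext _ _ (lift_unique l1 l2)
    · rintro ⟨s⟩
      obtain ⟨c, ⟨hcp, hcq⟩, -⟩ := H _ (x.map (om s.t (𝟙 T) s.t (Category.comp_id _)))
        (s.φ ≫ z.map (om s.u (𝟙 U) s.u (Category.comp_id _)))
      have hw : 𝒳.p.obj w = W := IsHomLift.domain_eq 𝒳.p t p
      obtain ⟨k, hk⟩ := exists_base (p := 𝒳.p) (p_obj x s.t) hw c
      have h1 : k ≫ t = s.t := by
        have l1 : 𝒳.p.IsHomLift (k ≫ t) (c ≫ p) := Fib.isHomLift_comp hk ht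
        rw [hcp] at l1
        exact lift_unique l1 (om_lift x s.t (𝟙 T) s.t (Category.comp_id _))
      have h2 : k ≫ u = s.u := by
        have l1 : 𝒳.p.IsHomLift (k ≫ u) (c ≫ q) := Fib.isHomLift_comp hk hu
        rw [hcq] at l1
        exact lift_unique l1 (Fib.isHomLift_id_comp s.over (om_lift z s.u (𝟙 U) s.u (Category.comp_id _)))
      have h3 : x.map (om k t s.t h1) ≫ α = c := by
        refine Fib.hom_ext h𝒳 ht (Fib.isHomLift_comp_id (om_lift x k t s.t h1) hα) hk ?_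
        rw [Category.assoc, hαp, hcp]
        exact hom_x k s.t h1
      refine ⟨⟨k⟩, ?_⟩
      refine ULift.ext _ _ ((res_eq_iff h𝒳).2 ⟨h1, h2, ?_⟩)
      refine Fib.hom_ext h𝒳 (om_lift z u (𝟙 U) u (Category.comp_id u))
        (Fib.isHomLift_id_comp s.over (om_lift z k u s.u h2)) (Fib.isHomLift_comp_id (om_lift x k t s.t h1) hφ) ?_
      rw [Category.assoc, Category.assoc]
      refine (congrArg (s.φ ≫ ·) (hom_z k s.u h2)).trans ?_
      rw [← hcq, ← h3, Category.assoc]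
      exact (congrArg (x.map (om k t s.t h1) ≫ ·) hφq).symm
  have hiso : ∀ V, IsIso (F.app V) := fun V => (isIso_iff_bijective _).2 (hbij V)
  have : IsIso F := NatIso.isIso_of_isIso_app F
  refine ⟨asIso F, ?_⟩
  ext V k
  refine congrArg ULift.up ?_
  exact (isRes_res h𝒳 k.down s0).ht.symm

include h𝒳

/-- (L1) A chart is representable with `Q` when all products with its object exist and have `Q`. -/
theorem repWith_of_prod {Q : MorphismProperty Scheme.{u}} [Q.IsStableUnderBaseChange]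
    (hpre : ∀ ⦃A B C : Scheme.{u}⦄ (e : A ⟶ B) (f : B ⟶ C), Etale e → Q f → Q (e ≫ f)) {U : Over S}
    (x : FibCat.overCat U ⥤ᵇ 𝒳)
    (H : ∀ τ : 𝒳.obj, ∃ (w : 𝒳.obj) (p : w ⟶ τ) (q : w ⟶ x.obj (Over.mk (𝟙 U))), IsProd p q ∧ Q (𝒳.p.map p).left) :
    AlgSt.RepByAlgSpWith (AlgSp.LocP Q) x := by
  intro T y
  refine (Rep.with_iff (AlgSp.LocP Q) (FibCat.fpFst y x) (toFp_isEquivOver.{u + 1} h𝒳 y x)).2 ?_
  obtain ⟨w, p, q, hpq, hQ⟩ := H (y.obj (Over.mk (𝟙 T)))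
  have hT : 𝒳.p.obj (y.obj (Over.mk (𝟙 T))) = T := p_obj y (𝟙 T)
  have hU : 𝒳.p.obj (x.obj (Over.mk (𝟙 U))) = U := p_obj x (𝟙 U)
  obtain ⟨t, ht⟩ := exists_base (p := 𝒳.p) (rfl : 𝒳.p.obj w = _) hT p
  obtain ⟨s, hs⟩ := exists_base (p := 𝒳.p) (rfl : 𝒳.p.obj w = _) hU q
  obtain ⟨e, he⟩ := exists_iso_yon h𝒳 p q t s ht hs hpq
  have hsh : Presheaf.IsSheaf (AlgSp.J S) (P h𝒳 y x) :=
    (Presheaf.isSheaf_of_iso_iff e).1 ((AlgSp.yon S).obj (𝒳.p.obj w)).property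
  let e' : (AlgSp.yon S).obj (𝒳.p.obj w) ≅ (⟨P h𝒳 y x, hsh⟩ : AlgSp.Sp S) :=
    (fullyFaithfulSheafToPresheaf (AlgSp.J S) _).preimageIso e
  refine ⟨hsh, (AlgSp.IsAlgSpace.yon_obj _).of_iso e', ?_⟩
  have h1 : (ObjectProperty.homMk (Rep.pMap (BasedFunctor.comp (toFp.{u + 1} h𝒳 y x) (FibCat.fpFst y x))) :
      (⟨P h𝒳 y x, hsh⟩ : AlgSp.Sp S) ⟶ (AlgSp.yon S).obj T) = e'.inv ≫ (AlgSp.yon S).map t := by
    rw [pMap_toFp_fst, Iso.eq_inv_comp]
    apply ObjectProperty.hom_ext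
    exact he
  rw [h1]
  refine MorphismProperty.RespectsIso.precomp _ e'.inv _ ?_
  have h2 : t = 𝒳.p.map p ≫ eqToHom hT := lift_unique ht (by
    have h3 : 𝒳.p.IsHomLift (𝒳.p.map p ≫ eqToHom hT) p := IsHomLift.of_fac 𝒳.p _ p rfl hT (by simp)
    exact h3)
  have h4 : Q t.left := by
    rw [h2]
    change Q ((𝒳.p.map p).left ≫ (eqToHom hT : _ ⟶ T).left)
    exact MorphismProperty.RespectsIso.postcomp Q _ _ hQ
  exact K597.locP_of_repWith hpre ((AlgSp.repWith_yon_map_iff Q t).2 h4)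

/-- (L2) The projection of a product with the object of a chart representable with `Q` has `Q`. -/
theorem prod_of_repWith {Q : MorphismProperty (AlgSp.Sp S)} [Q.RespectsIso] {U : Over S}
    (x : FibCat.overCat U ⥤ᵇ 𝒳) (hx : AlgSt.RepByAlgSpWith Q x) {τ w : 𝒳.obj} (p : w ⟶ τ)
    (q : w ⟶ x.obj (Over.mk (𝟙 U))) (H : IsProd p q) : Q ((AlgSp.yon S).map (𝒳.p.map p)) := by
  let y := K735.Fp.yonF h𝒳 τ rfl
  let i : y.obj (Over.mk (𝟙 (𝒳.p.obj τ))) ≅ τ := K735.Fp.yonFIso h𝒳 τ rfl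
  have hi : K735.Fib.Vert 𝒳.p i.hom := K735.Fp.vert_yonFIso h𝒳 τ rfl
  have hU : 𝒳.p.obj (x.obj (Over.mk (𝟙 U))) = U := p_obj x (𝟙 U)
  obtain ⟨s, hs⟩ := exists_base (p := 𝒳.p) (rfl : 𝒳.p.obj w = _) hU q
  have hlift : 𝒳.p.IsHomLift (𝟙 (𝒳.p.obj τ)) i.inv := hi.iso_inv.isHomLift rfl
  have ht : 𝒳.p.IsHomLift (𝒳.p.map p) (p ≫ i.inv) := Fib.isHomLift_comp_id (IsHomLift.map 𝒳.p p) hlift
  have H' : IsProd (p ≫ i.inv) q := by
    have := H.comp_iso i.symm (Iso.refl _)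
    simpa using this
  obtain ⟨e, he⟩ := exists_iso_yon h𝒳 (x := y) (z := x) (p ≫ i.inv) q (𝒳.p.map p) s ht hs H'
  obtain ⟨hsh, -, hQ⟩ := repByAlgSpWith_psh (x := y) h𝒳 Q hx
  let e' : (AlgSp.yon S).obj (𝒳.p.obj w) ≅ (⟨P h𝒳 y x, hsh⟩ : AlgSp.Sp S) :=
    (fullyFaithfulSheafToPresheaf (AlgSp.J S) _).preimageIso e
  have h1 : (AlgSp.yon S).map (𝒳.p.map p) = e'.hom ≫ (ObjectProperty.homMk (prT h𝒳 y x) :
      (⟨P h𝒳 y x, hsh⟩ : AlgSp.Sp S) ⟶ (AlgSp.yon S).obj (𝒳.p.obj τ)) := by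
    apply ObjectProperty.hom_ext
    exact he.symm
  rw [h1]
  exact MorphismProperty.RespectsIso.precomp _ _ _ hQ

theorem prod_of_smooth {Q : MorphismProperty Scheme.{u}} {U : Over S}
    (x : FibCat.overCat U ⥤ᵇ 𝒳) (hx : AlgSt.RepByAlgSpWith (AlgSp.LocP Q) x) {τ w : 𝒳.obj} (p : w ⟶ τ)
    (q : w ⟶ x.obj (Over.mk (𝟙 U))) (H : IsProd p q) : Q (𝒳.p.map p).left :=
  AlgSp.locP_yon_map (prod_of_repWith h𝒳 x hx p q H)

theorem prod_of_surj {U : Over S}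
    (x : FibCat.overCat U ⥤ᵇ 𝒳) (hx : AlgSt.RepByAlgSpWith AlgSp.IsSurjectiveMor x) {τ w : 𝒳.obj} (p : w ⟶ τ)
    (q : w ⟶ x.obj (Over.mk (𝟙 U))) (H : IsProd p q) : Surjective (𝒳.p.map p).left :=
  (AlgSp.repWith_yon_map_iff _ _).1 ((K609.Points.repWith_surjective_iff (AlgSp.representable_yon_map _)).2
    (prod_of_repWith h𝒳 x hx p q H))

theorem ofChart_hom {τ w : 𝒳.obj} (p : w ⟶ τ) (v : ↥(𝒳.p.obj w).left) :
    AlgSt.Points.ofChart (K735.Fp.yonF h𝒳 w rfl) v =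
      AlgSt.Points.ofChart (K735.Fp.yonF h𝒳 τ rfl) ((𝒳.p.map p).left v) := by
  obtain ⟨e⟩ := K894.Span.exists_iso_yonF h𝒳 (K735.Fp.yonF h𝒳 τ rfl) (K735.Fp.idObj (𝒳.p.obj τ)) w rfl
    (p ≫ (K735.Fp.yonFIso h𝒳 τ rfl).inv) (𝒳.p.map p) (by
      have h1 : K735.Fib.Vert 𝒳.p (K735.Fp.yonFIso h𝒳 τ rfl).inv := (K735.Fp.vert_yonFIso h𝒳 τ rfl).iso_inv
      rw [Functor.map_comp, h1.map_eq]
      simp [K735.Fp.idObj])
  rw [K735.PtsSp.ofChart_congr e, K735.PtsSp.ofChart_overMap]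

theorem ofChart_hom_chart {U : Over S} (x : FibCat.overCat U ⥤ᵇ 𝒳) {w : 𝒳.obj} (q : w ⟶ x.obj (Over.mk (𝟙 U)))
    (v : ↥(𝒳.p.obj w).left) :
    ∃ t : ↥U.left, AlgSt.Points.ofChart (K735.Fp.yonF h𝒳 w rfl) v = AlgSt.Points.ofChart x t := by
  obtain ⟨e⟩ := K894.Span.exists_iso_yonF h𝒳 x (K735.Fp.idObj U) w rfl q _ rfl
  exact ⟨_, by rw [K735.PtsSp.ofChart_congr e, K735.PtsSp.ofChart_overMap]⟩

theorem mem_of_span {U : Over S} (x : FibCat.overCat U ⥤ᵇ 𝒳) {K : Type u} [Field K]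
    {s : Spec (CommRingCat.of K) ⟶ S} {τ w : 𝒳.obj} (hτ : 𝒳.p.obj τ = Over.mk s) (p : w ⟶ τ)
    (q : w ⟶ x.obj (Over.mk (𝟙 U))) (v : ↥(𝒳.p.obj w).left) :
    ∃ t : ↥U.left, AlgSt.Points.ofChart x t = AlgSt.Points.mk ⟨K, s, τ, hτ⟩ := by
  obtain ⟨t, ht⟩ := ofChart_hom_chart h𝒳 x q v
  obtain ⟨t', ht'⟩ : ∃ t' : ↥(Over.mk s : Over S).left, AlgSt.Points.ofChart (K735.Fp.yonF h𝒳 w rfl) v =
      AlgSt.Points.ofChart (K735.Fp.yonF h𝒳 τ hτ) t' := by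
    have key : ∀ (T : Over S) (h : 𝒳.p.obj τ = T), ∃ t' : ↥T.left, AlgSt.Points.ofChart (K735.Fp.yonF h𝒳 w rfl) v =
        AlgSt.Points.ofChart (K735.Fp.yonF h𝒳 τ h) t' := by
      rintro T rfl
      exact ⟨_, ofChart_hom h𝒳 p v⟩
    exact key _ hτ
  exact ⟨t, by rw [← ht, ht', K735.Lift.ofChart_yonF]⟩

end K927.PrChart
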