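import Groth.Agent.ModSt.K927.BcProd
import Groth.Agent.ModSt.K927.PrChart
import Groth.Agent.ModSt.K927.CohStack

/-!
# Algebraicity of `Coh f` from models

* `isAlgStack_coh_of_models`.
-/

set_option autoImplicit false
universe v u

open CategoryTheory CategoryTheory.Limits AlgebraicGeometry Opposite ModSt K927.PrChart

noncomputable section

namespace K927.ModSt

section
variable {X S : Scheme.{u}} {f : X ⟶ S}

theorem isProdF_of_isProd {x y w : (Coh f).obj} {p : w ⟶ x} {q : w ⟶ y} (H : IsProd p q) :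
    IsProdF p.hom q.hom := by
  intro z a b
  have hz : IsCohObj z := isCohObj_of_hom a x.property
  obtain ⟨c, ⟨h1, h2⟩, h3⟩ := H (⟨z, hz⟩ : (Coh f).obj) (ObjectProperty.homMk a) (ObjectProperty.homMk b)
  refine ⟨c.hom, ⟨congrArg (fun t => t.hom) h1, congrArg (fun t => t.hom) h2⟩, ?_⟩
  rintro c' ⟨h4, h5⟩
  have := h3 (ObjectProperty.homMk c') ⟨ObjectProperty.hom_ext _ h4, ObjectProperty.hom_ext _ h5⟩
  exact congrArg (fun t => t.hom) this

theorem isProd_of_isProdF {x y w : (Coh f).obj} {p : w ⟶ x} {q : w ⟶ y} (H : IsProdF p.hom q.hom) :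
    IsProd p q := by
  intro z a b
  obtain ⟨c, ⟨h1, h2⟩, h3⟩ := H z.obj a.hom b.hom
  refine ⟨ObjectProperty.homMk c, ⟨ObjectProperty.hom_ext _ h1, ObjectProperty.hom_ext _ h2⟩, ?_⟩
  rintro c' ⟨h4, h5⟩
  exact ObjectProperty.hom_ext _ (h3 c'.hom ⟨congrArg (fun t => t.hom) h4, congrArg (fun t => t.hom) h5⟩)

end

variable {X' S' X S X₀ S₀ : Scheme.{u}} {f' : X' ⟶ S'} {f : X ⟶ S} {a : X' ⟶ X} {j : S' ⟶ S}
  {f₀ : X₀ ⟶ S₀} {a₀ : X' ⟶ X₀} {g : S' ⟶ S₀} {sq : IsPullback a f' f j} {sq₀ : IsPullback a₀ f' f₀ g}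

/-- the span of a test object and the transferred chart -/
theorem exists_span [IsOpenImmersion j] {U₀ : Over S₀} (x₀ : FibCat.overCat U₀ ⥤ᵇ Coh f₀)
    (hsm : AlgSt.RepByAlgSpWith (AlgSp.LocP @Smooth) x₀) (hsu : AlgSt.RepByAlgSpWith AlgSp.IsSurjectiveMor x₀)
    (hPR : ∀ x y : (Coh f₀).obj, ∃ (w : (Coh f₀).obj) (p : w ⟶ x) (q : w ⟶ y), IsProd p q)
    {ξ' : Obj f'} (ε₀ : push sq₀ ξ' ⟶ (x₀.obj (Over.mk (𝟙 U₀))).obj)
    (h₀ : IsPullback ε₀.base.left ξ'.base.hom (x₀.obj (Over.mk (𝟙 U₀))).obj.base.hom g)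
    (ξ : (Coh f).obj) (hξ : ξ.obj = push sq ξ') (τ : (Coh f).obj) :
    ∃ (w : (Coh f).obj) (p : w ⟶ τ) (q : w ⟶ ξ), IsProd p q ∧ Smooth ((Coh f).p.map p).left ∧
      ∀ (t : τ.obj.base.left) (s' : S'), τ.obj.base.hom t = j s' → Nonempty w.obj.base.left := by
  obtain ⟨τ', ε, h⟩ := exists_pull sq τ.obj
  have hτ' : IsCohObj (push sq₀ τ') := by
    have h1 : IsCohObj (push sq τ') := isCohObj_of_hom ε τ.property
    exact h1
  obtain ⟨w₀, p₀, q₀, hw₀⟩ := hPR ⟨push sq₀ τ', hτ'⟩ (x₀.obj (Over.mk (𝟙 U₀)))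
  have hs1 : Smooth ((Coh f₀).p.map p₀).left := prod_of_smooth (isFibGrpd_coh f₀) x₀ hsm p₀ q₀ hw₀
  have hs2 : Surjective ((Coh f₀).p.map p₀).left := prod_of_surj (isFibGrpd_coh f₀) x₀ hsu p₀ q₀ hw₀
  obtain ⟨w', p', q', hprod, hQ⟩ := exists_prod_transfer (sq := sq) ε₀ h₀ ε h p₀.hom q₀.hom (isProdF_of_isProd hw₀)
  have hs1' : Smooth p'.base.left := hQ @Smooth hs1
  have hs2' : Surjective p'.base.left := hQ @Surjective hs2
  obtain ⟨ξo, hξo⟩ := ξ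
  dsimp only at hξ
  subst hξ
  have hw' : IsCohObj (push sq w') := isCohObj_of_hom (pushHom (sq := sq) q') hξo
  refine ⟨⟨push sq w', hw'⟩, ObjectProperty.homMk (pushHom (sq := sq) p' ≫ ε),
    ObjectProperty.homMk (pushHom (sq := sq) q'), isProd_of_isProdF hprod, ?_, ?_⟩
  · have h1 : IsOpenImmersion ε.base.left := MorphismProperty.of_isPullback h.flip ‹_›
    have h2 : Smooth ε.base.left := inferInstance
    exact MorphismProperty.comp_mem @Smooth p'.base.left ε.base.left hs1' h2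
  · intro t s' hts
    obtain ⟨t', -, -⟩ := Scheme.exists_preimage_of_isPullback h t s' hts
    obtain ⟨v, -⟩ := hs2'.surj t'
    exact ⟨v⟩

/-- A chart of `Coh f` over the open `j : S' ⟶ S`. -/
theorem exists_chart [IsOpenImmersion j] (hA : AlgSt.HasAtlas (AlgSp.LocP @Smooth) (Coh f₀))
    (hPR : ∀ x y : (Coh f₀).obj, ∃ (w : (Coh f₀).obj) (p : w ⟶ x) (q : w ⟶ y), IsProd p q)
    (sq : IsPullback a f' f j) (sq₀ : IsPullback a₀ f' f₀ g) :
    ∃ (U : Over S) (x : FibCat.overCat U ⥤ᵇ Coh f), AlgSt.RepByAlgSpWith (AlgSp.LocP @Smooth) x ∧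
      ∀ (K : Type u) [Field K] (str : Spec (CommRingCat.of K) ⟶ S) (τ : (Coh f).obj)
        (hτ : (Coh f).p.obj τ = Over.mk str) (t : Spec (CommRingCat.of K)) (s' : S'), str t = j s' →
        ∃ u : ↥U.left, AlgSt.Points.ofChart x u = AlgSt.Points.mk ⟨K, str, τ, hτ⟩ := by
  obtain ⟨U₀, x₀, hsm, hsu⟩ := hA
  obtain ⟨ξ', ε₀, h₀⟩ := exists_pull sq₀ (x₀.obj (Over.mk (𝟙 U₀))).obj
  have hξ : IsCohObj (push sq ξ') := by
    have h1 : IsCohObj (push sq₀ ξ') := isCohObj_of_hom ε₀ (x₀.obj (Over.mk (𝟙 U₀))).property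
    exact h1
  let ξ : (Coh f).obj := ⟨push sq ξ', hξ⟩
  let x := K735.Fp.yonF (isFibGrpd_coh f) ξ rfl
  let i : x.obj (Over.mk (𝟙 ((Coh f).p.obj ξ))) ≅ ξ := K735.Fp.yonFIso (isFibGrpd_coh f) ξ rfl
  refine ⟨(Coh f).p.obj ξ, x, ?_, ?_⟩
  · refine repWith_of_prod (isFibGrpd_coh f) (Q := @Smooth) ?_ x ?_
    · intro A B C e f he hf
      infer_instance
    · intro τ
      obtain ⟨w, p, q, h1, h2, -⟩ := exists_span (sq := sq) x₀ hsm hsu hPR ε₀ h₀ ξ rfl τ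
      refine ⟨w, p, q ≫ i.inv, ?_, h2⟩
      have := h1.comp_iso (Iso.refl _) i.symm
      simpa using this
  · intro K _ str τ hτ t s' hts
    obtain ⟨w, p, q, -, -, h3⟩ := exists_span (sq := sq) x₀ hsm hsu hPR ε₀ h₀ ξ rfl τ
    have h4 : ∃ t' : τ.obj.base.left, τ.obj.base.hom t' = j s' := by
      have h5 : ∀ T : Over S, τ.obj.base = T → (∃ t' : T.left, T.hom t' = j s') →
          ∃ t' : τ.obj.base.left, τ.obj.base.hom t' = j s' := by
        rintro T rfl h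
        exact h
      exact h5 _ hτ ⟨t, hts⟩
    obtain ⟨t', ht'⟩ := h4
    obtain ⟨v⟩ := h3 t' s' ht'
    exact mem_of_span (isFibGrpd_coh f) x hτ p (q ≫ i.inv) v

/-- A model: an open `S' ⟶ S`, over which `f` is the base change of an `f₀` with `Coh f₀` algebraic with products. -/
structure Model (f : X ⟶ S) (s : S) where
  {S' X' S₀ X₀ : Scheme.{u}}
  {j : S' ⟶ S}
  open_j : IsOpenImmersion j
  mem : s ∈ Set.range j
  {f' : X' ⟶ S'}
  {a : X' ⟶ X}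
  sq : IsPullback a f' f j
  {f₀ : X₀ ⟶ S₀}
  {a₀ : X' ⟶ X₀}
  {g : S' ⟶ S₀}
  sq₀ : IsPullback a₀ f' f₀ g
  isAlgStack : AlgSt.IsAlgStack Scheme.fppfPrecoverage (Coh f₀)
  pr : ∀ x y : (Coh f₀).obj, ∃ (w : (Coh f₀).obj) (p : w ⟶ x) (q : w ⟶ y), IsProd p q

/-- `Coh f` is an algebraic stack when it is so for models locally on the base. -/
theorem isAlgStack_coh_of_models {X S : Scheme.{u}} (f : X ⟶ S) (H : ∀ s : S, Nonempty (Model f s)) :
    AlgSt.IsAlgStack Scheme.fppfPrecoverage (Coh f) := by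
  have key : ∀ s : S, ∃ (U : Over S) (x : FibCat.overCat U ⥤ᵇ Coh f), AlgSt.RepByAlgSpWith (AlgSp.LocP @Smooth) x ∧
      ∀ (K : Type u) [Field K] (str : Spec (CommRingCat.of K) ⟶ S) (τ : (Coh f).obj)
        (hτ : (Coh f).p.obj τ = Over.mk str) (t : Spec (CommRingCat.of K)), str t = s →
        ∃ u : ↥U.left, AlgSt.Points.ofChart x u = AlgSt.Points.mk ⟨K, str, τ, hτ⟩ := by
    intro s
    obtain ⟨M⟩ := H s
    obtain ⟨s', hs'⟩ := M.mem
    have := M.open_j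
    obtain ⟨U, x, h1, h2⟩ := exists_chart M.isAlgStack.atlas M.pr M.sq M.sq₀
    exact ⟨U, x, h1, fun K _ str τ hτ t ht => h2 K str τ hτ t s' (ht.trans hs'.symm)⟩
  choose U x hx hsurj using key
  refine K742.Atlas0.isAlgStack_of_family (isStack_coh f) U x hx ?_
  intro p
  obtain ⟨⟨K, str, τ, hτ⟩, rfl⟩ := AlgSt.Points.mk_surjective p
  obtain ⟨t⟩ : Nonempty (Spec (CommRingCat.of K)) := inferInstance
  obtain ⟨u, hu⟩ := hsurj _ K str τ hτ t rfl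
  exact ⟨_, u, hu⟩

end K927.ModSt
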