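import Groth.Prelude.Def_ModSt

/-!
# Cartesian comparison maps and pull-backs of families of modules
-/

set_option autoImplicit false
universe u

open CategoryTheory CategoryTheory.Limits AlgebraicGeometry Opposite ModSt

noncomputable section

namespace K927.ModSt

variable {X S Y Z W : Scheme.{u}}

/-- The unit of the adjunction is cartesian. -/
theorem isCart_unit (h : Y ⟶ Z) (N : Z.Modules) :
    IsCart h ((Scheme.Modules.pullbackPushforwardAdjunction h).unit.app N) := by
  intro M'
  have heq : (fun v : (Scheme.Modules.pullback h).obj N ⟶ M' =>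
      (Scheme.Modules.pullbackPushforwardAdjunction h).unit.app N ≫ (Scheme.Modules.pushforward h).map v) =
      (Scheme.Modules.pullbackPushforwardAdjunction h).homEquiv N M' := by
    funext v
    rw [Adjunction.homEquiv_unit]
  rw [heq]
  exact Equiv.bijective _

/-- The isomorphism with the inverse image given by a cartesian comparison map. -/
theorem exists_iso_of_isCart {h : Y ⟶ Z} {N : Z.Modules} {M M' : Y.Modules}
    {c : N ⟶ (Scheme.Modules.pushforward h).obj M} (hc : IsCart h c)
    {c' : N ⟶ (Scheme.Modules.pushforward h).obj M'} (hc' : IsCart h c') :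
    ∃ e : M ≅ M', c ≫ (Scheme.Modules.pushforward h).map e.hom = c' := by
  obtain ⟨a, ha⟩ := (hc M').2 c'
  obtain ⟨b, hb⟩ := (hc' M).2 c
  dsimp only at ha hb
  refine ⟨⟨a, b, (hc M).1 ?_, (hc' M').1 ?_⟩, ha⟩
  · dsimp only
    rw [Functor.map_comp, reassoc_of% ha, hb, (Scheme.Modules.pushforward h).map_id, Category.comp_id]
  · dsimp only
    rw [Functor.map_comp, reassoc_of% hb, ha, (Scheme.Modules.pushforward h).map_id, Category.comp_id]

/-- A cartesian comparison map identifies the module with the inverse image. -/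
theorem nonempty_iso_pullback {h : Y ⟶ Z} {N : Z.Modules} {M : Y.Modules}
    {c : N ⟶ (Scheme.Modules.pushforward h).obj M} (hc : IsCart h c) :
    Nonempty ((Scheme.Modules.pullback h).obj N ≅ M) := by
  obtain ⟨e, -⟩ := exists_iso_of_isCart (isCart_unit h N) hc
  exact ⟨e⟩

/-- Post-composition of a cartesian map with an isomorphism is cartesian. -/
theorem isCart_compIso {h : Y ⟶ Z} {N : Z.Modules} {M M' : Y.Modules}
    {c : N ⟶ (Scheme.Modules.pushforward h).obj M} (hc : IsCart h c) (e : M ≅ M') :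
    IsCart h (c ≫ (Scheme.Modules.pushforward h).map e.hom) := by
  intro P
  have heq : (fun v : M' ⟶ P => (c ≫ (Scheme.Modules.pushforward h).map e.hom) ≫
      (Scheme.Modules.pushforward h).map v) =
      (fun v : M ⟶ P => c ≫ (Scheme.Modules.pushforward h).map v) ∘ (fun v : M' ⟶ P => e.hom ≫ v) := by
    funext v
    simp
  rw [heq]
  refine (hc P).comp ⟨fun a b hab => ?_, fun b => ⟨e.inv ≫ b, by simp⟩⟩
  exact (cancel_epi e.hom).1 hab

/-- `IsCart` iff the adjoint map is an isomorphism. -/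
theorem isCart_iff {h : Y ⟶ Z} {N : Z.Modules} {M : Y.Modules}
    (c : N ⟶ (Scheme.Modules.pushforward h).obj M) :
    IsCart h c ↔ IsIso (((Scheme.Modules.pullbackPushforwardAdjunction h).homEquiv N M).symm c) := by
  constructor
  · intro hc
    obtain ⟨e, he⟩ := exists_iso_of_isCart (isCart_unit h N) hc
    have h1 : ((Scheme.Modules.pullbackPushforwardAdjunction h).homEquiv N M).symm c = e.hom := by
      rw [Equiv.symm_apply_eq, Adjunction.homEquiv_unit]
      exact he.symm
    rw [h1]
    infer_instance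
  · intro hc
    have h1 := isCart_compIso (isCart_unit h N)
      (asIso (((Scheme.Modules.pullbackPushforwardAdjunction h).homEquiv N M).symm c))
    have h2 : (Scheme.Modules.pullbackPushforwardAdjunction h).unit.app N ≫
        (Scheme.Modules.pushforward h).map
          (((Scheme.Modules.pullbackPushforwardAdjunction h).homEquiv N M).symm c) = c := by
      exact ((Scheme.Modules.pullbackPushforwardAdjunction h).homEquiv_unit _ _ _).symm.trans
        (Equiv.apply_symm_apply _ _)
    rw [asIso_hom, h2] at h1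
    exact h1

/-- Cancellation: if `c₂ ≫ h₂,* v` (composed) is cartesian along `h₁ ≫ h₂` and `c₂` is cartesian, then `v` is
cartesian along `h₁`. -/
theorem isCart_of_comp {h₁ : Y ⟶ Z} {h₂ : Z ⟶ W} {P : W.Modules} {N : Z.Modules} {M : Y.Modules}
    {c₁ : N ⟶ (Scheme.Modules.pushforward h₁).obj M} {c₂ : P ⟶ (Scheme.Modules.pushforward h₂).obj N}
    (hc₂ : IsCart h₂ c₂)
    (hc : IsCart (h₁ ≫ h₂) (c₂ ≫ (Scheme.Modules.pushforward h₂).map c₁ ≫
      (Scheme.Modules.pushforwardComp h₁ h₂).hom.app M)) : IsCart h₁ c₁ := by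
  intro M'
  have heq : (fun v : M ⟶ M' => (c₂ ≫ (Scheme.Modules.pushforward h₂).map c₁ ≫
      (Scheme.Modules.pushforwardComp h₁ h₂).hom.app M) ≫ (Scheme.Modules.pushforward (h₁ ≫ h₂)).map v) =
      ((Scheme.Modules.pushforwardComp h₁ h₂).app M').homToEquiv ∘
        (fun w : N ⟶ (Scheme.Modules.pushforward h₁).obj M' => c₂ ≫ (Scheme.Modules.pushforward h₂).map w) ∘
        (fun v : M ⟶ M' => c₁ ≫ (Scheme.Modules.pushforward h₁).map v) := by
    funext v
    simp only [Function.comp_apply, Iso.homToEquiv_apply, Iso.app_hom, Category.assoc, Functor.map_comp]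
    rw [← (Scheme.Modules.pushforwardComp h₁ h₂).hom.naturality v]
    rfl
  have h1 := hc M'
  rw [heq] at h1
  rw [Function.Bijective.of_comp_iff' (Equiv.bijective _)] at h1
  rwa [Function.Bijective.of_comp_iff' (hc₂ _)] at h1

theorem pushforwardCongr_rfl_app (h : Y ⟶ Z) (M : Y.Modules) :
    (Scheme.Modules.pushforwardCongr (rfl : h = h)).hom.app M = 𝟙 _ := by
  refine Scheme.Modules.hom_ext _ _ fun U => ?_
  rw [Scheme.Modules.pushforwardCongr_hom_app_app]
  exact M.presheaf.map_id _

theorem congr_comp {a b : Y ⟶ Z} {N : Z.Modules} {M : Y.Modules} (c : N ⟶ (Scheme.Modules.pushforward a).obj M)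
    (h : a = b) (h' : b = a) :
    (c ≫ (Scheme.Modules.pushforwardCongr h).hom.app M) ≫ (Scheme.Modules.pushforwardCongr h').hom.app M = c := by
  subst h
  rw [pushforwardCongr_rfl_app, Category.comp_id, Category.comp_id]

variable {f : X ⟶ S}

/-- Extensionality of morphisms of families. -/
theorem hom_ext {A B : Obj f} {φ ψ : A ⟶ B} (hb : φ.base = ψ.base) (ht : φ.top = ψ.top)
    (hc : φ.c ≫ (Scheme.Modules.pushforwardCongr ht).hom.app A.E = ψ.c) : φ = ψ := by
  obtain ⟨b, t, wp, wq, c, hcart⟩ := φ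
  obtain ⟨b', t', wp', wq', c', hcart'⟩ := ψ
  cases hb
  cases ht
  have hcc : c = c' := by
    refine Eq.trans ?_ hc
    dsimp only
    rw [pushforwardCongr_rfl_app]
    exact (Category.comp_id _).symm
  cases hcc
  rfl

/-- The comparison maps of equal morphisms. -/
theorem c_congr {A B : Obj f} {φ ψ : A ⟶ B} (h : φ = ψ) :
    φ.c ≫ (Scheme.Modules.pushforwardCongr (congrArg Obj.Hom.top h)).hom.app A.E = ψ.c := by
  subst h
  rw [pushforwardCongr_rfl_app, Category.comp_id]

/-- Unique factorisation of morphisms of families. -/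
theorem existsUnique_lift {A B C : Obj f} (φ : B ⟶ A) (ψ : C ⟶ A) (g : C.base ⟶ B.base)
    (hg : g ≫ φ.base = ψ.base) : ∃! χ : C ⟶ B, χ.base = g ∧ χ ≫ φ = ψ := by
  have hsq := Obj.Hom.isPullback_top φ
  let t : C.XT ⟶ B.XT := hsq.lift ψ.top (C.q ≫ g.left) (by
    rw [Category.assoc, ← Over.comp_left, hg]; exact ψ.w_q)
  have ht1 : t ≫ φ.top = ψ.top := hsq.lift_fst _ _ _
  have ht2 : t ≫ B.q = C.q ≫ g.left := hsq.lift_snd _ _ _
  let c' : A.E ⟶ (Scheme.Modules.pushforward (t ≫ φ.top)).obj C.E :=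
    ψ.c ≫ (Scheme.Modules.pushforwardCongr ht1.symm).hom.app C.E
  have hc' : IsCart (t ≫ φ.top) c' := ψ.cart.congr ht1.symm
  obtain ⟨v, hv⟩ := (φ.cart ((Scheme.Modules.pushforward t).obj C.E)).2
    (c' ≫ (Scheme.Modules.pushforwardComp t φ.top).inv.app C.E)
  dsimp only at hv
  have hv' : φ.c ≫ (Scheme.Modules.pushforward φ.top).map v ≫
      (Scheme.Modules.pushforwardComp t φ.top).hom.app C.E = c' := by
    rw [reassoc_of% hv]
    simp
  have hcart : IsCart t v := isCart_of_comp φ.cart (by rw [hv']; exact hc')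
  let χ : C ⟶ B := ⟨g, t, by rw [← φ.w_p, reassoc_of% ht1]; exact ψ.w_p, ht2, v, hcart⟩
  have hχ : χ ≫ φ = ψ := by
    refine hom_ext hg ht1 ?_
    have h1 : (χ ≫ φ).c = c' := hv'
    exact (congrArg (· ≫ (Scheme.Modules.pushforwardCongr ht1).hom.app C.E) h1).trans (congr_comp ψ.c _ _)
  refine ⟨χ, ⟨rfl, hχ⟩, ?_⟩
  rintro χ' ⟨h1, h2⟩
  have ht : χ'.top = t := by
    apply hsq.hom_ext
    · rw [ht1, ← h2]; rfl
    · rw [ht2, ← h1]; exact χ'.w_q
  refine hom_ext h1 ht ?_
  apply (φ.cart _).1
  dsimp only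
  refine Eq.trans ?_ hv.symm
  obtain ⟨b', t', wp', wq', v', hcart''⟩ := χ'
  dsimp only at ht
  subst ht
  dsimp only
  rw [pushforwardCongr_rfl_app, Category.comp_id]
  refine (Iso.eq_comp_inv ((Scheme.Modules.pushforwardComp t φ.top).app C.E)).2 ?_
  have h3 := c_congr h2.symm
  refine Eq.trans ?_ h3.symm
  exact Category.assoc _ _ _

end K927.ModSt
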