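import Groth.Agent.ModSt.K927.RkOpen
import Groth.Agent.AlgSt.K740.Inv
import Groth.Agent.Desc.FinLocFreeSections

/-!
# The stack of vector bundles as an open substack of the stack of coherent modules

`K927.ModSt.isAlgStack_fibRk`: if `Coh f` is algebraic, `f` proper lfp, then so is `FibRk f n`.
-/

set_option autoImplicit false
universe v u

open CategoryTheory CategoryTheory.Limits AlgebraicGeometry Opposite ModSt

noncomputable section

namespace K927.ModSt

variable {X S : Scheme.{u}} (f : X ⟶ S) (n : ℕ)

theorem isCohObj_of_isFibRkObj {A : Obj f} (h : IsFibRkObj n A) : IsCohObj A :=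
  ⟨h.1, Groth.Agent.Desc.FinLocFreeSections.isFP_of_isFinLocFree
    (fun y => (h.2 y).imp fun _ hV => ⟨n, hV⟩)⟩

/-- The nested full subcategories. -/
def nestRk : AlgSt.fullSub (Coh f) (fun A => FlatMod.IsFinLocFreeOfRank n A.obj.E) ⥤ᵇ FibRk f n where
  obj a := ⟨a.obj.obj, a.obj.property.1, a.property⟩
  map φ := ObjectProperty.homMk φ.hom.hom
  map_id _ := rfl
  map_comp _ _ := rfl
  w := rfl

instance : (nestRk f n).toFunctor.Faithful where
  map_injective {_ _} φ ψ h := by
    apply ObjectProperty.hom_ext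
    apply ObjectProperty.hom_ext
    exact congrArg (fun t => t.hom) h

instance : (nestRk f n).toFunctor.Full where
  map_surjective {_ _} ψ := ⟨ObjectProperty.homMk (ObjectProperty.homMk ψ.hom), rfl⟩

theorem isEquivOver_nestRk : FibCat.IsEquivOver (nestRk f n) := by
  refine K751.FF.isEquivOver_of_ff_of_exists_iso _ fun y => ?_
  exact ⟨⟨⟨y.obj, isCohObj_of_isFibRkObj f n y.property⟩, y.property.2⟩, Iso.refl _, IsHomLift.id rfl⟩

/-- Algebraicity of the stack of vector bundles of rank `n` from that of `Coh f`. -/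
theorem isAlgStack_fibRk [IsProper f] [LocallyOfFinitePresentation f]
    (h : AlgSt.IsAlgStack Scheme.fppfPrecoverage (Coh f)) :
    AlgSt.IsAlgStack Scheme.fppfPrecoverage (FibRk f n) :=
  (K740.Inv.isAlgStack_iff Scheme.fppfPrecoverage (isEquivOver_nestRk f n)).1
    (K899.OpenCrit.isOpenSubstack h (hasOpenLocus_rk f n)).2.1

end K927.ModSt
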