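import Groth.Agent.ModSt.K927.BcMain
import Groth.Agent.ModSt.K927.ArtinLP
import Groth.Agent.ModSt.K927.ArtinRS
import Groth.Agent.ModSt.K927.PicOfCoh
import Groth.Agent.ModSt.K599.ArtinPR
import Groth.Agent.ModSt.K41.CohSE
import Groth.Agent.ModSt.K41.CohSM
import Groth.Agent.ModSt.K41.CohFA
import Groth.Agent.AlgSp.K607.ArtinMain

/-!
# The stack of coherent modules of a proper morphism is algebraic

* `axioms_coh` : the axioms of Artin's theorem over a ring of finite type over `ℤ`.
* `isAlgStack_coh` : the general case.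
-/

set_option autoImplicit false
universe v u

open CategoryTheory CategoryTheory.Limits AlgebraicGeometry Opposite ModSt

noncomputable section

namespace K927.ModSt

/-- The axioms of Artin's theorem. -/
theorem axioms_coh {Λ : Type u} [CommRing Λ] [Algebra.FiniteType ℤ Λ] {Y : Scheme.{u}}
    (h : Y ⟶ Spec (CommRingCat.of Λ)) [IsProper h] [LocallyOfFinitePresentation h] : K607.Artin.Axioms (Coh h) where
  isStack := isStack_coh h
  lp := artin_lp h
  se := K41.CohSE.se h
  rsObj := artin_rsObj h
  rsHom := artin_rsHom h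
  fa := K41.CohFA.fa h
  sm := K41.CohSM.sm h
  pr := K599.ArtinPR.artin_pr h

theorem good {Λ : Type u} [CommRing Λ] [Algebra.FiniteType ℤ Λ] {Y : Scheme.{u}}
    (h : Y ⟶ Spec (CommRingCat.of Λ)) [IsProper h] [LocallyOfFinitePresentation h] : Good h := by
  have hA := axioms_coh h
  refine ⟨K607.Artin.isAlgStack₀ hA, fun x y => ?_⟩
  obtain ⟨w, p, q, h1, -⟩ := hA.pr x y
  exact ⟨w, p, q, h1⟩

/-- The stack of flat finitely presented modules on a proper morphism of finite presentation is algebraic. -/
theorem isAlgStack_coh {X S : Scheme.{u}} (f : X ⟶ S) [IsProper f] [LocallyOfFinitePresentation f] :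
    AlgSt.IsAlgStack Scheme.fppfPrecoverage (Coh f) :=
  isAlgStack_coh_of_fg (fun _ _ _ _ h _ _ => good h) f

end K927.ModSt
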