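import Groth.Agent.ModSt.K927.EnStack
import Groth.Agent.AlgSt.K740.StackOf
import Groth.Agent.AlgSt.K747.EtAlias
import Groth.Agent.AlgSt.K742.EvQ
import Groth.Agent.Gerb.K893.Band4
import Groth.Agent.CurvSt.K902.SelfChart
import Groth.Agent.ThetaS.K943.SpLft

/-!
# Algebraicity over an algebraic stack, for the étale topology, and finiteness of charts

* `lft_of_chart` : smooth charts of a stack locally of finite type are locally of finite type.
* `algLft_of_rep` : a category fibred in groupoids which is representable by algebraic spaces and locally of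
  finite type over an algebraic stack locally of finite type is one.
-/

set_option autoImplicit false
set_option backward.isDefEq.respectTransparency false
set_option backward.isDefEq.respectTransparency.types false
universe v u

open CategoryTheory CategoryTheory.Limits AlgebraicGeometry Opposite

noncomputable section

namespace K927.En

open AlgSt AlgSp K742

variable {S : Scheme.{u}}

theorem lft_of_chart {𝒳 : AlgSt.Cat S} (h𝒳 : FibCat.IsFibGrpd 𝒳.p) (ha : HasAtlas (LocP @Smooth) 𝒳)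
    (h : LocQ (LocP @LocallyOfFiniteType) (FibCat.toSelf 𝒳)) (U : Over S) (x : FibCat.overCat U ⥤ᵇ 𝒳)
    (hx : RepByAlgSpWith (LocP @Smooth) x) : LocallyOfFiniteType U.hom := by
  have hx' := (K741.repByAlgSpWith_toOverCat _ x).1 hx
  have hU : IsAlgStack Scheme.fppfPrecoverage (ofSp ((yon S).obj U)) :=
    K740.SpDM.isAlgStack_ofSp (IsAlgSpace.yon_obj U)
  have h1 : LocQ (LocP @LocallyOfFiniteType) (BasedFunctor.comp (toOverCat U) x) :=
    K742.EvQ.locQ_of_rep nice_lft hU.isStack.1 h𝒳 hU.atlas ha _ (nice_lft.of_smooth hx')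
  have h2 := K742.EvQ.locQ_comp nice_lft hU.isStack.1 h𝒳 K735.Fp.isFibGrpd_selfOver hU.atlas ha
    K893.Band.hasAtlas_selfOver _ _ h1 h
  rw [K893.Band.comp_toSelf] at h2
  have h3 := K943.SpLft.lft_of_locQ (IsAlgSpace.yon_obj U) h2 ((yon S).map (K943.Points.str U))
  exact K943.SpLft.of_locP h3

theorem locQ_lft_toSelf {𝒳 : AlgSt.Cat S} {U : Over S} (x : FibCat.overCat U ⥤ᵇ 𝒳)
    (hx : RepByAlgSpWith (LocP @Smooth) x) (hs : RepByAlgSpWith IsSurjectiveMor x)
    (hU : LocallyOfFiniteType U.hom) : LocQ (LocP @LocallyOfFiniteType) (FibCat.toSelf 𝒳) :=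
  K902.SelfChart.locQ_toSelf x hx hs (K744.TorsProp.locP_yon _ K597.etLoc_lft _ hU)

/-- Algebraicity and finiteness over an algebraic stack. -/
theorem algLft_of_rep {𝒳 𝒴 : AlgSt.Cat S} (h𝒳 : FibCat.IsFibGrpd 𝒳.p) (j : 𝒳 ⥤ᵇ 𝒴)
    (hj : RepByAlgSpWith (LocP @LocallyOfFiniteType) j) (h𝒴 : IsAlgStack Scheme.etalePrecoverage 𝒴)
    (h𝒴' : ∀ (U : Over S) (x : FibCat.overCat U ⥤ᵇ 𝒴), RepByAlgSpWith (LocP @Smooth) x →
      LocallyOfFiniteType U.hom) :
    IsAlgStack Scheme.etalePrecoverage 𝒳 ∧ ∀ (U : Over S) (x : FibCat.overCat U ⥤ᵇ 𝒳),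
      RepByAlgSpWith (LocP @Smooth) x → LocallyOfFiniteType U.hom := by
  have h1 : IsAlgStack Scheme.fppfPrecoverage 𝒳 :=
    K740.StackOf.isAlgStack_of_rep1 h𝒳 (K747.EtFppf.isAlgStack_etale_iff.1 h𝒴) j (K735.Rep.repByAlgSp1_of_with hj)
  refine ⟨K747.EtFppf.isAlgStack_etale_iff.2 h1, fun U x hx => ?_⟩
  obtain ⟨V, v, hv, hvs⟩ := h𝒴.atlas
  have h2 := locQ_lft_toSelf v hv hvs (h𝒴' V v hv)
  have h3 := K742.EvQ.locQ_comp nice_lft h𝒳 h𝒴.isStack.1 K735.Fp.isFibGrpd_selfOver h1.atlas h𝒴.atlas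
    K893.Band.hasAtlas_selfOver j (FibCat.toSelf 𝒴)
    (K742.EvQ.locQ_of_rep nice_lft h𝒳 h𝒴.isStack.1 h1.atlas h𝒴.atlas j hj) h2
  rw [K893.Band.comp_toSelf] at h3
  exact lft_of_chart h𝒳 h1.atlas h3 U x hx

/-- S17497 from S17495. -/
theorem endo_of_rep {X S : Scheme.{u}} {f : X ⟶ S} {F : X.Modules}
    (hj : RepByAlgSpWith (LocP @LocallyOfFiniteType) (HiggsSt.Endo.forget f F))
    (hCoh : IsAlgStack Scheme.etalePrecoverage (ModSt.Coh f))
    (hCoh' : ∀ (U : Over S) (x : FibCat.overCat U ⥤ᵇ ModSt.Coh f),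
      RepByAlgSpWith (LocP @Smooth) x → LocallyOfFinitePresentation U.hom) :
    IsAlgStack Scheme.etalePrecoverage (HiggsSt.Endo f F) ∧
      ∀ (U : Over S) (x : FibCat.overCat U ⥤ᵇ HiggsSt.Endo f F),
        RepByAlgSpWith (LocP @Smooth) x → LocallyOfFiniteType U.hom :=
  algLft_of_rep (isFibGrpd_endo f F) (HiggsSt.Endo.forget f F) hj hCoh fun U x hx => by
    have := hCoh' U x hx
    infer_instance

end K927.En
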