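import Groth.Agent.ModSt.K927.EnPre
import Groth.Agent.Stk.K751.Loc

/-!
# Effectivity of descent for pairs

`K927.En.exists_eff_en`, `K927.En.isStack_en`.
-/

set_option autoImplicit false
universe v u

open CategoryTheory CategoryTheory.Limits AlgebraicGeometry Opposite ModSt Groth.Agent.Desc.QD K599.LMod

noncomputable section

namespace K927.En

open K927.ModSt K751.Test

variable {X S : Scheme.{u}} {f : X ⟶ S} {F : X.Modules}

theorem isPullback_transport {c a b v c' a' b' v' : Over S} (hc : c' = c) (ha : a' = a) (hb : b' = b)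
    (hv : v' = v) (u : c ⟶ a) (w : c ⟶ b) (p : a ⟶ v) (q : b ⟶ v) (u' : c' ⟶ a') (w' : c' ⟶ b')
    (p' : a' ⟶ v') (q' : b' ⟶ v') (hu : u' = eqToHom hc ≫ u ≫ eqToHom ha.symm)
    (hw : w' = eqToHom hc ≫ w ≫ eqToHom hb.symm) (hp : p' = eqToHom ha ≫ p ≫ eqToHom hv.symm)
    (hq : q' = eqToHom hb ≫ q ≫ eqToHom hv.symm) (h : IsPullback u.left w.left p.left q.left) :
    IsPullback u'.left w'.left p'.left q'.left := by
  subst hc ha hb hv
  simp only [eqToHom_refl, Category.comp_id, Category.id_comp] at hu hw hp hq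
  subst hu hw hp hq
  exact h

theorem isPullback_eqToHom {a' a v' v : Over S} (ha : a' = a) (hv : v' = v) (p : a ⟶ v) (s : a' ⟶ v')
    (hs : s = eqToHom ha ≫ p ≫ eqToHom hv.symm) :
    IsPullback s.left (eqToHom ha).left (eqToHom hv).left p.left := by
  subst ha hv
  simp only [eqToHom_refl, Category.comp_id, Category.id_comp] at hs
  subst hs
  exact IsPullback.of_id_snd

/-- Lifting to the total space over a fibre product of bases. -/
theorem exists_top_lift {C A B P : ModSt.Obj f} (gi : C ⟶ A) (gj : C ⟶ B) (si : A ⟶ P) (sj : B ⟶ P)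
    (hs : gi ≫ si = gj ≫ sj) (hsq : IsPullback gi.base.left gj.base.left si.base.left sj.base.left)
    {W : Scheme.{u}} (ta : W ⟶ A.XT) (tb : W ⟶ B.XT) (ht : ta ≫ si.top = tb ≫ sj.top) :
    ∃ w : W ⟶ C.XT, w ≫ gi.top = ta ∧ w ≫ gj.top = tb := by
  have e1 : (ta ≫ A.q) ≫ si.base.left = (tb ≫ B.q) ≫ sj.base.left := by
    rw [Category.assoc, Category.assoc, ← si.w_q, ← sj.w_q, ← Category.assoc, ← Category.assoc, ht]
  let l : W ⟶ C.base.left := hsq.lift (ta ≫ A.q) (tb ≫ B.q) e1
  have l1 : l ≫ gi.base.left = ta ≫ A.q := hsq.lift_fst _ _ _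
  have l2 : l ≫ gj.base.left = tb ≫ B.q := hsq.lift_snd _ _ _
  let w : W ⟶ C.XT := (Obj.Hom.isPullback_top gi).lift ta l l1.symm
  have w1 : w ≫ gi.top = ta := (Obj.Hom.isPullback_top gi).lift_fst _ _ _
  have w2 : w ≫ C.q = l := (Obj.Hom.isPullback_top gi).lift_snd _ _ _
  refine ⟨w, w1, ?_⟩
  have h3 : gi.top ≫ si.top = gj.top ≫ sj.top := congrArg Obj.Hom.top hs
  refine (Obj.Hom.isPullback_top sj).hom_ext ?_ ?_
  · rw [Category.assoc, ← h3, ← Category.assoc, w1, ht]
  · rw [Category.assoc, gj.w_q, ← Category.assoc, w2, l2]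

variable {P : ModSt.Obj f → Prop}

/-- The module part. -/
abbrev fgP (F : X.Modules) (P : ModSt.Obj f → Prop) : EnP F P ⥤ᵇ MdP P := HiggsSt.forgetSub f F P

section Eff

variable {V : Over S} {ι : Type v} {Z : ι → Over S} (p : ∀ i, Z i ⟶ V)
    (D : Stk.sieveCat (Sieve.generate (Presieve.ofArrows Z p)) ⥤ᵇ EnP F P)
    (E : Eff (BasedFunctor.comp D (fgP F P)))

/-- The structure morphism of the vertex. -/
def ιE (a : (Sieve.generate (Presieve.ofArrows Z p)).arrows.category) : (D.obj a).obj.toObj ⟶ E.pt.obj := (E.ι a).hom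

theorem nat_ιE {a b : (Sieve.generate (Presieve.ofArrows Z p)).arrows.category} (m : a ⟶ b) :
    (D.map m).hom.hom ≫ ιE p D E b = ιE p D E a :=
  congrArg (fun t => t.hom) (E.nat m)

/-- The object attached to an arrow of the family. -/
abbrev aI (i : ι) : (Sieve.generate (Presieve.ofArrows Z p)).arrows.category :=
  mkS (p i) (Sieve.le_generate _ _ _ (Presieve.ofArrows.mk i))

theorem ιE_base (a : (Sieve.generate (Presieve.ofArrows Z p)).arrows.category) :
    (ιE p D E a).base = eqToHom (D_obj D a) ≫ a.obj.hom ≫ eqToHom E.pt_obj.symm := by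
  have := E.lift a
  exact IsHomLift.fac' (MdP P).p a.obj.hom (E.ι a)

theorem map_base' {a b : (Sieve.generate (Presieve.ofArrows Z p)).arrows.category} (m : a ⟶ b) :
    (D.map m).hom.hom.base = eqToHom (D_obj D a) ≫ m.hom.left ≫ eqToHom (D_obj D b).symm := by
  have h1 : (Stk.sieveCat _).p.IsHomLift m.hom.left m := IsHomLift.map (Stk.sieveCat _).p m
  have h2 : (EnP F P).p.IsHomLift m.hom.left (D.map m) := BasedFunctor.preserves_isHomLift D m.hom.left m
  exact IsHomLift.fac' (EnP F P).p m.hom.left (D.map m)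

omit D E in
/-- The fibre product of two members of the family, as an object of the sieve. -/
theorem exists_pair (i j : ι) : ∃ (c : (Sieve.generate (Presieve.ofArrows Z p)).arrows.category)
    (m : c ⟶ aI p i) (m' : c ⟶ aI p j),
    IsPullback m.hom.left.left m'.hom.left.left (p i).left (p j).left := by
  let c₀ : Over S := Over.mk (pullback.fst (p i).left (p j).left ≫ (Z i).hom)
  let m₀ : c₀ ⟶ Z i := Over.homMk (pullback.fst (p i).left (p j).left) rfl
  let m₁ : c₀ ⟶ Z j := Over.homMk (pullback.snd (p i).left (p j).left) (by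
    change pullback.snd (p i).left (p j).left ≫ (Z j).hom = pullback.fst (p i).left (p j).left ≫ (Z i).hom
    rw [← Over.w (p i), ← Over.w (p j), ← Category.assoc, ← Category.assoc, pullback.condition])
  have hm : m₁ ≫ p j = m₀ ≫ p i := Over.OverMorphism.ext pullback.condition.symm
  have hi := Sieve.le_generate _ _ _ (Presieve.ofArrows.mk (f := p) i)
  let c : (Sieve.generate (Presieve.ofArrows Z p)).arrows.category :=
    mkS (m₀ ≫ p i) ((Sieve.generate (Presieve.ofArrows Z p)).downward_closed hi m₀)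
  exact ⟨c, homS (a := c) (b := aI p i) m₀ rfl, homS (a := c) (b := aI p j) m₁ hm,
    IsPullback.of_hasPullback (p i).left (p j).left⟩

theorem isPullback_pair (i j : ι) (c : (Sieve.generate (Presieve.ofArrows Z p)).arrows.category)
    (m : c ⟶ aI p i) (m' : c ⟶ aI p j)
    (h : IsPullback m.hom.left.left m'.hom.left.left (p i).left (p j).left) :
    IsPullback (D.map m).hom.hom.base.left (D.map m').hom.hom.base.left
      (ιE p D E (aI p i)).base.left (ιE p D E (aI p j)).base.left :=
  isPullback_transport (D_obj D c) (D_obj D (aI p i)) (D_obj D (aI p j)) E.pt_obj m.hom.left m'.hom.left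
    (p i) (p j) _ _ _ _ (map_base' p D m) (map_base' p D m') (ιE_base p D E (aI p i)) (ιE_base p D E (aI p j)) h

theorem mem_cover {K : Precoverage Scheme.{u}} [K.IsStableUnderBaseChange]
    (hK : K ≤ Scheme.fpqcPrecoverage)
    (hp : Presieve.ofArrows (fun i => (Z i).left) (fun i => (p i).left) ∈ K V.left) :
    Presieve.ofArrows (fun i => (D.obj (aI p i)).obj.XT) (fun i => (ιE p D E (aI p i)).top) ∈
      Scheme.fpqcPrecoverage E.pt.obj.XT := by
  refine top_mem hK (fun i => (D.obj (aI p i)).obj.toObj) (fun i => ιE p D E (aI p i)) ?_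
  refine Precoverage.mem_coverings_of_isPullback _ hp (eqToHom E.pt_obj).left _
    (fun i => (eqToHom (D_obj D (aI p i))).left) fun i => ?_
  exact isPullback_eqToHom (D_obj D (aI p i)) E.pt_obj (p i) _ (ιE_base p D E (aI p i))

/-- The vertex with its twisting module. -/
def ptE : Pre f F := ofPb F E.pt.obj

/-- The tensor comparison to the vertex. -/
def tI (a : (Sieve.generate (Presieve.ofArrows Z p)).arrows.category) :
    tO (pre (D.obj a).obj) ⟶ tO (ptE p D E) :=
  tau (A := pre (D.obj a).obj) (B := ptE p D E) (ιE p D E a)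

/-- The morphism in the category of modules. -/
def lE (a : (Sieve.generate (Presieve.ofArrows Z p)).arrows.category) :
    (ofObj f).obj (D.obj a).obj.toObj ⟶ (ofObj f).obj E.pt.obj := (ofObj f).map (ιE p D E a)

/-- The morphism to be glued. -/
def χI (a : (Sieve.generate (Presieve.ofArrows Z p)).arrows.category) :
    tO (pre (D.obj a).obj) ⟶ (ofObj f).obj E.pt.obj := φL (D.obj a).obj ≫ lE p D E a

theorem cart_tI (a : (Sieve.generate (Presieve.ofArrows Z p)).arrows.category) : Cart (tI p D E a) :=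
  cart_tau (A := pre (D.obj a).obj) (B := ptE p D E) (ιE p D E a)

theorem tI_comp {a b : (Sieve.generate (Presieve.ofArrows Z p)).arrows.category} (m : a ⟶ b) :
    tauH (D.map m).hom.hom ≫ tI p D E b = tI p D E a := by
  refine (tau_comp (A := pre (D.obj a).obj) (B := pre (D.obj b).obj) (C := ptE p D E)
    (D.map m).hom.hom (ιE p D E b)).symm.trans ?_
  exact congrArg (fun t => tau (A := pre (D.obj a).obj) (B := ptE p D E) t) (nat_ιE p D E m)

theorem χI_comp {a b : (Sieve.generate (Presieve.ofArrows Z p)).arrows.category} (m : a ⟶ b) :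
    tauH (D.map m).hom.hom ≫ χI p D E b = χI p D E a := by
  have h1 := (compat_iff _).1 (D.map m).hom.compat
  have h2 : (ofObj f).map (D.map m).hom.hom ≫ lE p D E b = lE p D E a :=
    ((ofObj f).map_comp _ _).symm.trans (congrArg (fun t => (ofObj f).map t) (nat_ιE p D E m))
  rw [χI, ← Category.assoc, ← h1, Category.assoc, h2, χI]

theorem glue_cond (i j : ι) {W : LObj.{u}} (a : W ⟶ tO (pre (D.obj (aI p i)).obj))
    (b : W ⟶ tO (pre (D.obj (aI p j)).obj)) (hab : a ≫ tI p D E (aI p i) = b ≫ tI p D E (aI p j)) :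
    a ≫ χI p D E (aI p i) = b ≫ χI p D E (aI p j) := by
  obtain ⟨c, m, m', hsq⟩ := exists_pair p i j
  obtain ⟨w, w1, w2⟩ := exists_top_lift (D.map m).hom.hom (D.map m').hom.hom (ιE p D E (aI p i))
    (ιE p D E (aI p j)) ((nat_ιE p D E m).trans (nat_ιE p D E m').symm) (isPullback_pair p D E i j c m m' hsq)
    a.top b.top (congrArg LObj.Hom.top hab)
  obtain ⟨wi, ⟨h1, h2⟩, -⟩ := (cart_tauH (D.map m).hom.hom).existsUnique_lift a w w1
  obtain ⟨wj, ⟨h3, h4⟩, -⟩ := (cart_tauH (D.map m').hom.hom).existsUnique_lift b w w2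
  have h5 : wi = wj := by
    refine (cart_tI p D E c).hom_ext' (h1.trans h3.symm) ?_
    rw [← tI_comp p D E m, ← Category.assoc, h2, hab, ← h4, Category.assoc, tI_comp p D E m',
      tI_comp p D E m]
  rw [← h2, ← h4, Category.assoc, Category.assoc, χI_comp, χI_comp, h5]

include E in
/-- Descent data of pairs are effective. -/
theorem exists_eff_en {K : Precoverage Scheme.{u}} [K.IsStableUnderBaseChange]
    (hK : K ≤ Scheme.fpqcPrecoverage) (hF : Coh.IsQCoh F)
    (hPQ : ∀ A : ModSt.Obj f, P A → Coh.IsQCoh A.E)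
    (hp : Presieve.ofArrows (fun i => (Z i).left) (fun i => (p i).left) ∈ K V.left) : Nonempty (Eff D) := by
  obtain ⟨ψ, h1, h2⟩ := exists_glueL (A := tO (ptE p D E)) (B := (ofObj f).obj E.pt.obj)
    (isQCoh_tO hF (ptE p D E) (hPQ _ E.pt.property)) (fun i => tO (pre (D.obj (aI p i)).obj))
    (fun i => tI p D E (aI p i)) (fun i => cart_tI p D E (aI p i)) (mem_cover p D E hK hp) (𝟙 _)
    (fun i => χI p D E (aI p i)) (fun i => (Category.id_comp _).trans (Category.comp_id _).symm)
    (fun W i j a b _ _ hab => glue_cond p D E i j a b hab)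
  obtain ⟨φ, rfl⟩ := exists_ofMap (M := (ptE p D E).E) (N := CohB1.tensorMod (ptE p D E).E (ptE p D E).FT) ψ h1
  let B : HiggsSt.Obj f F := (ptE p D E).mkφ φ
  let b : (EnP F P).obj := ⟨B, E.pt.property⟩
  have hc : ∀ i, HiggsSt.Obj.Compat (D.obj (aI p i)).obj B (ιE p D E (aI p i)) := fun i =>
    (compat_iff (A := (D.obj (aI p i)).obj) (B := B) _).2 (h2 i).symm
  have hc' : ∀ a, HiggsSt.Obj.Compat (D.obj a).obj B (ιE p D E a) := by
    intro a
    obtain ⟨W, h, g, ⟨i⟩, w⟩ := a.property
    have h3 := nat_ιE p D E (homS (a := a) (b := aI p i) h w)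
    rw [← h3]
    exact HiggsSt.Obj.compat_comp (D.map (homS (a := a) (b := aI p i) h w)).hom.compat (hc i)
  refine ⟨⟨b, fun a => ObjectProperty.homMk ⟨ιE p D E a, hc' a⟩, fun a => ?_, fun {a a'} m => ?_, E.pt_obj⟩⟩
  · exact IsHomLift.of_fac' (EnP F P).p a.obj.hom _ (D_obj D a) E.pt_obj (ιE_base p D E a)
  · exact enp_ext (nat_ιE p D E m)

end Eff

variable {K : Precoverage Scheme.{u}} [K.IsStableUnderComposition]
    [K.IsStableUnderBaseChange] [K.HasPullbacks] [K.HasIsos] [Precoverage.Small.{u} K]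

/-- Pairs whose module has a property `P` form a stack when the modules with `P` do. -/
theorem isStack_en (hK : K ≤ Scheme.fpqcPrecoverage) (hF : Coh.IsQCoh F)
    (hPQ : ∀ A : ModSt.Obj f, P A → Coh.IsQCoh A.E) (hbc : ∀ ⦃A B : ModSt.Obj f⦄ (_ : B ⟶ A), P A → P B)
    (hS : Stk.IsStack (QuotSh.J K S) (MdP P)) : Stk.IsStack (QuotSh.J K S) (EnP F P) := by
  have hpre := isPrestack_en hK hF hPQ hbc (isPrestack_of_isStack hS)
  refine ⟨hpre.1, fun V R hR => ?_⟩
  obtain ⟨ι, Z, p, hp, hpR⟩ := K185.Cover.exists_ofArrows_of_mem_J hR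
  have hJ : Sieve.generate (Presieve.ofArrows Z p) ∈ QuotSh.J K S V := K185.Cover.ofArrows_mem_J p hp
  refine K751.Loc.isStackFor_of_le hpre.1 (S := Sieve.generate (Presieve.ofArrows Z p)) ?_ ?_ ?_
  · rw [Sieve.generate_le_iff]
    rintro _ _ ⟨i⟩
    exact hpR i
  · rw [K751.Test.isStackFor_iff hpre.1]
    refine ⟨hpre.2 _ hJ, fun D => ?_⟩
    obtain ⟨E⟩ := exists_eff hS hJ (BasedFunctor.comp D (fgP F P))
    exact exists_eff_en p D E hK hF hPQ hp
  · intro W f _
    exact hpre.2 _ ((QuotSh.J K S).pullback_stable f hJ)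

end K927.En
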