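import Groth.Agent.ModSt.K927.EnKit
import Groth.Agent.ModSt.K927.Fib

/-!
# Pairs are fibred in groupoids

`K927.En.isFibGrpd_fam`, `isFibGrpd_endo`, `exists_lift_pair`, `exists_lift_arrow`.
-/

set_option autoImplicit false
universe v u

open CategoryTheory CategoryTheory.Limits AlgebraicGeometry Opposite ModSt Groth.Agent.Desc.QD K599.LMod

noncomputable section

namespace K927.En

open K927.ModSt

variable {X S : Scheme.{u}} {f : X ⟶ S} {F : X.Modules}

/-- Every morphism of modules into a pair lifts. -/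
theorem exists_lift_pair {x : ModSt.Obj f} {B : HiggsSt.Obj f F} (g : x ⟶ B.toObj) :
    ∃ (A : HiggsSt.Obj f F) (h : A.toObj = x) (G : A ⟶ B), G.hom = eqToHom h ≫ g := by
  obtain ⟨φ, G, hG⟩ := exists_pull (A := ofPb F x) g
  exact ⟨_, rfl, G, by rw [hG]; exact (Category.id_comp _).symm⟩

/-- A chosen lift. -/
def liftP {x : ModSt.Obj f} {B : HiggsSt.Obj f F} (g : x ⟶ B.toObj) : HiggsSt.Obj f F :=
  (ofPb F x).mkφ (exists_pull (A := ofPb F x) g).choose

def liftPι {x : ModSt.Obj f} {B : HiggsSt.Obj f F} (g : x ⟶ B.toObj) : liftP g ⟶ B :=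
  (exists_pull (A := ofPb F x) g).choose_spec.choose

theorem liftP_toObj {x : ModSt.Obj f} {B : HiggsSt.Obj f F} (g : x ⟶ B.toObj) : (liftP g).toObj = x := rfl

theorem liftPι_hom {x : ModSt.Obj f} {B : HiggsSt.Obj f F} (g : x ⟶ B.toObj) : (liftPι g).hom = g :=
  (exists_pull (A := ofPb F x) g).choose_spec.choose_spec

/-- A morphism of modules compatible with morphisms to a pair is a morphism of pairs. -/
theorem exists_lift_arrow {A B C : HiggsSt.Obj f F} (g : A.toObj ⟶ B.toObj) (G' : B ⟶ C) (G : A ⟶ C)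
    (h : g ≫ G'.hom = G.hom) : ∃ H : A ⟶ B, H.hom = g ∧ H ≫ G' = G := by
  have h1 : HiggsSt.Obj.Compat A C (g ≫ G'.hom) := by
    rw [h]
    exact G.compat
  exact ⟨⟨g, compat_of_comp G'.compat h1⟩, rfl, HiggsSt.Obj.hom_ext h⟩

variable (f F) in
theorem isFibGrpd_fam : FibCat.IsFibGrpd (HiggsSt.Fam f F).p where
  exists_lift := fun {A} {V} g => by
    let g' : bc A.toObj g ⟶ A.toObj := bcHom A.toObj g
    refine ⟨liftP g', liftPι g', ?_⟩
    have h1 : (liftPι g').hom.base = g := by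
      rw [liftPι_hom]
      rfl
    refine IsHomLift.of_fac' (HiggsSt.Fam f F).p g (liftPι g') rfl rfl ?_
    change (liftPι g').hom.base = 𝟙 _ ≫ g ≫ 𝟙 _
    rw [Category.comp_id, Category.id_comp, h1]
  isStronglyCartesian := fun {B A} φ =>
    { universal_property' := fun {C} g ψ hψ => by
        have hg : g ≫ φ.hom.base = ψ.hom.base :=
          IsHomLift.eq_of_isHomLift (HiggsSt.Obj.forget f F) (g ≫ (HiggsSt.Obj.forget f F).map φ) ψ
        obtain ⟨χ, ⟨h1, h2⟩, h3⟩ := existsUnique_lift φ.hom ψ.hom g hg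
        obtain ⟨χ', h4, h5⟩ := exists_lift_arrow χ φ ψ h2
        refine ⟨χ', ⟨?_, h5⟩, ?_⟩
        · have h6 : g = χ'.hom.base := by rw [h4, h1]
          subst h6
          exact IsHomLift.map (HiggsSt.Obj.forget f F) χ'
        · rintro χ'' ⟨h6, h7⟩
          apply HiggsSt.Obj.hom_ext
          rw [h4]
          refine h3 χ''.hom ⟨(IsHomLift.eq_of_isHomLift (HiggsSt.Obj.forget f F) g χ'').symm, ?_⟩
          rw [← h7]
          rfl }

variable (f F) in
theorem isFibGrpd_sub (P : ModSt.Obj f → Prop) (hP : ∀ ⦃A B : ModSt.Obj f⦄ (_ : B ⟶ A), P A → P B) :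
    FibCat.IsFibGrpd (AlgSt.fullSub (HiggsSt.Fam f F) fun A => P A.toObj).p := by
  refine K751.FF.isFibGrpd_sub (isFibGrpd_fam f F) ?_
  intro A B φ hB
  exact ⟨A, Iso.refl _, hP φ.hom hB, IsHomLift.id rfl⟩

variable (f F) in
theorem isFibGrpd_endo : FibCat.IsFibGrpd (HiggsSt.Endo f F).p :=
  isFibGrpd_sub f F ModSt.IsCohObj fun _ _ φ h => isCohObj_of_hom φ h

end K927.En
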