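import Groth.Agent.ModSt.K927.EnPin

/-!
# Modules with a twisting datum

`Pre f F` : an object of `ModSt.Obj f` with a pull-back of `F`.
* `kap g : fO A ⟶ fO B` : the comparison of the twisting modules over `g : A.toObj ⟶ B.toObj` (unique).
* `tau g : tO A ⟶ tO B` : the comparison of `E ⊗ FT` (cartesian, functorial).
* `compat_iff` : `HiggsSt.Obj.Compat` as an equation in `LObj`.
* `existsUnique_phi` : pull-back of the twisted endomorphism.
-/

set_option autoImplicit false
universe v u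

open CategoryTheory CategoryTheory.Limits AlgebraicGeometry Opposite ModSt Groth.Agent.Desc.QD K599.LMod

noncomputable section

namespace K927.En

open K927.ModSt Groth.Agent.Ega2

variable {X S : Scheme.{u}} {f : X ⟶ S} {F : X.Modules}

variable (f F) in
/-- A module on a base change, with a pull-back of `F`. -/
structure Pre extends ModSt.Obj f where
  FT : XT.Modules
  ι : F ⟶ (Scheme.Modules.pushforward p).obj FT
  ιcart : ModSt.IsCart p ι

/-- Forget the twisted endomorphism. -/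
abbrev pre (A : HiggsSt.Obj f F) : Pre f F := ⟨A.toObj, A.FT, A.ι, A.ιcart⟩

/-- Add a twisted endomorphism. -/
abbrev Pre.mkφ (A : Pre f F) (φ : A.E ⟶ CohB1.tensorMod A.E A.FT) : HiggsSt.Obj f F :=
  ⟨A.toObj, A.FT, A.ι, A.ιcart, φ⟩

variable (F) in
/-- The inverse image of `F` as twisting module. -/
def ofPb (x : ModSt.Obj f) : Pre f F where
  toObj := x
  FT := (Scheme.Modules.pullback x.p).obj F
  ι := (Scheme.Modules.pullbackPushforwardAdjunction x.p).unit.app F
  ιcart := isCart_unit x.p F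

/-- The twisting module. -/
def fO (A : Pre f F) : LObj.{u} := ⟨A.XT, A.FT⟩

/-- The structure morphism of the twisting module. -/
def fπ (A : Pre f F) : fO A ⟶ (⟨X, F⟩ : LObj.{u}) := ⟨A.p, A.ι⟩

/-- The tensor product. -/
def tO (A : Pre f F) : LObj.{u} := ⟨A.XT, CohB1.tensorMod A.E A.FT⟩

/-- The module. -/
abbrev eO (A : Pre f F) : LObj.{u} := ⟨A.XT, A.E⟩

theorem cart_fπ (A : Pre f F) : Cart (fπ A) := A.ιcart

variable {A B C : Pre f F}

/-- The comparison of the twisting modules. -/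
def kap (g : A.toObj ⟶ B.toObj) : fO A ⟶ fO B :=
  recast ((cart_fπ B).lift (fπ A) g.top g.w_p) g.top (Cart.lift_top _ _ _ _)

theorem kap_top (g : A.toObj ⟶ B.toObj) : (kap g).top = g.top := rfl

theorem kap_eq (g : A.toObj ⟶ B.toObj) : kap g = (cart_fπ B).lift (fπ A) g.top g.w_p := recast_eq _ _ _

theorem kap_π (g : A.toObj ⟶ B.toObj) : kap g ≫ fπ B = fπ A := by
  rw [kap_eq]
  exact Cart.lift_comp _ _ _ _

theorem kap_unique (g : A.toObj ⟶ B.toObj) (χ : fO A ⟶ fO B) (h : χ.top = g.top) (h' : χ ≫ fπ B = fπ A) :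
    χ = kap g :=
  (cart_fπ B).hom_ext' (h.trans (kap_top g).symm) (h'.trans (kap_π g).symm)

theorem cart_kap (g : A.toObj ⟶ B.toObj) : Cart (kap g) := by
  refine Cart.of_comp (cart_fπ B) ?_
  rw [kap_π]
  exact cart_fπ A

theorem kap_id (A : Pre f F) : kap (A := A) (B := A) (𝟙 A.toObj) = 𝟙 (fO A) :=
  (kap_unique _ _ rfl (Category.id_comp _)).symm

theorem kap_comp (g : A.toObj ⟶ B.toObj) (g' : B.toObj ⟶ C.toObj) :
    kap (A := A) (B := C) (g ≫ g') = kap g ≫ kap g' := by
  refine (kap_unique _ _ rfl ?_).symm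
  rw [Category.assoc, kap_π, kap_π]

/-- The comparison of the tensor products. -/
def tau (g : A.toObj ⟶ B.toObj) : tO A ⟶ tO B := ⟨g.top, pinT g.top g.c (kap g).c⟩

theorem tau_top (g : A.toObj ⟶ B.toObj) : (tau g).top = g.top := rfl

theorem cart_tau (g : A.toObj ⟶ B.toObj) : Cart (tau g) :=
  isCart_pinT g.top g.c (kap g).c g.cart (cart_kap g)

/-- Uniqueness of the pinned comparison. -/
theorem tau_unique (g : A.toObj ⟶ B.toObj)
    (T : CohB1.tensorMod B.E B.FT ⟶ (Scheme.Modules.pushforward g.top).obj (CohB1.tensorMod A.E A.FT))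
    (cF : B.FT ⟶ (Scheme.Modules.pushforward g.top).obj A.FT)
    (h : (⟨g.top, cF⟩ : fO A ⟶ fO B) = kap g) (hT : HiggsSt.TmulPin g.top g.c cF T) :
    (⟨g.top, T⟩ : tO A ⟶ tO B) = tau g := by
  have h1 : cF = (kap g).c :=
    eq_of_heq (LObj.Hom.mk.inj (show (⟨g.top, cF⟩ : LObj.Hom (fO A) (fO B)) = ⟨g.top, (kap g).c⟩ from h)).2
  subst h1
  have h2 : T = pinT g.top g.c (kap g).c := pin_unique hT (pinT_pin _ _ _)
  rw [h2]
  rfl

theorem tau_id (A : Pre f F) : tau (A := A) (B := A) (𝟙 A.toObj) = 𝟙 (tO A) := by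
  refine (tau_unique (A := A) (B := A) (𝟙 A.toObj) _ ((Scheme.Modules.pushforwardId A.XT).inv.app A.FT) ?_
    (HiggsSt.tmulPin_id A.E A.FT)).symm
  exact (kap_id A).symm

theorem tau_comp (g : A.toObj ⟶ B.toObj) (g' : B.toObj ⟶ C.toObj) :
    tau (A := A) (B := C) (g ≫ g') = tau g ≫ tau g' := by
  refine (tau_unique (A := A) (B := C) (g ≫ g') _ _ ?_
    (HiggsSt.TmulPin.comp (pinT_pin g'.top g'.c (kap g').c) (pinT_pin g.top g.c (kap g).c))).symm
  exact (kap_comp g g').symm

theorem app_heq_of_eq {P Q : LObj.{u}} {χ χ' : P ⟶ Q} (h : χ = χ') (U : Q.Y.Opens) (x : Γ(Q.M, U)) :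
    HEq (χ.c.app U x) (χ'.c.app U x) := by
  subst h
  rfl

/-- The twisted endomorphism. -/
def φL (A : HiggsSt.Obj f F) : tO (pre A) ⟶ (ofObj f).obj A.toObj := ofMap A.φ

theorem φL_top (A : HiggsSt.Obj f F) : (φL A).top = 𝟙 A.XT := rfl

/-- The comparison of tensor products for pairs. -/
def tauH {A B : HiggsSt.Obj f F} (g : A.toObj ⟶ B.toObj) : tO (pre A) ⟶ tO (pre B) := tau (A := pre A) (B := pre B) g

theorem tauH_comp {A B C : HiggsSt.Obj f F} (g : A.toObj ⟶ B.toObj) (g' : B.toObj ⟶ C.toObj) :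
    tauH (A := A) (B := C) (g ≫ g') = tauH g ≫ tauH g' :=
  tau_comp (A := pre A) (B := pre B) (C := pre C) g g'

theorem cart_tauH {A B : HiggsSt.Obj f F} (g : A.toObj ⟶ B.toObj) : Cart (tauH g) :=
  cart_tau (A := pre A) (B := pre B) g

/-- Compatibility as an equation. -/
theorem compat_iff {A B : HiggsSt.Obj f F} (g : A.toObj ⟶ B.toObj) :
    HiggsSt.Obj.Compat A B g ↔ φL A ≫ (ofObj f).map g = tauH g ≫ φL B := by
  constructor
  · rintro ⟨cF, T, hF, hT, hs⟩
    have h1 : (⟨g.top, cF⟩ : fO (pre A) ⟶ fO (pre B)) = kap (A := pre A) (B := pre B) g := by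
      refine kap_unique (A := pre A) (B := pre B) g _ rfl ?_
      refine LObj.Hom.ext' g.w_p fun U w => ?_
      exact hF U w
    have h2 := tau_unique (A := pre A) (B := pre B) g T cF h1 hT
    rw [tauH, ← h2]
    refine LObj.Hom.ext' ((Category.id_comp _).trans (Category.comp_id _).symm) fun U x => ?_
    refine heq_of_eq ?_
    exact (congr((Scheme.Modules.Hom.app $hs U) x)).symm
  · intro h
    refine ⟨(kap (A := pre A) (B := pre B) g).c, pinT g.top g.c (kap (A := pre A) (B := pre B) g).c, ?_,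
      pinT_pin _ _ _, ?_⟩
    · intro U w
      exact app_heq_of_eq (kap_π (A := pre A) (B := pre B) g) U w
    · refine Scheme.Modules.hom_ext _ _ fun U => ?_
      ext x
      exact (eq_of_heq (app_heq_of_eq h U x)).symm

/-- Pull-back of the twisted endomorphism along a morphism of modules. -/
theorem existsUnique_phi {A : Pre f F} {B : HiggsSt.Obj f F} (g : A.toObj ⟶ B.toObj) :
    ∃! φ : A.E ⟶ CohB1.tensorMod A.E A.FT, HiggsSt.Obj.Compat (A.mkφ φ) B g := by
  have hg : Cart ((ofObj f).map g) := cart_ofObj g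
  obtain ⟨χ, ⟨h1, h2⟩, -⟩ := hg.existsUnique_lift (tau (A := A) (B := pre B) g ≫ φL B) (𝟙 A.XT)
    ((Category.id_comp _).trans (Category.comp_id _).symm)
  obtain ⟨φ, rfl⟩ := exists_ofMap (M := A.E) (N := CohB1.tensorMod A.E A.FT) χ h1
  refine ⟨φ, (compat_iff (A := A.mkφ φ) g).2 h2, fun φ' h' => ?_⟩
  have h3 := (compat_iff (A := A.mkφ φ') g).1 h'
  exact ofMap_injective (hg.hom_ext' rfl (h3.trans h2.symm))

/-- The pull-back of a pair along a morphism of modules, with given twisting module. -/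
theorem exists_pull {A : Pre f F} {B : HiggsSt.Obj f F} (g : A.toObj ⟶ B.toObj) :
    ∃ (φ : A.E ⟶ CohB1.tensorMod A.E A.FT) (G : A.mkφ φ ⟶ B), G.hom = g := by
  obtain ⟨φ, hφ, -⟩ := existsUnique_phi g
  exact ⟨φ, ⟨g, hφ⟩, rfl⟩

/-- Compatibility may be tested after a compatible morphism. -/
theorem compat_of_comp {A B C : HiggsSt.Obj f F} {g : A.toObj ⟶ B.toObj} {g' : B.toObj ⟶ C.toObj}
    (h' : HiggsSt.Obj.Compat B C g') (h : HiggsSt.Obj.Compat A C (g ≫ g')) : HiggsSt.Obj.Compat A B g := by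
  rw [compat_iff] at h h' ⊢
  have hg : Cart ((ofObj f).map g') := cart_ofObj g'
  refine hg.hom_ext' ((Category.id_comp _).trans (Category.comp_id _).symm) ?_
  rw [Category.assoc, Category.assoc, ← (ofObj f).map_comp, h, h', tauH_comp, Category.assoc]

end K927.En
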