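import Groth.Agent.ModSt.K927.EnGlue
import Groth.Agent.Ega2.TensLift
import Groth.Agent.Dcoh.MonPull2_292
import Groth.Prelude.Def_HiggsSt

/-!
# Tensor products of comparison maps

* `pinT`, `pinT_pin`, `pin_unique` : the comparison map of tensor products pinned by `HiggsSt.TmulPin`.
* `isCart_pinT` : it is cartesian when the two factors are.
-/

set_option autoImplicit false
universe v u

open CategoryTheory CategoryTheory.Limits AlgebraicGeometry Opposite ModSt Groth.Agent.Desc.QD K599.LMod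

noncomputable section

namespace K927.En

open K927.ModSt Groth.Agent.Ega2

section Pin

variable {Y Z : Scheme.{u}} (h : Y ⟶ Z) {E₁ F₁ : Z.Modules} {E₂ F₂ : Y.Modules}
    (c : E₁ ⟶ (Scheme.Modules.pushforward h).obj E₂) (cF : F₁ ⟶ (Scheme.Modules.pushforward h).obj F₂)

/-- `c` on sections. -/
def apc {U : Z.Opens} (e : Γ(E₁, U)) : Γ(E₂, h ⁻¹ᵁ U) := c.app U e

theorem apc_add {U : Z.Opens} (e e' : Γ(E₁, U)) : apc h c (e + e') = apc h c e + apc h c e' :=
  map_add (ap c U) e e'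

theorem apc_smul {U : Z.Opens} (r : Γ(Z, U)) (e : Γ(E₁, U)) : apc h c (r • e) = h.app U r • apc h c e :=
  Scheme.Modules.Hom.app_smul c r e

theorem apc_res {U V : Z.Opens} (i : V ⟶ U) (e : Γ(E₁, U)) :
    E₂.presheaf.map ((TopologicalSpace.Opens.map h.base).map i).op (apc h c e) = apc h c (E₁.presheaf.map i.op e) :=
  Tens.app_res c i e

/-- The section `c(e) ⊗ cF(w)`. -/
def tt {U : Z.Opens} (e : Γ(E₁, U)) (w : Γ(F₁, U)) : Γ(CohB1.tensorMod E₂ F₂, h ⁻¹ᵁ U) :=
  Tens.tmul (apc h c e) (apc h cF w)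

theorem tt_res {U V : Z.Opens} (i : V ⟶ U) (e : Γ(E₁, U)) (w : Γ(F₁, U)) :
    (CohB1.tensorMod E₂ F₂).presheaf.map ((TopologicalSpace.Opens.map h.base).map i).op (tt h c cF e w) =
      tt h c cF (E₁.presheaf.map i.op e) (F₁.presheaf.map i.op w) := by
  unfold tt
  rw [Tens.tmul_res, apc_res, apc_res]

/-- The bilinear map. -/
def ttBil (U : Z.Opens) : Γ(E₁, U) →ₗ[Γ(Z, U)] Γ(F₁, U) →ₗ[Γ(Z, U)]
    Γ((Scheme.Modules.pushforward h).obj (CohB1.tensorMod E₂ F₂), U) :=
  LinearMap.mk₂ Γ(Z, U) (fun e w => tt h c cF e w)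
    (fun m m' n => by
      unfold tt
      rw [apc_add]
      exact Tens.add_tmul _ _ _)
    (fun r m n => by
      unfold tt
      rw [apc_smul]
      exact Tens.smul_tmul _ _ _)
    (fun m n n' => by
      unfold tt
      rw [apc_add]
      exact Tens.tmul_add _ _ _)
    (fun r m n => by
      unfold tt
      rw [apc_smul]
      exact Tens.tmul_smul _ _ _)

/-- The pinned comparison. -/
def pinT : CohB1.tensorMod E₁ F₁ ⟶ (Scheme.Modules.pushforward h).obj (CohB1.tensorMod E₂ F₂) :=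
  Tens.lift (ttBil h c cF) (fun _ _ i m n => tt_res h c cF i m n)

theorem pinT_tmul {U : Z.Opens} (e : Γ(E₁, U)) (w : Γ(F₁, U)) :
    apc h (pinT h c cF) (Tens.tmul e w) = Tens.tmul (apc h c e) (apc h cF w) :=
  Tens.lift_tmul _ _ _ _ _

theorem pinT_pin : HiggsSt.TmulPin h c cF (pinT h c cF) := fun _ e w => pinT_tmul h c cF e w

variable {h c cF}

theorem hom_ext_apc {G : Y.Modules} {T T' : CohB1.tensorMod E₁ F₁ ⟶ (Scheme.Modules.pushforward h).obj G}
    (H : ∀ (U : Z.Opens) (e : Γ(E₁, U)) (w : Γ(F₁, U)), apc h T (Tens.tmul e w) = apc h T' (Tens.tmul e w)) :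
    T = T' :=
  Tens.hom_ext _ _ H

theorem pin_unique {T T' : CohB1.tensorMod E₁ F₁ ⟶ (Scheme.Modules.pushforward h).obj (CohB1.tensorMod E₂ F₂)}
    (H : HiggsSt.TmulPin h c cF T) (H' : HiggsSt.TmulPin h c cF T') : T = T' :=
  Tens.hom_ext _ _ fun U m n => (H U m n).trans (H' U m n).symm

end Pin

section Cart

open MonoidalCategory Functor.OplaxMonoidal Groth.Agent.Dcoh.MonPull
open scoped Groth.Agent.Dcoh.MonCat

variable {Y Z : Scheme.{u}} (h : Y ⟶ Z) {E₁ F₁ : Z.Modules} {E₂ F₂ : Y.Modules}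
    (c : E₁ ⟶ (Scheme.Modules.pushforward h).obj E₂) (cF : F₁ ⟶ (Scheme.Modules.pushforward h).obj F₂)

theorem symm_pb {G : Z.Modules} {G' : Y.Modules} (t : G ⟶ (Scheme.Modules.pushforward h).obj G') {U : Z.Opens}
    (e : Γ(G, U)) : ((adj h).symm t).app (h ⁻¹ᵁ U) (pb h e) = apc h t e := by
  have h1 : adj h ((adj h).symm t) = t := Equiv.apply_symm_apply _ _
  have h2 : (Scheme.Modules.pullbackPushforwardAdjunction h).unit.app G ≫
      (Scheme.Modules.pushforward h).map ((adj h).symm t) = t := (Adjunction.homEquiv_unit _ _ _ _).symm.trans h1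
  exact congr((Scheme.Modules.Hom.app $h2 U) e)

theorem adj_symm_pinT : (adj h).symm (pinT h c cF) =
    δ (Scheme.Modules.pullback h) E₁ F₁ ≫ ((adj h).symm c ⊗ₘ (adj h).symm cF) := by
  refine pb_ext₂ h _ _ fun V m n => ?_
  refine (symm_pb h (pinT h c cF) _).trans ((pinT_tmul h c cF m n).trans ?_)
  symm
  refine (congrArg (fun z => ((adj h).symm c ⊗ₘ (adj h).symm cF).app (h ⁻¹ᵁ V) z) (δ_pb h m n)).trans ?_
  refine (Groth.Agent.Dcoh.MonTm.tensorHom_tm _ _ _ _).trans ?_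
  refine congrArg₂ (fun a b => Groth.Agent.Dcoh.MonTm.tm a b) ?_ ?_
  · exact symm_pb h c m
  · exact symm_pb h cF n

theorem isCart_pinT (hc : IsCart h c) (hF : IsCart h cF) : IsCart h (pinT h c cF) := by
  rw [isCart_iff] at hc hF ⊢
  have h1 : IsIso ((adj h).symm c) := hc
  have h2 : IsIso ((adj h).symm cF) := hF
  have h3 := adj_symm_pinT h c cF
  change IsIso ((adj h).symm (pinT h c cF))
  rw [h3]
  have h4 : IsIso (δ (Scheme.Modules.pullback h) E₁ F₁) :=
    (Functor.Monoidal.μIso (Scheme.Modules.pullback h) E₁ F₁).isIso_inv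
  have h5 : IsIso ((adj h).symm c ⊗ₘ (adj h).symm cF) := inferInstance
  exact @IsIso.comp_isIso _ _ _ _ _ _ _ h4 h5

end Cart

end K927.En
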