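import Groth.Agent.ModSt.K927.EnFib
import Groth.Agent.Ega1.TensorRestrict
import Groth.Agent.Stk.K751.Test
import Groth.Agent.GrpQ.K185.Cover
import Groth.Agent.VarietyB.PullSec

/-!
# Morphisms of pairs glue

`K927.En.compat_of_cover`, `K927.En.isPrestack_en`.
-/

set_option autoImplicit false
universe v u

open CategoryTheory CategoryTheory.Limits AlgebraicGeometry Opposite ModSt Groth.Agent.Desc.QD K599.LMod

noncomputable section

namespace K927.En

open K927.ModSt K751.Test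

variable {X S : Scheme.{u}} {f : X ⟶ S} {F : X.Modules}

theorem isQCoh_FT (hF : Coh.IsQCoh F) (A : Pre f F) : Coh.IsQCoh A.FT := by
  obtain ⟨e⟩ := nonempty_iso_pullback A.ιcart
  exact Groth.Agent.Ega1.QCohLoc.isQCoh_of_iso e (Groth.Agent.VarietyB.PullSec.isQCoh_pullback _ _ hF)

theorem isQCoh_tO (hF : Coh.IsQCoh F) (A : Pre f F) (hA : Coh.IsQCoh A.E) : Coh.IsQCoh (tO A).M :=
  Groth.Agent.Ega1.TensorRestrict.isQCoh_tensorMod _ _ hA (isQCoh_FT hF A)

/-- The top maps of a covering family are covering. -/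
theorem top_mem {K : Precoverage Scheme.{u}} [K.IsStableUnderBaseChange] (hK : K ≤ Scheme.fpqcPrecoverage)
    {ι : Type v} {x : ModSt.Obj f} (z : ι → ModSt.Obj f) (a : ∀ i, z i ⟶ x)
    (hcov : Presieve.ofArrows (fun i => (z i).base.left) (fun i => (a i).base.left) ∈ K x.base.left) :
    Presieve.ofArrows (fun i => (z i).XT) (fun i => (a i).top) ∈ Scheme.fpqcPrecoverage x.XT :=
  hK _ (Precoverage.mem_coverings_of_isPullback _ hcov x.q _ (fun i => (z i).q)
    (fun i => (Obj.Hom.isPullback_top (a i))))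

/-- Compatibility is local. -/
theorem compat_of_cover {K : Precoverage Scheme.{u}} [K.IsStableUnderBaseChange]
    (hK : K ≤ Scheme.fpqcPrecoverage) (hF : Coh.IsQCoh F) {ι : Type v} {x y : HiggsSt.Obj f F}
    (hx : Coh.IsQCoh x.E) (ψ : x.toObj ⟶ y.toObj) (z : ι → HiggsSt.Obj f F) (a : ∀ i, z i ⟶ x)
    (hcov : Presieve.ofArrows (fun i => (z i).base.left) (fun i => (a i).hom.base.left) ∈ K x.base.left)
    (h : ∀ i, HiggsSt.Obj.Compat (z i) y ((a i).hom ≫ ψ)) : HiggsSt.Obj.Compat x y ψ := by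
  rw [compat_iff]
  refine sepL (isQCoh_tO hF (pre x) hx) (fun i => tO (pre (z i))) (fun i => tauH (a i).hom)
    (fun i => cart_tauH (a i).hom) (top_mem hK (fun i => (z i).toObj) (fun i => (a i).hom) hcov)
    ((Category.id_comp _).trans (Category.comp_id _).symm) fun i => ?_
  have h1 := (compat_iff _).1 (a i).compat
  have h2 := (compat_iff _).1 (h i)
  rw [← Category.assoc, ← h1, Category.assoc, ← (ofObj f).map_comp, h2, tauH_comp, Category.assoc]

variable (F) in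
/-- Pairs whose module has `P`. -/
abbrev EnP (P : ModSt.Obj f → Prop) : AlgSt.Cat S := AlgSt.fullSub (HiggsSt.Fam f F) fun A => P A.toObj

abbrev MdP (P : ModSt.Obj f → Prop) : AlgSt.Cat S := AlgSt.fullSub (ModSt.Fam f) P

variable {P : ModSt.Obj f → Prop}

/-- The module of a pair. -/
abbrev mdO (x : (EnP F P).obj) : (MdP P).obj := ⟨x.obj.toObj, x.property⟩

theorem enp_ext {x y : (EnP F P).obj} {a b : x ⟶ y} (h : a.hom.hom = b.hom.hom) : a = b := by
  apply ObjectProperty.hom_ext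
  apply HiggsSt.Obj.hom_ext
  exact h

theorem map_en {x y : (EnP F P).obj} (a : x ⟶ y) : (EnP F P).p.map a = a.hom.hom.base := rfl

theorem map_md {x y : (MdP P).obj} (a : x ⟶ y) : (MdP P).p.map a = a.hom.base := rfl

/-- Lift of a morphism of modules. -/
def zt {x : (EnP F P).obj} {z : (MdP P).obj} (a : z ⟶ mdO x) : (EnP F P).obj := ⟨liftP a.hom, z.property⟩

def at' {x : (EnP F P).obj} {z : (MdP P).obj} (a : z ⟶ mdO x) : zt a ⟶ x := ObjectProperty.homMk (liftPι a.hom)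

theorem at_hom {x : (EnP F P).obj} {z : (MdP P).obj} (a : z ⟶ mdO x) : (at' a).hom.hom = a.hom :=
  liftPι_hom a.hom

/-- Morphisms out of a lift, as morphisms of modules. -/
def dn {x y : (EnP F P).obj} {z : (MdP P).obj} (a : z ⟶ mdO x) (b : zt a ⟶ y) : z ⟶ mdO y :=
  ObjectProperty.homMk (show z.obj ⟶ y.obj.toObj from b.hom.hom)

theorem dn_hom {x y : (EnP F P).obj} {z : (MdP P).obj} (a : z ⟶ mdO x) (b : zt a ⟶ y) :
    (dn a b).hom = b.hom.hom := rfl

theorem dn_at {x : (EnP F P).obj} {z : (MdP P).obj} (a : z ⟶ mdO x) : dn a (at' a) = a :=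
  ObjectProperty.hom_ext _ (at_hom a)

theorem exists_lift_arrow' {x z w : (EnP F P).obj} (a : z ⟶ x) (c : w ⟶ x)
    (b : w.obj.toObj ⟶ z.obj.toObj) (h : b ≫ a.hom.hom = c.hom.hom) :
    ∃ b' : w ⟶ z, b'.hom.hom = b ∧ b' ≫ a = c := by
  obtain ⟨H, h1, h2⟩ := exists_lift_arrow b a.hom c.hom h
  exact ⟨ObjectProperty.homMk H, h1, ObjectProperty.hom_ext _ h2⟩

theorem mem_at {x : (EnP F P).obj} {z : (MdP P).obj} (a : z ⟶ mdO x) (R : Sieve ((EnP F P).p.obj x))
    (h : R ((MdP P).p.map a)) : R ((EnP F P).p.map (at' a)) := by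
  have h1 : (EnP F P).p.map (at' a) = (MdP P).p.map a := congrArg (fun t => Obj.Hom.base t) (at_hom a)
  exact h1 ▸ h

variable {K : Precoverage Scheme.{u}} [K.IsStableUnderComposition]
    [K.IsStableUnderBaseChange] [K.HasPullbacks] [K.HasIsos] [Precoverage.Small.{u} K]

theorem glueFrom_en (hK : K ≤ Scheme.fpqcPrecoverage) (hF : Coh.IsQCoh F)
    (hPQ : ∀ A : ModSt.Obj f, P A → Coh.IsQCoh A.E) (hbc : ∀ ⦃A B : ModSt.Obj f⦄ (_ : B ⟶ A), P A → P B)
    (hS : Stk.IsPrestack (QuotSh.J K S) (MdP P)) (x : (EnP F P).obj) (R : Sieve ((EnP F P).p.obj x))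
    (hR : R ∈ QuotSh.J K S ((EnP F P).p.obj x)) : GlueFrom (EnP F P).p x R := by
  intro y g φ hφ cφ
  have hG : GlueFrom (MdP P).p (mdO x) R := glueFrom_of_isPrestack hS (mdO x) R hR
  -- transport of the family
  have tr : ∀ {z w : (EnP F P).obj} (a : z ⟶ x) (ha : R ((EnP F P).p.map a)) (c : w ⟶ x)
      (hc : R ((EnP F P).p.map c)) (b : w.obj.toObj ⟶ z.obj.toObj) (_ : b ≫ a.hom.hom = c.hom.hom),
      (φ c hc).hom.hom = b ≫ (φ a ha).hom.hom := by
    intro z w a ha c hc b h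
    obtain ⟨b', rfl, rfl⟩ := exists_lift_arrow' a c b h
    rw [cφ b' a ha hc]
    rfl
  let φ' : ∀ ⦃z : (MdP P).obj⦄ (a : z ⟶ mdO x), R ((MdP P).p.map a) → (z ⟶ mdO y) :=
    fun z a ha => dn a (φ (at' a) (mem_at a R ha))
  have hφ'1 : ∀ ⦃z : (MdP P).obj⦄ (a : z ⟶ mdO x) (ha : R ((MdP P).p.map a)),
      (MdP P).p.map (φ' a ha) = (MdP P).p.map a ≫ g := by
    intro z a ha
    have h1 := hφ (at' a) (mem_at a R ha)
    have h2 : (EnP F P).p.map (at' a) = (MdP P).p.map a := congrArg (fun t => Obj.Hom.base t) (at_hom a)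
    rw [h2] at h1
    exact h1
  have hφ'2 : ∀ ⦃z' z : (MdP P).obj⦄ (b : z' ⟶ z) (a : z ⟶ mdO x) (ha : R ((MdP P).p.map a))
      (hba : R ((MdP P).p.map (b ≫ a))), φ' (b ≫ a) hba = b ≫ φ' a ha := by
    intro z' z b a ha hba
    apply ObjectProperty.hom_ext
    refine tr (at' a) (mem_at a R ha) (at' (b ≫ a)) (mem_at _ R hba) b.hom ?_
    rw [at_hom, at_hom]
    rfl
  obtain ⟨ψ, ⟨h1, h2⟩, h3⟩ := hG (y := mdO y) g φ' hφ'1 hφ'2
  -- compatibility
  have hcomp : HiggsSt.Obj.Compat x.obj y.obj ψ.hom := by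
    obtain ⟨ι, Z, p, hp, hpR⟩ := K185.Cover.exists_ofArrows_of_mem_J hR
    have hPz : ∀ i, P (bc x.obj.toObj (p i)) := fun i => hbc (bcHom x.obj.toObj (p i)) x.property
    let z : ι → (MdP P).obj := fun i => ⟨bc x.obj.toObj (p i), hPz i⟩
    let a : ∀ i, z i ⟶ mdO x := fun i => ObjectProperty.homMk (bcHom x.obj.toObj (p i))
    have haR : ∀ i, R ((MdP P).p.map (a i)) := fun i => hpR i
    have h4 : ∀ i, (at' (a i)).hom.hom.base.left = (p i).left := fun i =>
      congrArg (fun t => CommaMorphism.left (Obj.Hom.base t)) (at_hom (a i))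
    refine compat_of_cover hK hF (hPQ _ x.property) ψ.hom (fun i => (zt (a i)).obj) (fun i => (at' (a i)).hom) ?_
      fun i => ?_
    · have h5 : (fun i => (at' (a i)).hom.hom.base.left) = fun i => (p i).left := funext h4
      exact h5 ▸ hp
    · have h7 : (at' (a i)).hom.hom ≫ ψ.hom = (φ (at' (a i)) (mem_at (a i) R (haR i))).hom.hom := by
        rw [at_hom]
        exact congrArg (fun t => t.hom) (h2 (a i) (haR i))
      rw [h7]
      exact (φ (at' (a i)) (mem_at (a i) R (haR i))).hom.compat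
  let ψ' : x ⟶ y := ObjectProperty.homMk ⟨ψ.hom, hcomp⟩
  refine ⟨ψ', ⟨h1, fun z a ha => ?_⟩, fun ψ'' h => ?_⟩
  · apply enp_ext
    have h4 := congrArg (fun t => t.hom) (h2 (z := mdO z) (ObjectProperty.homMk a.hom.hom) ha)
    refine h4.trans ?_
    have h5 := tr a ha (at' (z := mdO z) (ObjectProperty.homMk a.hom.hom))
      (mem_at (z := mdO z) (ObjectProperty.homMk a.hom.hom) R ha) (𝟙 z.obj.toObj) (by
        rw [at_hom]
        exact Category.id_comp _)
    exact h5.trans (Category.id_comp _)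
  · apply enp_ext
    have h6 := h3 (ObjectProperty.homMk ψ''.hom.hom) ⟨h.1, fun z a ha => ?_⟩
    · exact congrArg (fun t => t.hom) h6
    · apply ObjectProperty.hom_ext
      have h4 := congrArg (fun t => t.hom.hom) (h.2 (at' a) (mem_at a R ha))
      refine Eq.trans ?_ h4
      exact congrArg (fun t => t ≫ ψ''.hom.hom) (at_hom a).symm

theorem isPrestack_en (hK : K ≤ Scheme.fpqcPrecoverage) (hF : Coh.IsQCoh F)
    (hPQ : ∀ A : ModSt.Obj f, P A → Coh.IsQCoh A.E) (hbc : ∀ ⦃A B : ModSt.Obj f⦄ (_ : B ⟶ A), P A → P B)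
    (hS : Stk.IsPrestack (QuotSh.J K S) (MdP P)) : Stk.IsPrestack (QuotSh.J K S) (EnP F P) := by
  rw [isPrestack_iff]
  exact ⟨isFibGrpd_sub f F P hbc, fun x R hR => glueFrom_en hK hF hPQ hbc hS x R hR⟩

end K927.En
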