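import Groth.Agent.ModSt.K927.EnEff
import Groth.Agent.ModSt.K927.CohStack
import Groth.Agent.Ega2.QCohLocal

/-!
# The stack of pairs for the étale and the fppf topology

`K927.En.isStack_endo_etale`, `isStack_endo_fppf`, `isStack_of_le`.
-/

set_option autoImplicit false
universe v u

open CategoryTheory CategoryTheory.Limits AlgebraicGeometry Opposite ModSt

noncomputable section

namespace K927.En

open K927.ModSt
open scoped K185

variable {X S : Scheme.{u}} {f : X ⟶ S} {F : X.Modules}

theorem isStack_of_le {𝒳 : AlgSt.Cat S} {J J' : GrothendieckTopology (Over S)} (h : J ≤ J')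
    (h' : Stk.IsStack J' 𝒳) : Stk.IsStack J 𝒳 :=
  ⟨h'.1, fun _ R hR => h'.2 R (h _ hR)⟩

theorem etale_J_le : QuotSh.J Scheme.etalePrecoverage S ≤ QuotSh.J Scheme.fppfPrecoverage S := by
  intro T C hC
  rw [QuotSh.J, GrothendieckTopology.mem_over_iff] at hC ⊢
  exact K185.etaleTopology_le_fppfTopology _ hC

variable (f) in
theorem isStack_coh_etale : Stk.IsStack (QuotSh.J Scheme.etalePrecoverage S) (Coh f) :=
  isStack_of_le etale_J_le (isStack_coh f)

variable (f) in
theorem isStack_endo_etale (hF : Coh.IsQCoh F) :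
    Stk.IsStack (QuotSh.J Scheme.etalePrecoverage S) (HiggsSt.Endo f F) :=
  isStack_en (P := ModSt.IsCohObj) (K := Scheme.etalePrecoverage)
    (K185.etalePrecoverage_le_fppfPrecoverage.trans Scheme.fppfPrecoverage_le_fpqcPrecoverage) hF
    (fun _ hA => Groth.Agent.PerfC.FPSections.isQCoh_of_isFP hA.2) (fun _ _ φ h => isCohObj_of_hom φ h)
    (isStack_coh_etale f)

variable (f) in
theorem isStack_endo_fppf (hF : Coh.IsQCoh F) :
    Stk.IsStack (QuotSh.J Scheme.fppfPrecoverage S) (HiggsSt.Endo f F) :=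
  isStack_en (P := ModSt.IsCohObj) (K := Scheme.fppfPrecoverage)
    Scheme.fppfPrecoverage_le_fpqcPrecoverage hF
    (fun _ hA => Groth.Agent.PerfC.FPSections.isQCoh_of_isFP hA.2) (fun _ _ φ h => isCohObj_of_hom φ h)
    (isStack_coh f)

end K927.En
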