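import Groth.Prelude.Def_AlgSt3
import Groth.Agent.Stk.K751.FG

/-!
# Limit preserving categories fibred in groupoids

`K927.Lim.LP 𝒳 D c` : objects and morphisms of `𝒳` over the vertex of the cone `c` come from finite stages.
`K927.Lim.LimPres 𝒳` : this holds for every cofiltered system of affine schemes over `S` and every limit cone.
-/

set_option autoImplicit false
universe w v₂ u₂ v u

open CategoryTheory CategoryTheory.Limits AlgebraicGeometry Opposite

namespace K927.Lim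

variable {C : Type u} [Category.{v} C] (𝒳 : BasedCategory.{v₂, u₂} C)

/-- `𝒳` is compatible with the cone `c`: objects over the vertex come from a stage, morphisms between objects coming
from a stage come from a later stage, and morphisms which become equal are equal at a later stage. -/
structure LP {I : Type w} [Category.{w} I] (D : I ⥤ C) (c : Cone D) : Prop where
  obj : ∀ (x : 𝒳.obj), 𝒳.p.obj x = c.pt → ∃ (i : I) (y : 𝒳.obj) (a : x ⟶ y), 𝒳.p.IsHomLift (c.π.app i) a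
  hom : ∀ (i : I) (x y z : 𝒳.obj) (a : x ⟶ y) (φ : x ⟶ z), 𝒳.p.IsHomLift (c.π.app i) a →
    𝒳.p.IsHomLift (c.π.app i) φ → ∃ (j : I) (f : j ⟶ i) (w : 𝒳.obj) (a' : x ⟶ w) (b : w ⟶ y) (ψ : w ⟶ z),
      𝒳.p.IsHomLift (c.π.app j) a' ∧ 𝒳.p.IsHomLift (D.map f) b ∧ 𝒳.p.IsHomLift (D.map f) ψ ∧
        a' ≫ b = a ∧ a' ≫ ψ = φ
  eq : ∀ (i : I) (x y z : 𝒳.obj) (a : x ⟶ y) (φ ψ : y ⟶ z), 𝒳.p.IsHomLift (c.π.app i) a →
    𝒳.p.map φ = 𝒳.p.map ψ → a ≫ φ = a ≫ ψ → ∃ (j : I) (f : j ⟶ i) (w : 𝒳.obj) (b : w ⟶ y),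
      𝒳.p.IsHomLift (D.map f) b ∧ b ≫ φ = b ≫ ψ

/-- Limit preserving category over `(Sch/S)`: the condition for all cofiltered systems of affine schemes. -/
def LimPres {S : Scheme.{u}} (𝒳 : BasedCategory.{v₂, u₂} (Over S)) : Prop :=
  ∀ ⦃I : Type u⦄ [SmallCategory I] [IsCofiltered I] (D : I ⥤ Over S) (c : Cone D),
    IsLimit ((Over.forget S).mapCone c) → (∀ i, IsAffine (D.obj i).left) → IsAffine c.pt.left → LP 𝒳 D c

end K927.Lim
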