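import Groth.Agent.ModSt.K927.MdPre

/-!
# Objects of `Fam f` as objects of `Md X`

* `rho A hA : MObj X` : the total space with its module; `rhoMap`, `ofRho`, `rho_ext`.
* `hat A hA` : the same on the chosen fibre product `(Over.pullback f).obj A.base`; `hatTo`, `hatFrom`, `hatMap`.
-/

set_option autoImplicit false
universe v u

open CategoryTheory CategoryTheory.Limits AlgebraicGeometry Opposite ModSt

noncomputable section

namespace K927.ModSt

variable {X S : Scheme.{u}} {f : X ⟶ S}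

/-- The total space with its module. -/
abbrev rho (A : Obj f) (h : Coh.IsQCoh A.E) : MObj X := ⟨Over.mk A.p, A.E, h⟩

/-- The underlying morphism of `Md X`. -/
def rhoMap {A B : Obj f} (φ : A ⟶ B) (hA : Coh.IsQCoh A.E) (hB : Coh.IsQCoh B.E) : rho A hA ⟶ rho B hB :=
  ⟨Over.homMk φ.top φ.w_p, φ.c, φ.cart⟩

theorem rhoMap_left {A B : Obj f} (φ : A ⟶ B) (hA : Coh.IsQCoh A.E) (hB : Coh.IsQCoh B.E) :
    (rhoMap φ hA hB).base.left = φ.top := rfl

theorem rhoMap_comp {A B C : Obj f} (φ : A ⟶ B) (ψ : B ⟶ C) (hA : Coh.IsQCoh A.E) (hB : Coh.IsQCoh B.E)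
    (hC : Coh.IsQCoh C.E) : rhoMap (φ ≫ ψ) hA hC = rhoMap φ hA hB ≫ rhoMap ψ hB hC := rfl

/-- A morphism of `Fam f` from a morphism of `Md X`. -/
def ofRho {A B : Obj f} {hA : Coh.IsQCoh A.E} {hB : Coh.IsQCoh B.E} (g : A.base ⟶ B.base)
    (χ : rho A hA ⟶ rho B hB) (w : χ.base.left ≫ B.q = A.q ≫ g.left) : A ⟶ B :=
  ⟨g, χ.base.left, Over.w χ.base, w, χ.c, χ.cart⟩

theorem ofRho_base {A B : Obj f} {hA : Coh.IsQCoh A.E} {hB : Coh.IsQCoh B.E} (g : A.base ⟶ B.base)
    (χ : rho A hA ⟶ rho B hB) (w : χ.base.left ≫ B.q = A.q ≫ g.left) : (ofRho g χ w).base = g := rfl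

theorem rhoMap_ofRho {A B : Obj f} {hA : Coh.IsQCoh A.E} {hB : Coh.IsQCoh B.E} (g : A.base ⟶ B.base)
    (χ : rho A hA ⟶ rho B hB) (w : χ.base.left ≫ B.q = A.q ≫ g.left) : rhoMap (ofRho g χ w) hA hB = χ := rfl

theorem rho_ext {A B : Obj f} {φ ψ : A ⟶ B} (hA : Coh.IsQCoh A.E) (hB : Coh.IsQCoh B.E)
    (h1 : φ.base = ψ.base) (h2 : rhoMap φ hA hB = rhoMap ψ hA hB) : φ = ψ := by
  obtain ⟨b, t, wp, wq, c, hc⟩ := φ
  obtain ⟨b', t', wp', wq', c', hc'⟩ := ψ
  dsimp only at h1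
  subst h1
  have e2 : t = t' := congrArg (fun z : rho A hA ⟶ rho B hB => z.base.left) h2
  subst e2
  have e3 : c = c' := by
    injection h2
  subst e3
  rfl

/-- The canonical isomorphism of the chosen fibre product with the total space. -/
def can (A : Obj f) : (Over.pullback f).obj A.base ≅ Over.mk A.p :=
  Over.isoMk ((IsPullback.of_hasPullback A.base.hom f).isoIsPullback _ _ A.isPullback.flip)
    (IsPullback.isoIsPullback_hom_snd _ _ _ _)

theorem can_q (A : Obj f) : (can A).hom.left ≫ A.q = pullback.fst A.base.hom f :=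
  IsPullback.isoIsPullback_hom_fst _ _ _ _

theorem can_inv_fst (A : Obj f) : (can A).inv.left ≫ pullback.fst A.base.hom f = A.q := by
  have h : (can A).inv.left ≫ (can A).hom.left = 𝟙 _ := congrArg CommaMorphism.left (can A).inv_hom_id
  rw [← can_q, ← Category.assoc, h, Category.id_comp]

/-- The module on the chosen fibre product. -/
abbrev hat (A : Obj f) (h : Coh.IsQCoh A.E) : MObj X := bcM (rho A h) (can A).hom

def hatTo (A : Obj f) (h : Coh.IsQCoh A.E) : hat A h ⟶ rho A h := bcMHom (rho A h) (can A).hom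

theorem hatTo_base (A : Obj f) (h : Coh.IsQCoh A.E) : (hatTo A h).base = (can A).hom := rfl

theorem exists_hatFrom (A : Obj f) (h : Coh.IsQCoh A.E) :
    ∃! χ : rho A h ⟶ hat A h, χ.base = (can A).inv ∧ χ ≫ hatTo A h = 𝟙 _ :=
  md_existsUnique_lift (hatTo A h) (𝟙 _) (can A).inv (can A).inv_hom_id

def hatFrom (A : Obj f) (h : Coh.IsQCoh A.E) : rho A h ⟶ hat A h := (exists_hatFrom A h).choose

theorem hatFrom_base (A : Obj f) (h : Coh.IsQCoh A.E) : (hatFrom A h).base = (can A).inv :=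
  (exists_hatFrom A h).choose_spec.1.1

@[reassoc]
theorem hatFrom_hatTo (A : Obj f) (h : Coh.IsQCoh A.E) : hatFrom A h ≫ hatTo A h = 𝟙 _ :=
  (exists_hatFrom A h).choose_spec.1.2

@[reassoc]
theorem hatTo_hatFrom (A : Obj f) (h : Coh.IsQCoh A.E) : hatTo A h ≫ hatFrom A h = 𝟙 _ := by
  refine (md_existsUnique_lift (hatTo A h) (hatTo A h) (𝟙 _) (Category.id_comp _)).unique ⟨?_, ?_⟩
    ⟨rfl, Category.id_comp _⟩
  · rw [MObj.comp_base, hatFrom_base, hatTo_base, Iso.hom_inv_id]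
  · rw [Category.assoc, hatFrom_hatTo, Category.comp_id]

theorem can_nat {A B : Obj f} (φ : A ⟶ B) :
    (Over.pullback f).map φ.base ≫ (can B).hom =
      (can A).hom ≫ (Over.homMk φ.top φ.w_p : Over.mk A.p ⟶ Over.mk B.p) := by
  apply Over.OverMorphism.ext
  apply B.isPullback.hom_ext
  · have h1 : (can B).hom.left ≫ B.p = pullback.snd B.base.hom f := Over.w (can B).hom
    have h2 : (can A).hom.left ≫ A.p = pullback.snd A.base.hom f := Over.w (can A).hom
    have h3 : ((Over.pullback f).map φ.base).left ≫ pullback.snd B.base.hom f =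
      pullback.snd A.base.hom f := pullback.lift_snd _ _ _
    change (((Over.pullback f).map φ.base).left ≫ (can B).hom.left) ≫ B.p = ((can A).hom.left ≫ φ.top) ≫ B.p
    rw [Category.assoc, Category.assoc, h1, φ.w_p, h2, h3]
  · have h3 : ((Over.pullback f).map φ.base).left ≫ pullback.fst B.base.hom f =
      pullback.fst A.base.hom f ≫ φ.base.left := pullback.lift_fst _ _ _
    change (((Over.pullback f).map φ.base).left ≫ (can B).hom.left) ≫ B.q = ((can A).hom.left ≫ φ.top) ≫ B.q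
    rw [Category.assoc, Category.assoc, can_q, φ.w_q, h3, ← Category.assoc, can_q]

theorem exists_hatMap {A B : Obj f} (φ : A ⟶ B) (hA : Coh.IsQCoh A.E) (hB : Coh.IsQCoh B.E) :
    ∃! χ : hat A hA ⟶ hat B hB, χ.base = (Over.pullback f).map φ.base ∧
      χ ≫ hatTo B hB = hatTo A hA ≫ rhoMap φ hA hB :=
  md_existsUnique_lift (hatTo B hB) (hatTo A hA ≫ rhoMap φ hA hB) ((Over.pullback f).map φ.base) (can_nat φ)

def hatMap {A B : Obj f} (φ : A ⟶ B) (hA : Coh.IsQCoh A.E) (hB : Coh.IsQCoh B.E) : hat A hA ⟶ hat B hB :=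
  (exists_hatMap φ hA hB).choose

theorem hatMap_base {A B : Obj f} (φ : A ⟶ B) (hA : Coh.IsQCoh A.E) (hB : Coh.IsQCoh B.E) :
    (hatMap φ hA hB).base = (Over.pullback f).map φ.base := (exists_hatMap φ hA hB).choose_spec.1.1

@[reassoc]
theorem hatMap_hatTo {A B : Obj f} (φ : A ⟶ B) (hA : Coh.IsQCoh A.E) (hB : Coh.IsQCoh B.E) :
    hatMap φ hA hB ≫ hatTo B hB = hatTo A hA ≫ rhoMap φ hA hB := (exists_hatMap φ hA hB).choose_spec.1.2

@[reassoc]
theorem hatFrom_hatMap {A B : Obj f} (φ : A ⟶ B) (hA : Coh.IsQCoh A.E) (hB : Coh.IsQCoh B.E) :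
    hatFrom A hA ≫ hatMap φ hA hB = rhoMap φ hA hB ≫ hatFrom B hB := by
  have h : hatFrom A hA ≫ (hatMap φ hA hB ≫ hatTo B hB) ≫ hatFrom B hB =
      hatFrom A hA ≫ (hatTo A hA ≫ rhoMap φ hA hB) ≫ hatFrom B hB := by rw [hatMap_hatTo]
  rw [Category.assoc, hatTo_hatFrom, Category.comp_id, Category.assoc, hatFrom_hatTo_assoc] at h
  exact h

theorem hatMap_comp {A B C : Obj f} (φ : A ⟶ B) (ψ : B ⟶ C) (hA : Coh.IsQCoh A.E) (hB : Coh.IsQCoh B.E)
    (hC : Coh.IsQCoh C.E) : hatMap (φ ≫ ψ) hA hC = hatMap φ hA hB ≫ hatMap ψ hB hC := by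
  refine (exists_hatMap (φ ≫ ψ) hA hC).unique ⟨hatMap_base _ _ _, hatMap_hatTo _ _ _⟩ ⟨?_, ?_⟩
  · rw [MObj.comp_base, hatMap_base, hatMap_base, Obj.comp_base, Functor.map_comp]
  · rw [Category.assoc, hatMap_hatTo, hatMap_hatTo_assoc, rhoMap_comp φ ψ hA hB hC]

/-- The object of `Fam f` on the chosen fibre product with a given module. -/
abbrev ofHat (T : Over S) (E : (pullback T.hom f).Modules) : Obj f where
  base := T
  XT := pullback T.hom f
  p := pullback.snd T.hom f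
  q := pullback.fst T.hom f
  isPullback := (IsPullback.of_hasPullback T.hom f).flip
  E := E

end K927.ModSt
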