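import Groth.Agent.ModSt.K927.LimMd
import Groth.Agent.ModSt.K927.LimDef
import Groth.Agent.ModSt.K927.Rho
import Groth.Agent.ModSt.K927.Fib
import Groth.Agent.EGA43.K120.FlatLimit
import Mathlib.CategoryTheory.Limits.Constructions.Over.Connected
import Mathlib.CategoryTheory.Filtered.Connected

/-!
# Limit preservation of `Coh f`, on objects

* `exists_stage_coh` : an object of `Coh f` over the limit of a cofiltered system of affine schemes comes from a stage.
-/

set_option autoImplicit false
universe v u

open CategoryTheory CategoryTheory.Limits AlgebraicGeometry Opposite ModSt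

noncomputable section

namespace K927.ModSt

variable {X S : Scheme.{u}} {f : X ⟶ S}

open K120.FlatPt in
theorem flatPt_of_hom {A B : Obj f} (α : A ⟶ B) (hA : FlatMod.IsFlatOver A.q A.E) (x : B.XT) (s : A.base.left) :
    FlatPt B.q B.E α.base.left x s := by
  obtain ⟨e⟩ := nonempty_iso_pullback α.cart
  exact (isFlatOver_iff_flatPt (Obj.Hom.isPullback_top α)).1
    (Groth.Agent.Models2.FlatIso.isFlatOver_of_iso _ e.symm hA) x s

open K120.FlatPt in
theorem flat_of_flatPt {A B : Obj f} (α : A ⟶ B) (h : ∀ x s, FlatPt B.q B.E α.base.left x s) :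
    FlatMod.IsFlatOver A.q A.E := by
  obtain ⟨e⟩ := nonempty_iso_pullback α.cart
  exact Groth.Agent.Models2.FlatIso.isFlatOver_of_iso _ e
    ((isFlatOver_iff_flatPt (Obj.Hom.isPullback_top α)).2 h)

variable {I : Type u} [SmallCategory I] [IsCofiltered I] (D : I ⥤ Over S) (c : Cone D)
  (hc : IsLimit ((Over.forget S).mapCone c))

variable (f) in
include hc in
theorem isLimit_pb : Nonempty (IsLimit ((Over.forget X).mapCone ((Over.pullback f).mapCone c))) := by
  have h0 : IsConnected I := IsCofiltered.isConnected I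
  have h1 : IsLimit c := isLimitOfReflects (Over.forget S) hc
  have h2 : PreservesLimitsOfSize.{u, u} (Over.pullback f) := (Over.mapPullbackAdj f).rightAdjoint_preservesLimits
  have h3 : IsLimit ((Over.pullback f).mapCone c) := isLimitOfPreserves (Over.pullback f) h1
  exact ⟨isLimitOfPreserves (Over.forget X) h3⟩

open K120.FlatPt in
include hc in
/-- Flatness at the limit holds at a stage. -/
theorem exists_flatPt_stage (hD : ∀ i, IsAffine (D.obj i).left) (i : I) {XT : Scheme.{u}}
    (q : XT ⟶ (D.obj i).left) [LocallyOfFinitePresentation q] [CompactSpace XT] {E : XT.Modules}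
    (hq : Coh.IsQCoh E) (hE : CohB1.IsFP E) (h : ∀ x s, FlatPt q E (c.π.app i).left x s) :
    ∃ (j : I) (φ : j ⟶ i), ∀ x s, FlatPt q E (D.map φ).left x s := by
  have haff : ∀ (i j : I) (φ : i ⟶ j), IsAffineHom ((D ⋙ Over.forget S).map φ) := fun i j φ => by
    have := hD i
    have := hD j
    exact inferInstanceAs (IsAffineHom (D.map φ).left)
  have hg : LocallyOfFinitePresentation q := inferInstance
  obtain ⟨j, hj⟩ := K120.FlatLimit.exists_stage (D := D ⋙ Over.forget S) (c := (Over.forget S).mapCone c) hc
    (i₀ := i) (𝟙 (D.obj i).left) (f₀ := q) hq hE (fun x s => by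
      refine flatPt_comp (r := pullback.snd (𝟙 (D.obj i).left) (c.π.app i).left) (t := (c.π.app i).left) ?_ (h x _)
      have h1 := pullback.condition (f := 𝟙 (D.obj i).left) (g := (c.π.app i).left)
      rw [Category.comp_id] at h1
      exact h1.symm)
  refine ⟨j.left, j.hom, fun x s => ?_⟩
  refine flatPt_comp (r := pullback.lift (f := 𝟙 (D.obj i).left) (g := (D.map j.hom).left) (D.map j.hom).left
    (𝟙 _) (by rw [Category.comp_id, Category.id_comp])) (pullback.lift_fst _ _ _) (hj x _)

omit [SmallCategory I] [IsCofiltered I] in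
variable (f) in
theorem isPullback_pbMap {T' T : Over S} (g : T' ⟶ T) :
    IsPullback ((Over.pullback f).map g).left (pullback.fst T'.hom f) (pullback.fst T.hom f) g.left := by
  have h1 : ((Over.pullback f).map g).left ≫ pullback.snd T.hom f = pullback.snd T'.hom f :=
    pullback.lift_snd _ _ _
  have h2 : ((Over.pullback f).map g).left ≫ pullback.fst T.hom f = pullback.fst T'.hom f ≫ g.left :=
    pullback.lift_fst _ _ _
  refine IsPullback.of_right (h₁₂ := pullback.snd T.hom f) (h₂₂ := T.hom) (v₁₃ := f) ?_ h2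
    (IsPullback.of_hasPullback T.hom f).flip
  rw [h1, Over.w g]
  exact (IsPullback.of_hasPullback T'.hom f).flip

include hc in
/-- Objects of `Coh f` over the limit come from a stage. -/
theorem exists_stage_coh [LocallyOfFinitePresentation f] [QuasiCompact f] [QuasiSeparated f]
    (hD : ∀ i, IsAffine (D.obj i).left) (A : Obj f) (hA : IsCohObj A) (hb : A.base = c.pt) :
    ∃ (i : I) (B : Obj f) (a : A ⟶ B), IsCohObj B ∧ (Fam f).p.IsHomLift (c.π.app i) a := by
  obtain ⟨T, XT, p, q, hsq, E⟩ := A
  dsimp only at hb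
  subst hb
  have qc : Coh.IsQCoh E := Groth.Agent.PerfC.FPSections.isQCoh_of_isFP hA.2
  let A : Obj f := ⟨c.pt, XT, p, q, hsq, E⟩
  obtain ⟨hc'⟩ := isLimit_pb f D c hc
  have haff : ∀ (i j : I) (φ : i ⟶ j), IsAffineHom ((D ⋙ Over.pullback f).map φ).left := fun i j φ => by
    have := hD i
    have := hD j
    have h1 : IsAffineHom (D.map φ).left := inferInstance
    exact MorphismProperty.of_isPullback (P := @IsAffineHom) (isPullback_pbMap f (D.map φ)).flip h1
  have hqc : ∀ T : Over S, QuasiCompact (pullback.fst T.hom f) := fun T => inferInstance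
  have hqs : ∀ T : Over S, QuasiSeparated (pullback.fst T.hom f) := fun T => inferInstance
  have hfp : ∀ T : Over S, LocallyOfFinitePresentation (pullback.fst T.hom f) := fun T => inferInstance
  have hcomp : ∀ i, CompactSpace ((D ⋙ Over.pullback f).obj i).left := fun i => by
    have := hD i
    have := hqc (D.obj i)
    exact QuasiCompact.compactSpace_of_compactSpace (pullback.fst (D.obj i).hom f)
  have hqsep : ∀ i, QuasiSeparatedSpace ((D ⋙ Over.pullback f).obj i).left := fun i => by
    have := hD i
    have := hqs (D.obj i)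
    exact quasiSeparatedSpace_of_quasiSeparated (pullback.fst (D.obj i).hom f)
  have hE : CohB1.IsFP (hat A qc).E := Groth.Agent.FormalA.PullbackQC.isFP_pullback _ _ hA.2
  obtain ⟨i, Ei, qi, a, hEi, ha⟩ := lp_obj_aux (D ⋙ Over.pullback f) ((Over.pullback f).mapCone c) hc'
    (hat A qc).qc hE
  let B : Obj f := ofHat (D.obj i) Ei
  let χ : rho A qc ⟶ rho B qi := hatFrom A qc ≫ a
  have hχ : χ.base.left ≫ B.q = A.q ≫ (c.π.app i).left := by
    have h1 : χ.base.left = (can A).inv.left ≫ ((Over.pullback f).map (c.π.app i)).left := by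
      have h0 : χ.base = (can A).inv ≫ (Over.pullback f).map (c.π.app i) := by
        have h2 : χ.base = (hatFrom A qc).base ≫ a.base := rfl
        rw [h2, hatFrom_base, ha]
        rfl
      rw [h0]
      rfl
    have h3 : ((Over.pullback f).map (c.π.app i)).left ≫ pullback.fst (D.obj i).hom f =
      pullback.fst c.pt.hom f ≫ (c.π.app i).left := pullback.lift_fst _ _ _
    rw [h1, Category.assoc]
    refine (congrArg (fun t => (can A).inv.left ≫ t) h3).trans ?_
    rw [← Category.assoc, can_inv_fst]
  let α : A ⟶ B := ofRho (c.π.app i) χ hχ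
  have := hfp (D.obj i)
  have := hcomp i
  obtain ⟨j, φ, hφ⟩ := exists_flatPt_stage D c hc hD i B.q qi hEi (flatPt_of_hom α hA.1)
  have hw : c.π.app j ≫ D.map φ = c.π.app i := c.w φ
  obtain ⟨a', ⟨h1, h2⟩, -⟩ := existsUnique_lift (bcHom B (D.map φ)) α (c.π.app j) hw
  refine ⟨j, bc B (D.map φ), a', ⟨flat_of_flatPt (bcHom B (D.map φ)) hφ, ?_⟩, ?_⟩
  · exact Groth.Agent.FormalA.PullbackQC.isFP_pullback _ _ hEi
  · exact K751.FG.isHomLift_of_map_eq (p := (Fam f).p) _ h1

end K927.ModSt
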