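import Groth.Agent.ModSt.K927.MdPre
import Groth.Agent.S4788
import Groth.Agent.PerfB.LimMod
import Groth.Agent.Lim8.K116.ModLim4
import Groth.Agent.PerfC.FPSections
import Groth.Agent.FormalA.PullbackQC
import Groth.Agent.Models2.FPCoh

/-!
# Finitely presented modules and cofiltered limits of schemes, in the category `Md X`

`K927.ModSt.lp_obj_aux`, `lp_hom_aux`, `lp_eq_aux`
-/

set_option autoImplicit false
universe v u

open CategoryTheory CategoryTheory.Limits AlgebraicGeometry Opposite ModSt Groth.Agent.Desc.QD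

noncomputable section

namespace K927.ModSt

variable {X : Scheme.{u}}

theorem pull_eq_pullH {Y Y' T : Scheme.{u}} {G E : T.Modules} (k : Y' ⟶ Y) (a : Y ⟶ T) (a' : Y' ⟶ T)
    (h : k ≫ a = a') (φ : PB a G ⟶ PB a E) :
    Groth.Agent.PerfB.PushPull.pull k a a' h φ = pullH φ k a' a' h h := by
  subst h
  rfl

variable {I : Type u} [SmallCategory I] [IsCofiltered I] (D : I ⥤ Over X) (c : Cone D)
  (hc : IsLimit ((Over.forget X).mapCone c)) [haff : ∀ (i j : I) (f : i ⟶ j), IsAffineHom (D.map f).left]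
  [hcomp : ∀ i, CompactSpace (D.obj i).left] [hqs : ∀ i, QuasiSeparatedSpace (D.obj i).left]

omit [SmallCategory I] [IsCofiltered I] haff hcomp hqs in
theorem pullH_comp {Y Y' T₁ T₂ T₃ : Scheme.{u}} {M₁ : T₁.Modules} {M₂ : T₂.Modules} {M₃ : T₃.Modules}
    {f₁ : Y ⟶ T₁} {f₂ : Y ⟶ T₂} {f₃ : Y ⟶ T₃} (α : PB f₁ M₁ ⟶ PB f₂ M₂) (β : PB f₂ M₂ ⟶ PB f₃ M₃)
    (g : Y' ⟶ Y) (g₁ : Y' ⟶ T₁) (g₂ : Y' ⟶ T₂) (g₃ : Y' ⟶ T₃) (h₁ : g ≫ f₁ = g₁) (h₂ : g ≫ f₂ = g₂)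
    (h₃ : g ≫ f₃ = g₃) :
    pullH α g g₁ g₂ h₁ h₂ ≫ pullH β g g₂ g₃ h₂ h₃ = pullH (α ≫ β) g g₁ g₃ h₁ h₃ := by
  have h3 : PBmap g (α ≫ β) = PBmap g α ≫ PBmap g β := (Scheme.Modules.pullback g).map_comp α β
  rw [pullH, pullH, pullH, h3]
  simp only [Category.assoc, cmpInv_cmp_assoc]

omit [SmallCategory I] [IsCofiltered I] haff hcomp hqs in
theorem pullH_id {Y Y' T₁ : Scheme.{u}} {M₁ : T₁.Modules} {f₁ : Y ⟶ T₁}
    (g : Y' ⟶ Y) (g₁ : Y' ⟶ T₁) (h₁ : g ≫ f₁ = g₁) :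
    pullH (𝟙 (PB f₁ M₁)) g g₁ g₁ h₁ h₁ = 𝟙 _ := by
  have h3 : PBmap g (𝟙 (PB f₁ M₁)) = 𝟙 _ := (Scheme.Modules.pullback g).map_id _
  rw [pullH, h3, Category.id_comp, cmp_cmpInv]

omit [SmallCategory I] [IsCofiltered I] haff hcomp hqs in
theorem th_bcMHom (A : MObj X) {V : Over X} (g : V ⟶ A.base) (h : (bcMHom A g).base.left = g.left) :
    th (bcMHom A g) g.left h = 𝟙 _ := by
  apply Groth.Agent.Desc.QD.hom_ext
  intro U m
  have e1 : g.left ⁻¹ᵁ U ≤ (bcMHom A g).base.left ⁻¹ᵁ U := le_rfl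
  refine (ap_th (bcMHom A g) g.left h le_rfl e1 m).trans ?_
  refine (congrArg _ (apc_bcMHom A g U m)).trans ?_
  exact rs_refl _ _ _

omit [SmallCategory I] [IsCofiltered I] haff hcomp hqs in
theorem hom_core {T Ti Tj : Over X} (πi : T ⟶ Ti) (πj : T ⟶ Tj) (g : Tj ⟶ Ti) (w : πj ≫ g = πi)
    {E : T.left.Modules} {qc : Coh.IsQCoh E} {Ey Ez : Ti.left.Modules} {qy : Coh.IsQCoh Ey} {qz : Coh.IsQCoh Ez}
    (a : (⟨T, E, qc⟩ : MObj X) ⟶ ⟨Ti, Ey, qy⟩) (φ : (⟨T, E, qc⟩ : MObj X) ⟶ ⟨Ti, Ez, qz⟩)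
    (ha : a.base = πi) (hφ : φ.base = πi) (ha' : a.base.left = πi.left) (hφ' : φ.base.left = πi.left)
    (e : PB g.left Ey ⟶ PB g.left Ez) (e' : PB g.left Ez ⟶ PB g.left Ey) (h1 : e ≫ e' = 𝟙 _) (h2 : e' ≫ e = 𝟙 _)
    (hw : πj.left ≫ g.left = πi.left)
    (he : pullH e πj.left πi.left πi.left hw hw ≫ th φ πi.left hφ' = th a πi.left ha') :
    ∃ (a' : (⟨T, E, qc⟩ : MObj X) ⟶ bcM ⟨Ti, Ey, qy⟩ g) (ψ : bcM ⟨Ti, Ey, qy⟩ g ⟶ (⟨Ti, Ez, qz⟩ : MObj X)),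
      a'.base = πj ∧ ψ.base = g ∧ a' ≫ bcMHom ⟨Ti, Ey, qy⟩ g = a ∧ a' ≫ ψ = φ := by
  have i1 : IsIso e' := ⟨e, h2, h1⟩
  have i2 : IsIso (th a πi.left ha') := isIso_th _ _ _
  have hiso : IsIso (cmpInv πj.left g.left πi.left hw Ey ≫ th a πi.left ha') := inferInstance
  let a' := ofTh (A := ⟨T, E, qc⟩) (B := bcM ⟨Ti, Ey, qy⟩ g) πj
    (cmpInv πj.left g.left πi.left hw Ey ≫ th a πi.left ha') hiso
  let ψ := ofTh (A := bcM ⟨Ti, Ey, qy⟩ g) (B := ⟨Ti, Ez, qz⟩) g e' i1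
  have tha' : ∀ h, th a' πj.left h = cmpInv πj.left g.left πi.left hw Ey ≫ th a πi.left ha' :=
    fun h => th_ofTh _ _ _ h
  have thψ : ∀ h, th ψ g.left h = e' := fun h => th_ofTh _ _ _ h
  refine ⟨a', ψ, rfl, rfl, ?_, ?_⟩
  · have hb : (a' ≫ bcMHom ⟨Ti, Ey, qy⟩ g).base = πi := w
    have hb' : (a' ≫ bcMHom ⟨Ti, Ey, qy⟩ g).base.left = πi.left := by rw [hb]
    refine md_ext_th (hb.trans ha.symm) πi.left hb' ha' ?_
    refine (th_comp a' (bcMHom ⟨Ti, Ey, qy⟩ g) πj.left g.left πi.left rfl rfl hb' hw).trans ?_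
    have e1 : PBmap πj.left (th (bcMHom (⟨Ti, Ey, qy⟩ : MObj X) g) g.left rfl) = 𝟙 _ :=
      (congrArg _ (th_bcMHom (⟨Ti, Ey, qy⟩ : MObj X) g rfl)).trans ((Scheme.Modules.pullback πj.left).map_id _)
    refine (congrArg (fun t => Groth.Agent.Desc.QD.cmp πj.left g.left πi.left hw Ey ≫ t)
      (congrArg₂ (fun s t => s ≫ t) e1 (tha' rfl))).trans ?_
    refine (congrArg (fun t => Groth.Agent.Desc.QD.cmp πj.left g.left πi.left hw Ey ≫ t)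
      (Category.id_comp _)).trans ?_
    exact cmp_cmpInv_assoc _ _ _ _ _ _
  · have hb : (a' ≫ ψ).base = πi := w
    have hb' : (a' ≫ ψ).base.left = πi.left := by rw [hb]
    refine md_ext_th (hb.trans hφ.symm) πi.left hb' hφ' ?_
    refine (th_comp a' ψ πj.left g.left πi.left rfl rfl hb' hw).trans ?_
    refine (congrArg (fun t => Groth.Agent.Desc.QD.cmp πj.left g.left πi.left hw Ez ≫ t)
      (congrArg₂ (fun s t => PBmap πj.left s ≫ t) (thψ rfl) (tha' rfl))).trans ?_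
    have h3 : Groth.Agent.Desc.QD.cmp πj.left g.left πi.left hw Ez ≫
        PBmap πj.left e' ≫ cmpInv πj.left g.left πi.left hw Ey ≫ th a πi.left ha' =
        pullH e' πj.left πi.left πi.left hw hw ≫ th a πi.left ha' := by
      rw [pullH]; simp only [Category.assoc]
    refine h3.trans ?_
    rw [← he, ← Category.assoc, pullH_comp, h2, pullH_id, Category.id_comp]

include hc haff hcomp hqs

/-- The statement on objects. -/
theorem lp_obj_aux {E : c.pt.left.Modules} (qc : Coh.IsQCoh E) (hE : CohB1.IsFP E) :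
    ∃ (i : I) (Ei : (D.obj i).left.Modules) (qi : Coh.IsQCoh Ei)
      (a : (⟨c.pt, E, qc⟩ : MObj X) ⟶ ⟨D.obj i, Ei, qi⟩), CohB1.IsFP Ei ∧ a.base = c.π.app i := by
  have : ∀ (i j : I) (f : i ⟶ j), IsAffineHom ((D ⋙ Over.forget X).map f) := fun i j f => haff i j f
  have h0 : Nonempty I := IsCofiltered.nonempty
  obtain ⟨i₀⟩ := h0
  have : CompactSpace ((D ⋙ Over.forget X).obj i₀) := hcomp i₀
  have : QuasiSeparatedSpace ((D ⋙ Over.forget X).obj i₀) := hqs i₀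
  have : Coh.IsQCoh (X := ((Over.forget X).mapCone c).pt) E := qc
  obtain ⟨i, _, Fi, hFq, hFfp, ⟨e⟩⟩ := Groth.Agent.S4788.result (D ⋙ Over.forget X)
    ((Over.forget X).mapCone c) hc i₀ E hE
  exact ⟨i, Fi, hFq, ofTh (A := ⟨c.pt, E, qc⟩) (B := ⟨D.obj i, Fi, hFq⟩) (c.π.app i) e.hom e.isIso_hom, hFfp, rfl⟩

/-- The statement on morphisms, with objects over the stage. -/
theorem lp_hom_aux (i : I) {E : c.pt.left.Modules} {qc : Coh.IsQCoh E} {Ey Ez : (D.obj i).left.Modules}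
    {qy : Coh.IsQCoh Ey} {qz : Coh.IsQCoh Ez} (hEy : CohB1.IsFP Ey) (hEz : CohB1.IsFP Ez)
    (a : (⟨c.pt, E, qc⟩ : MObj X) ⟶ ⟨D.obj i, Ey, qy⟩) (φ : (⟨c.pt, E, qc⟩ : MObj X) ⟶ ⟨D.obj i, Ez, qz⟩)
    (ha : a.base = c.π.app i) (hφ : φ.base = c.π.app i) :
    ∃ (j : I) (f : j ⟶ i) (a' : (⟨c.pt, E, qc⟩ : MObj X) ⟶ bcM ⟨D.obj i, Ey, qy⟩ (D.map f))
      (ψ : bcM ⟨D.obj i, Ey, qy⟩ (D.map f) ⟶ (⟨D.obj i, Ez, qz⟩ : MObj X)),
      a'.base = c.π.app j ∧ ψ.base = D.map f ∧ a' ≫ bcMHom ⟨D.obj i, Ey, qy⟩ (D.map f) = a ∧ a' ≫ ψ = φ := by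
  have : ∀ {i j : I} (f : i ⟶ j), IsAffineHom ((D ⋙ Over.forget X).map f) := fun {i j} f => haff i j f
  have : ∀ i, CompactSpace ((D ⋙ Over.forget X).obj i) := hcomp
  have : ∀ i, QuasiSeparatedSpace ((D ⋙ Over.forget X).obj i) := hqs
  have ha' : a.base.left = (c.π.app i).left := by rw [ha]
  have hφ' : φ.base.left = (c.π.app i).left := by rw [hφ]
  let ta : PB (c.π.app i).left Ey ≅ E := @asIso _ _ _ _ (th a (c.π.app i).left ha') (isIso_th _ _ _)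
  let tφ : PB (c.π.app i).left Ez ≅ E := @asIso _ _ _ _ (th φ (c.π.app i).left hφ') (isIso_th _ _ _)
  obtain ⟨j, f, e', he'⟩ := Groth.Agent.PerfB.LimMod.exists_iso (D := D ⋙ Over.forget X)
    (c := (Over.forget X).mapCone c) hc (i := i) hEy hEz (ta ≪≫ tφ.symm)
  have hw : (c.π.app j).left ≫ (D.map f).left = (c.π.app i).left := congrArg CommaMorphism.left (c.w f)
  have he2 : pullH e'.hom (c.π.app j).left (c.π.app i).left (c.π.app i).left hw hw ≫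
      th φ (c.π.app i).left hφ' = th a (c.π.app i).left ha' := by
    refine (congrArg (fun t => t ≫ tφ.hom) ((pull_eq_pullH _ _ _ hw e'.hom).symm.trans he')).trans ?_
    change (ta.hom ≫ tφ.inv) ≫ tφ.hom = ta.hom
    rw [Category.assoc, Iso.inv_hom_id, Category.comp_id]
  obtain ⟨a', ψ, h1, h2, h3, h4⟩ := hom_core (c.π.app i) (c.π.app j) (D.map f) (c.w f) a φ ha hφ ha' hφ'
    e'.hom e'.inv e'.hom_inv_id e'.inv_hom_id hw he2
  exact ⟨j, f, a', ψ, h1, h2, h3, h4⟩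

theorem lp_eq_aux (i : I) {E : c.pt.left.Modules} {qc : Coh.IsQCoh E} {Ey : (D.obj i).left.Modules}
    {qy : Coh.IsQCoh Ey} {z : MObj X} (hz : CohB1.IsFP z.E)
    (a : (⟨c.pt, E, qc⟩ : MObj X) ⟶ ⟨D.obj i, Ey, qy⟩) (φ ψ : (⟨D.obj i, Ey, qy⟩ : MObj X) ⟶ z)
    (ha : a.base = c.π.app i) (hb : φ.base = ψ.base) (h : a ≫ φ = a ≫ ψ) :
    ∃ (j : I) (f : j ⟶ i), bcMHom ⟨D.obj i, Ey, qy⟩ (D.map f) ≫ φ = bcMHom ⟨D.obj i, Ey, qy⟩ (D.map f) ≫ ψ := by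
  have : ∀ {i j : I} (f : i ⟶ j), IsAffineHom ((D ⋙ Over.forget X).map f) := fun {i j} f => haff i j f
  have : ∀ i, CompactSpace ((D ⋙ Over.forget X).obj i) := hcomp
  obtain ⟨g, hg⟩ : ∃ g : (D.obj i).left ⟶ z.base.left, g = φ.base.left := ⟨_, rfl⟩
  have hg' : ψ.base.left = g := by rw [hg, hb]
  have ha' : a.base.left = (c.π.app i).left := by rw [ha]
  have hEz : CohB1.IsFP (PB g z.E) := Groth.Agent.FormalA.PullbackQC.isFP_pullback g z.E hz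
  have key : ∀ {A : MObj X} (b : A ⟶ ⟨D.obj i, Ey, qy⟩) (g' : A.base.left ⟶ (D.obj i).left) (h1 : b.base.left = g')
      (χ : (⟨D.obj i, Ey, qy⟩ : MObj X) ⟶ z) (hχ : χ.base.left = g) (h2 : (b ≫ χ).base.left = g' ≫ g),
      th (b ≫ χ) (g' ≫ g) h2 =
        Groth.Agent.Desc.QD.cmp g' g (g' ≫ g) rfl z.E ≫ PBmap g' (th χ g hχ) ≫ th b g' h1 :=
    fun b g' h1 χ hχ h2 => th_comp b χ g' g (g' ≫ g) h1 hχ h2 rfl
  have e0 : PBmap (c.π.app i).left (th φ g hg.symm) = PBmap (c.π.app i).left (th ψ g hg') := by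
    have h2 : (a ≫ φ).base.left = (c.π.app i).left ≫ g := by rw [MObj.comp_base, Over.comp_left, ha', hg]
    have h3 : (a ≫ ψ).base.left = (c.π.app i).left ≫ g := by rw [← h, h2]
    have h4 := th_congr h ((c.π.app i).left ≫ g) h2 h3
    rw [key a _ ha' φ hg.symm h2, key a _ ha' ψ hg' h3] at h4
    have h5 := (cancel_epi _).1 h4
    have h6 : IsIso (th a (c.π.app i).left ha') := isIso_th _ _ _
    exact (cancel_mono (th a (c.π.app i).left ha')).1 h5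
  obtain ⟨j, f, hf⟩ := (K116.ModLim.map_eq_iff (D := D ⋙ Over.forget X)
    (c := (Over.forget X).mapCone c) hc (i := i) (Groth.Agent.PerfC.FPSections.isQCoh_of_isFP hEz)
    (Groth.Agent.Models2.FPCoh.isFT_of_isFP hEz) qy (th φ g hg.symm) (th ψ g hg')).1 e0
  refine ⟨j, f, ?_⟩
  have h2 : (bcMHom ⟨D.obj i, Ey, qy⟩ (D.map f) ≫ φ).base.left = (D.map f).left ≫ g := by rw [hg]; rfl
  have h3 : (bcMHom ⟨D.obj i, Ey, qy⟩ (D.map f) ≫ ψ).base.left = (D.map f).left ≫ g := by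
    rw [MObj.comp_base, Over.comp_left, hg']; rfl
  refine md_ext_th ?_ ((D.map f).left ≫ g) h2 h3 ?_
  · rw [MObj.comp_base, MObj.comp_base, hb]
  · refine (key (bcMHom ⟨D.obj i, Ey, qy⟩ (D.map f)) (D.map f).left rfl φ hg.symm h2).trans ?_
    refine Eq.trans ?_ (key (bcMHom ⟨D.obj i, Ey, qy⟩ (D.map f)) (D.map f).left rfl ψ hg' h3).symm
    exact congrArg (fun t => Groth.Agent.Desc.QD.cmp (D.map f).left g _ rfl z.E ≫ t ≫
      th (bcMHom (⟨D.obj i, Ey, qy⟩ : MObj X) (D.map f)) (D.map f).left rfl) hf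

end K927.ModSt
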