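import Groth.Agent.ModSt.K927.Cart
import Groth.Agent.Stk.K751.FF
import Groth.Agent.Stk.K751.Test
import Groth.Agent.Desc.QDMor

/-!
# The category over `(Sch/X)` of quasi-coherent modules

`K927.ModSt.Md X` : objects are schemes `V` over `X` with a quasi-coherent module, morphisms are morphisms over `X`
with a cartesian comparison map. It is fibred in groupoids.
-/

set_option autoImplicit false
universe u

open CategoryTheory CategoryTheory.Limits AlgebraicGeometry Opposite ModSt

noncomputable section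

namespace K927.ModSt

/-- A scheme over `X` with a quasi-coherent module. -/
structure MObj (X : Scheme.{u}) where
  base : Over X
  E : base.left.Modules
  qc : Coh.IsQCoh E

namespace MObj

variable {X : Scheme.{u}}

/-- Morphisms: a morphism over `X` and a cartesian comparison map. -/
structure Hom (A B : MObj X) where
  base : A.base ⟶ B.base
  c : B.E ⟶ (Scheme.Modules.pushforward base.left).obj A.E
  cart : IsCart base.left c

theorem Hom.ext' {A B : MObj X} {φ ψ : Hom A B} (hb : φ.base = ψ.base)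
    (hc : ∀ (U : B.base.left.Opens) (x : Γ(B.E, U)), HEq (φ.c.app U x) (ψ.c.app U x)) : φ = ψ := by
  obtain ⟨b, c, hcart⟩ := φ
  obtain ⟨b', c', hcart'⟩ := ψ
  cases hb
  have hcc : c = c' := Scheme.Modules.hom_ext _ _ fun U => by
    ext x
    exact eq_of_heq (hc U x)
  cases hcc
  rfl

/-- The identity. -/
def Hom.id (A : MObj X) : Hom A A where
  base := 𝟙 _
  c := (Scheme.Modules.pushforwardId A.base.left).inv.app A.E
  cart := isCart_id A.E

/-- Composition. -/
def Hom.comp {A B C : MObj X} (φ : Hom A B) (ψ : Hom B C) : Hom A C where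
  base := φ.base ≫ ψ.base
  c := ψ.c ≫ (Scheme.Modules.pushforward ψ.base.left).map φ.c ≫
    (Scheme.Modules.pushforwardComp φ.base.left ψ.base.left).hom.app A.E
  cart := IsCart.comp φ.cart ψ.cart

instance : Category (MObj X) where
  Hom := Hom
  id := Hom.id
  comp := Hom.comp
  id_comp φ := Hom.ext' (Category.id_comp _) fun U x => by
    simp [Hom.comp, Hom.id]; rfl
  comp_id φ := Hom.ext' (Category.comp_id _) fun U x => by
    simp [Hom.comp, Hom.id]; rfl
  assoc φ ψ χ := Hom.ext' (Category.assoc _ _ _) fun U x => by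
    simp [Hom.comp]; rfl

theorem id_base (A : MObj X) : (𝟙 A : A ⟶ A).base = 𝟙 A.base := rfl
theorem comp_base {A B C : MObj X} (φ : A ⟶ B) (ψ : B ⟶ C) : (φ ≫ ψ).base = φ.base ≫ ψ.base := rfl

theorem id_c_app (A : MObj X) (U : A.base.left.Opens) (x : Γ(A.E, U)) :
    (𝟙 A : A ⟶ A).c.app U x = x := rfl

theorem comp_c_app {A B C : MObj X} (φ : A ⟶ B) (ψ : B ⟶ C) (U : C.base.left.Opens) (x : Γ(C.E, U)) :
    (φ ≫ ψ).c.app U x = φ.c.app (ψ.base.left ⁻¹ᵁ U) (ψ.c.app U x) := rfl

variable (X) in
/-- The structure functor. -/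
def forget : MObj X ⥤ Over X where
  obj A := A.base
  map φ := φ.base

end MObj

/-- The category over `(Sch/X)` of quasi-coherent modules. -/
abbrev Md (X : Scheme.{u}) : BasedCategory.{u, u + 1} (Over X) where
  obj := MObj X
  p := MObj.forget X

variable {X : Scheme.{u}}

/-- Extensionality of morphisms. -/
theorem md_hom_ext {A B : MObj X} {φ ψ : A ⟶ B} (hb : φ.base = ψ.base)
    (hc : φ.c ≫ (Scheme.Modules.pushforwardCongr (congrArg CommaMorphism.left hb)).hom.app A.E = ψ.c) :
    φ = ψ := by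
  obtain ⟨b, c, hcart⟩ := φ
  obtain ⟨b', c', hcart'⟩ := ψ
  cases hb
  have hcc : c = c' := by
    refine Eq.trans ?_ hc
    dsimp only
    rw [pushforwardCongr_rfl_app]
    exact (Category.comp_id _).symm
  cases hcc
  rfl

theorem md_c_congr {A B : MObj X} {φ ψ : A ⟶ B} (h : φ = ψ) :
    φ.c ≫ (Scheme.Modules.pushforwardCongr
      (congrArg (fun t : A ⟶ B => t.base.left) h)).hom.app A.E = ψ.c := by
  subst h
  rw [pushforwardCongr_rfl_app, Category.comp_id]

/-- Unique factorisation of morphisms. -/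
theorem md_existsUnique_lift {A B C : MObj X} (φ : B ⟶ A) (ψ : C ⟶ A) (g : C.base ⟶ B.base)
    (hg : g ≫ φ.base = ψ.base) : ∃! χ : C ⟶ B, χ.base = g ∧ χ ≫ φ = ψ := by
  have ht1 : g.left ≫ φ.base.left = ψ.base.left := congrArg CommaMorphism.left hg
  let c' : A.E ⟶ (Scheme.Modules.pushforward (g.left ≫ φ.base.left)).obj C.E :=
    ψ.c ≫ (Scheme.Modules.pushforwardCongr ht1.symm).hom.app C.E
  have hc' : IsCart (g.left ≫ φ.base.left) c' := ψ.cart.congr ht1.symm
  obtain ⟨v, hv⟩ := (φ.cart ((Scheme.Modules.pushforward g.left).obj C.E)).2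
    (c' ≫ (Scheme.Modules.pushforwardComp g.left φ.base.left).inv.app C.E)
  dsimp only at hv
  have hv' : φ.c ≫ (Scheme.Modules.pushforward φ.base.left).map v ≫
      (Scheme.Modules.pushforwardComp g.left φ.base.left).hom.app C.E = c' := by
    rw [reassoc_of% hv]
    simp
  have hcart : IsCart g.left v := isCart_of_comp φ.cart (by rw [hv']; exact hc')
  let χ : C ⟶ B := ⟨g, v, hcart⟩
  have hχ : χ ≫ φ = ψ := by
    refine md_hom_ext hg ?_
    have h1 : (χ ≫ φ).c = c' := hv'
    exact (congrArg (· ≫ (Scheme.Modules.pushforwardCongr ht1).hom.app C.E) h1).trans (congr_comp ψ.c _ _)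
  refine ⟨χ, ⟨rfl, hχ⟩, ?_⟩
  rintro χ' ⟨h1, h2⟩
  refine md_hom_ext h1 ?_
  apply (φ.cart _).1
  dsimp only
  refine Eq.trans ?_ hv.symm
  obtain ⟨b', v', hcart''⟩ := χ'
  dsimp only at h1
  subst h1
  dsimp only
  rw [pushforwardCongr_rfl_app, Category.comp_id]
  refine (Iso.eq_comp_inv ((Scheme.Modules.pushforwardComp b'.left φ.base.left).app C.E)).2 ?_
  have h3 := md_c_congr h2.symm
  refine Eq.trans ?_ h3.symm
  exact Category.assoc _ _ _

/-- The pull-back of an object. -/
abbrev bcM (A : MObj X) {V : Over X} (g : V ⟶ A.base) : MObj X where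
  base := V
  E := (Scheme.Modules.pullback g.left).obj A.E
  qc := Groth.Agent.VarietyB.PullSec.isQCoh_pullback g.left A.E A.qc

/-- The projection of the pull-back. -/
def bcMHom (A : MObj X) {V : Over X} (g : V ⟶ A.base) : bcM A g ⟶ A where
  base := g
  c := (Scheme.Modules.pullbackPushforwardAdjunction _).unit.app A.E
  cart := isCart_unit _ _

variable (X) in
theorem isFibGrpd_md : FibCat.IsFibGrpd (Md X).p where
  exists_lift := fun {A} {V} g => ⟨bcM A g, bcMHom A g, IsHomLift.map (MObj.forget X) (bcMHom A g)⟩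
  isStronglyCartesian := fun {B A} φ =>
    { universal_property' := fun {C} g ψ hψ => by
        have hg : g ≫ φ.base = ψ.base :=
          IsHomLift.eq_of_isHomLift (MObj.forget X) (g ≫ (MObj.forget X).map φ) ψ
        obtain ⟨χ, ⟨h1, h2⟩, h3⟩ := md_existsUnique_lift φ ψ g hg
        refine ⟨χ, ⟨?_, h2⟩, ?_⟩
        · subst h1
          exact IsHomLift.map (MObj.forget X) χ
        · rintro χ' ⟨hχ', h4⟩
          exact h3 χ' ⟨(IsHomLift.eq_of_isHomLift (MObj.forget X) g χ').symm, h4⟩ }

end K927.ModSt
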