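import Groth.Agent.ModSt.K927.MdStack
import Groth.Agent.Stk.K751.PullC

/-!
# The category over `(Sch/S)` of quasi-coherent modules on the base changes of `f : X ⟶ S` is a stack

`K927.ModSt.isStack_qfam`
-/

set_option autoImplicit false
set_option backward.isDefEq.respectTransparency false
set_option backward.isDefEq.respectTransparency.types false
universe v u

open CategoryTheory CategoryTheory.Limits AlgebraicGeometry Opposite ModSt

noncomputable section

namespace K927.ModSt

variable {X S : Scheme.{u}} (f : X ⟶ S)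

/-- The quasi-coherent objects of `Fam f` (no flatness). -/
abbrev QFam : AlgSt.Cat S := AlgSt.fullSub (Fam f) fun A => Coh.IsQCoh A.E

variable {f}

/-- The projection to the base of an object of the pull-back. -/
abbrev qOf (a : CategoricalPullback (Over.pullback f) (Md X).p) : a.snd.base.left ⟶ a.fst.left :=
  a.iso.inv.left ≫ pullback.fst a.fst.hom f

theorem isPullback_qOf (a : CategoricalPullback (Over.pullback f) (Md X).p) :
    IsPullback a.snd.base.hom (qOf a) f a.fst.hom := by
  have h1 : IsPullback (pullback.snd a.fst.hom f) (pullback.fst a.fst.hom f) f a.fst.hom :=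
    (IsPullback.of_hasPullback a.fst.hom f).flip
  have : IsIso a.iso.inv.left := inferInstanceAs (IsIso ((Over.forget X).map a.iso.inv))
  refine IsPullback.of_iso h1 (asIso a.iso.inv.left).symm (Iso.refl _) (Iso.refl _) (Iso.refl _) ?_ ?_ ?_ ?_
  · have h2 : a.iso.inv.left ≫ pullback.snd a.fst.hom f = a.snd.base.hom := Over.w a.iso.inv
    simp only [Iso.refl_hom, Category.comp_id, Iso.symm_hom, asIso_inv]
    rw [IsIso.eq_inv_comp]
    exact h2
  · simp [qOf]
  · simp
  · simp

theorem hom_w (a b : CategoricalPullback (Over.pullback f) (Md X).p) (φ : a ⟶ b) :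
    φ.snd.base.left ≫ qOf b = qOf a ≫ φ.fst.left := by
  have h1 := φ.w
  have h2 : (Over.pullback f).map φ.fst ≫ b.iso.hom = a.iso.hom ≫ φ.snd.base := h1
  have h3 : φ.snd.base ≫ b.iso.inv = a.iso.inv ≫ (Over.pullback f).map φ.fst := by
    rw [Iso.eq_inv_comp, ← Category.assoc, ← h2, Category.assoc, Iso.hom_inv_id, Category.comp_id]
  have h4 : φ.snd.base.left ≫ b.iso.inv.left = a.iso.inv.left ≫ ((Over.pullback f).map φ.fst).left :=
    congrArg CommaMorphism.left h3
  simp only [qOf, Category.assoc]
  rw [reassoc_of% h4]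
  simp

/-- The object of `QFam f` attached to an object of the pull-back. -/
def toFamObj (a : CategoricalPullback (Over.pullback f) (Md X).p) : (QFam f).obj where
  obj :=
    { base := a.fst
      XT := a.snd.base.left
      p := a.snd.base.hom
      q := qOf a
      isPullback := isPullback_qOf a
      E := a.snd.E }
  property := a.snd.qc

def toFamMap {a b : CategoricalPullback (Over.pullback f) (Md X).p} (φ : a ⟶ b) :
    (toFamObj a).obj ⟶ (toFamObj b).obj where
  base := φ.fst
  top := φ.snd.base.left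
  w_p := Over.w φ.snd.base
  w_q := hom_w a b φ
  c := φ.snd.c
  cart := φ.snd.cart

variable (f) in
/-- The functor to `QFam f`. -/
def toFam : K751.Kan.pb (Over.pullback f) (Md X) ⥤ᵇ QFam f where
  obj := toFamObj
  map φ := ObjectProperty.homMk (toFamMap φ)
  map_id _ := rfl
  map_comp _ _ := rfl
  w := rfl

instance : (toFam f).toFunctor.Faithful where
  map_injective {a b} φ ψ h := by
    have h1 : toFamMap φ = toFamMap ψ := congrArg (fun t => t.hom) h
    obtain ⟨φ1, ⟨φ2, φ3, φ4⟩, φ5⟩ := φ
    obtain ⟨ψ1, ⟨ψ2, ψ3, ψ4⟩, ψ5⟩ := ψ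
    have e1 : φ1 = ψ1 := congrArg (fun t => Obj.Hom.base t) h1
    have e2 : φ2 = ψ2 := Over.OverMorphism.ext (congrArg (fun t => Obj.Hom.top t) h1)
    subst e1
    subst e2
    have e3 : φ3 = ψ3 := by
      injection h1
    subst e3
    rfl

instance : (toFam f).toFunctor.Full where
  map_surjective {a b} ψ := by
    obtain ⟨⟨b1, t, wp, wq, c, hc⟩⟩ := ψ
    refine ⟨⟨b1, ⟨Over.homMk t wp, c, hc⟩, ?_⟩, rfl⟩
    have wq' : t ≫ qOf b = qOf a ≫ b1.left := wq
    have h3 : (Over.homMk t wp : a.snd.base ⟶ b.snd.base) ≫ b.iso.inv = a.iso.inv ≫ (Over.pullback f).map b1 := by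
      apply Over.OverMorphism.ext
      apply pullback.hom_ext
      · have e1 : ((Over.pullback f).map b1).left ≫ pullback.fst b.fst.hom f =
          pullback.fst a.fst.hom f ≫ b1.left := pullback.lift_fst _ _ _
        change (t ≫ b.iso.inv.left) ≫ pullback.fst b.fst.hom f =
          (a.iso.inv.left ≫ ((Over.pullback f).map b1).left) ≫ pullback.fst b.fst.hom f
        rw [Category.assoc, Category.assoc, e1]
        simpa [qOf] using wq'
      · have e1 : ((Over.pullback f).map b1).left ≫ pullback.snd b.fst.hom f =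
          pullback.snd a.fst.hom f := pullback.lift_snd _ _ _
        have e2 : b.iso.inv.left ≫ pullback.snd b.fst.hom f = b.snd.base.hom := Over.w b.iso.inv
        have e3 : a.iso.inv.left ≫ pullback.snd a.fst.hom f = a.snd.base.hom := Over.w a.iso.inv
        change (t ≫ b.iso.inv.left) ≫ pullback.snd b.fst.hom f =
          (a.iso.inv.left ≫ ((Over.pullback f).map b1).left) ≫ pullback.snd b.fst.hom f
        rw [Category.assoc, Category.assoc, e1, e2, e3]
        exact wp
    change (Over.pullback f).map b1 ≫ b.iso.hom = a.iso.hom ≫ (Over.homMk t wp : a.snd.base ⟶ b.snd.base)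
    rw [← Iso.inv_comp_eq, ← Category.assoc, ← h3, Category.assoc, Iso.inv_hom_id, Category.comp_id]

theorem isHomLift_eqToIso {C : Type*} [Category C] (𝒴 : BasedCategory C) {a b : 𝒴.obj} (h : a = b) :
    𝒴.p.IsHomLift (𝟙 (𝒴.p.obj b)) (eqToIso h).hom := by
  subst h
  exact IsHomLift.id rfl

/-- Every object of `QFam f` comes from the pull-back. -/
theorem exists_toFam (y : (QFam f).obj) : ∃ (x : (K751.Kan.pb (Over.pullback f) (Md X)).obj)
    (e : (toFam f).obj x ≅ y), (QFam f).p.IsHomLift (𝟙 ((QFam f).p.obj y)) e.hom := by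
  obtain ⟨⟨U, Y, p, q, hsq, E⟩, hE⟩ := y
  let i₀ : pullback U.hom f ≅ Y := (IsPullback.of_hasPullback U.hom f).isoIsPullback _ _ hsq.flip
  have h1 : i₀.inv ≫ pullback.fst U.hom f = q := IsPullback.isoIsPullback_inv_fst _ _ _ _
  have h2 : i₀.hom ≫ p = pullback.snd U.hom f := IsPullback.isoIsPullback_hom_snd _ _ _ _
  let i : (Over.pullback f).obj U ≅ Over.mk p := Over.isoMk i₀ h2
  let x : CategoricalPullback (Over.pullback f) (Md X).p := ⟨U, ⟨Over.mk p, E, hE⟩, i⟩
  have key : ∀ (q' : Y ⟶ U.left) (h : IsPullback p q' f U.hom), q' = q →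
      (⟨⟨U, Y, p, q', h, E⟩, hE⟩ : (QFam f).obj) = ⟨⟨U, Y, p, q, hsq, E⟩, hE⟩ := by
    rintro q' h rfl
    rfl
  have h3 : (toFam f).obj x = ⟨⟨U, Y, p, q, hsq, E⟩, hE⟩ := key _ _ h1
  exact ⟨x, eqToIso h3, isHomLift_eqToIso _ h3⟩

variable (f) in
theorem isEquivOver_toFam : FibCat.IsEquivOver (toFam f) :=
  K751.FF.isEquivOver_of_ff_of_exists_iso (toFam f) exists_toFam

variable {K : Precoverage Scheme.{u}} [K.IsStableUnderComposition]
    [K.IsStableUnderBaseChange] [K.HasPullbacks] [K.HasIsos] [Precoverage.Small.{u} K]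

variable (f) in
theorem coverPreserving_pullback :
    CoverPreserving (QuotSh.J K S) (QuotSh.J K X) (Over.pullback f) where
  cover_preserve {U R} hR := by
    obtain ⟨ι, Z, p, hp, hpR⟩ := K185.Cover.exists_ofArrows_of_mem_J hR
    have h1 : Presieve.ofArrows (fun i => ((Over.pullback f).obj (Z i)).left)
        (fun i => ((Over.pullback f).map (p i)).left) ∈ K ((Over.pullback f).obj U).left := by
      refine Precoverage.mem_coverings_of_isPullback _ hp (pullback.fst U.hom f) _
        (fun i => pullback.fst (Z i).hom f) (fun i => ?_)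
      have h2 : IsPullback (pullback.snd U.hom f) (pullback.fst U.hom f) f U.hom :=
        (IsPullback.of_hasPullback U.hom f).flip
      have h3 : IsPullback (((Over.pullback f).map (p i)).left ≫ pullback.snd U.hom f)
          (pullback.fst (Z i).hom f) f ((p i).left ≫ U.hom) := by
        have e1 : ((Over.pullback f).map (p i)).left ≫ pullback.snd U.hom f = pullback.snd (Z i).hom f := by
          simp
        rw [e1, Over.w (p i)]
        exact (IsPullback.of_hasPullback (Z i).hom f).flip
      exact IsPullback.of_right h3 (by simp) h2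
    refine (QuotSh.J K X).superset_covering ?_ (K185.Cover.ofArrows_mem_J _ h1)
    rw [Sieve.generate_le_iff]
    rintro _ _ ⟨i⟩
    exact Sieve.image_mem_functorPushforward _ _ (hpR i)

variable (f) in
/-- Quasi-coherent modules on the base changes of `X` form a stack. -/
theorem isStack_qfam (hK : K ≤ Scheme.fpqcPrecoverage) : Stk.IsStack (QuotSh.J K S) (QFam f) :=
  K751.Inv.isStack_of_isEquivOver (isEquivOver_toFam f)
    (K751.PullC.isStack_pb (QuotSh.J K S) (QuotSh.J K X) (coverPreserving_pullback f) (isStack_md X hK))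

end K927.ModSt
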