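import Groth.Agent.ModSt.K927.Md
import Groth.Agent.Desc.QDBridge

/-!
# Morphisms of `Md X` on sections, and in adjoint form

* `apc φ U : Γ(B.E, U) →+ Γ(A.E, φ⁻¹ U)`
* `th φ g h : g^* B.E ⟶ A.E` for `φ : A ⟶ B` over `g`.
* `ap_th`, `th_comp`, `ofTh`, `md_ext_th`.
* `sep` : morphisms are determined on an fpqc covering.
-/

set_option autoImplicit false
universe v u

open CategoryTheory CategoryTheory.Limits AlgebraicGeometry Opposite ModSt Groth.Agent.Desc.QD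

noncomputable section

namespace K927.ModSt

variable {X : Scheme.{u}}

/-- The comparison map on sections. -/
def apc {A B : MObj X} (φ : A ⟶ B) (U : B.base.left.Opens) :
    Γ(B.E, U) →+ Γ(A.E, φ.base.left ⁻¹ᵁ U) := ap φ.c U

theorem ap_congr_app {Y Z : Scheme.{u}} {a b : Y ⟶ Z} (h : a = b) (M : Y.Modules) (U : Z.Opens)
    (m : Γ(M, a ⁻¹ᵁ U)) {W : Y.Opens} (e : W ≤ b ⁻¹ᵁ U) (e' : W ≤ a ⁻¹ᵁ U) :
    rs M e (ap ((Scheme.Modules.pushforwardCongr h).hom.app M) U m : Γ(M, b ⁻¹ᵁ U)) = rs M e' m := by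
  subst h
  rw [pushforwardCongr_rfl_app]
  rfl

theorem rs_apc_congr {A B : MObj X} {φ ψ : A ⟶ B} (h : φ = ψ) {U : B.base.left.Opens} (m : Γ(B.E, U))
    {W : A.base.left.Opens} (e : W ≤ φ.base.left ⁻¹ᵁ U) (e' : W ≤ ψ.base.left ⁻¹ᵁ U) :
    rs A.E e (apc φ U m) = rs A.E e' (apc ψ U m) := by
  subst h
  rfl

/-- the adjoint form of a morphism over `g`. -/
def th {A B : MObj X} (φ : A ⟶ B) (g : A.base.left ⟶ B.base.left) (h : φ.base.left = g) :
    PB g B.E ⟶ A.E :=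
  (adj g).symm (φ.c ≫ (Scheme.Modules.pushforwardCongr h).hom.app A.E)

theorem ap_th {A B : MObj X} (φ : A ⟶ B) (g : A.base.left ⟶ B.base.left) (h : φ.base.left = g)
    {U : B.base.left.Opens} {W : A.base.left.Opens} (e : W ≤ g ⁻¹ᵁ U) (e' : W ≤ φ.base.left ⁻¹ᵁ U)
    (m : Γ(B.E, U)) :
    ap (th φ g h) W (sc g B.E e m) = rs A.E e' (apc φ U m) := by
  rw [th, ap_adj_symm]
  exact ap_congr_app h A.E U _ e e'

instance isIso_th {A B : MObj X} (φ : A ⟶ B) (g : A.base.left ⟶ B.base.left) (h : φ.base.left = g) :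
    IsIso (th φ g h) :=
  (isCart_iff _).1 (φ.cart.congr h)

theorem th_congr {A B : MObj X} {φ ψ : A ⟶ B} (hφ : φ = ψ) (g : A.base.left ⟶ B.base.left)
    (h : φ.base.left = g) (h' : ψ.base.left = g) : th φ g h = th ψ g h' := by
  subst hφ
  rfl

theorem comp_apc {A B C : MObj X} (φ : A ⟶ B) (ψ : B ⟶ C) (U : C.base.left.Opens) (m : Γ(C.E, U))
    {W : A.base.left.Opens} (e : W ≤ (φ ≫ ψ).base.left ⁻¹ᵁ U)
    (e' : W ≤ φ.base.left ⁻¹ᵁ (ψ.base.left ⁻¹ᵁ U)) :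
    rs A.E e (apc (φ ≫ ψ) U m) = rs A.E e' (apc φ _ (apc ψ U m)) := rfl

theorem apc_rs {A B : MObj X} (φ : A ⟶ B) {U V : B.base.left.Opens} (h : V ≤ U) (m : Γ(B.E, U)) :
    apc φ V (rs B.E h m) = rs A.E (φ.base.left.preimage_mono h) (apc φ U m) := ap_rs φ.c h m

theorem th_comp {A B C : MObj X} (φ : A ⟶ B) (ψ : B ⟶ C) (g : A.base.left ⟶ B.base.left)
    (g' : B.base.left ⟶ C.base.left) (k : A.base.left ⟶ C.base.left) (h : φ.base.left = g)
    (h' : ψ.base.left = g') (hk : (φ ≫ ψ).base.left = k) (w : g ≫ g' = k) :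
    th (φ ≫ ψ) k hk = cmp g g' k w C.E ≫ PBmap g (th ψ g' h') ≫ th φ g h := by
  subst h h' w
  apply Groth.Agent.Desc.QD.hom_ext
  intro U m
  have e0 : (φ.base.left ≫ ψ.base.left) ⁻¹ᵁ U ≤ (φ ≫ ψ).base.left ⁻¹ᵁ U := le_rfl
  have e1 : (φ.base.left ≫ ψ.base.left) ⁻¹ᵁ U ≤ φ.base.left ⁻¹ᵁ (ψ.base.left ⁻¹ᵁ U) := le_rfl
  rw [ap_th (φ ≫ ψ) _ hk le_rfl e0, ap_comp, ap_comp, cmp_sc _ _ _ _ _ le_rfl e1 le_rfl, map_sc,
    ap_th ψ _ rfl le_rfl le_rfl, rs_refl, ap_th φ _ rfl e1 e1]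
  rfl

theorem apc_id {A : MObj X} (U : A.base.left.Opens) (m : Γ(A.E, U)) {W : A.base.left.Opens}
    (e : W ≤ (𝟙 A : A ⟶ A).base.left ⁻¹ᵁ U) (e' : W ≤ U) :
    rs A.E e (apc (𝟙 A) U m) = rs A.E e' m := rfl

theorem th_id {A : MObj X} (g : A.base.left ⟶ A.base.left) (h : (𝟙 A : A ⟶ A).base.left = g)
    {W : A.base.left.Opens} (e : W ≤ g ⁻¹ᵁ W) (m : Γ(A.E, W)) :
    ap (th (𝟙 A) g h) W (sc g A.E e m) = m := by
  have e1 : W ≤ (𝟙 A : A ⟶ A).base.left ⁻¹ᵁ W := by subst h; exact e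
  rw [ap_th (𝟙 A) g h e e1, apc_id _ _ e1 le_rfl, rs_refl]

/-- The morphism with a given adjoint form. -/
def ofTh {A B : MObj X} (g : A.base ⟶ B.base) (t : PB g.left B.E ⟶ A.E) (ht : IsIso t) : A ⟶ B where
  base := g
  c := adj g.left t
  cart := by
    rw [isCart_iff]
    change IsIso ((adj g.left).symm (adj g.left t))
    rw [Equiv.symm_apply_apply]
    exact ht

theorem ofTh_base {A B : MObj X} (g : A.base ⟶ B.base) (t : PB g.left B.E ⟶ A.E) (ht : IsIso t) :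
    (ofTh g t ht).base = g := rfl

theorem apc_ofTh {A B : MObj X} (g : A.base ⟶ B.base) (t : PB g.left B.E ⟶ A.E) (ht : IsIso t)
    (U : B.base.left.Opens) (m : Γ(B.E, U)) :
    apc (ofTh g t ht) U m = ap t (g.left ⁻¹ᵁ U) (sc g.left B.E le_rfl m) :=
  ap_adj g.left t U m

theorem th_ofTh {A B : MObj X} (g : A.base ⟶ B.base) (t : PB g.left B.E ⟶ A.E) (ht : IsIso t)
    (h : (ofTh g t ht).base.left = g.left) : th (ofTh g t ht) g.left h = t := by
  apply Groth.Agent.Desc.QD.hom_ext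
  intro U m
  have e : g.left ⁻¹ᵁ U ≤ (ofTh g t ht).base.left ⁻¹ᵁ U := le_rfl
  refine (ap_th (ofTh g t ht) g.left h le_rfl e m).trans ?_
  refine (congrArg _ (apc_ofTh g t ht U m)).trans ?_
  exact rs_refl _ _ _

/-- Extensionality in terms of sections. -/
theorem md_ext_sec {A B : MObj X} {φ ψ : A ⟶ B} (hb : φ.base = ψ.base)
    (h : ∀ (U : B.base.left.Opens) (m : Γ(B.E, U)) (e : φ.base.left ⁻¹ᵁ U ≤ ψ.base.left ⁻¹ᵁ U),
      apc φ U m = rs A.E e (apc ψ U m)) :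
    φ = ψ := by
  obtain ⟨b, c, hcart⟩ := φ
  obtain ⟨b', c', hcart'⟩ := ψ
  cases hb
  have hcc : c = c' := by
    apply ap_ext
    intro U m
    exact (h U m le_rfl).trans (rs_refl _ _ _)
  cases hcc
  rfl

/-- Extensionality in terms of adjoint forms. -/
theorem md_ext_th {A B : MObj X} {φ ψ : A ⟶ B} (hb : φ.base = ψ.base)
    (g : A.base.left ⟶ B.base.left) (h1 : φ.base.left = g) (h2 : ψ.base.left = g)
    (h : th φ g h1 = th ψ g h2) : φ = ψ := by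
  refine md_ext_sec hb fun U m e => ?_
  have e1 : φ.base.left ⁻¹ᵁ U ≤ g ⁻¹ᵁ U := by subst h1; exact le_rfl
  have := ap_th φ g h1 e1 le_rfl m
  rw [rs_refl] at this
  rw [← this, h, ap_th ψ g h2 e1 e]

/-- A section of `A.E` is determined on a covering. -/
theorem sec_sep {ι : Type v} {A : MObj X} (W : ι → MObj X) (β : ∀ i, W i ⟶ A)
    (hβ : Presieve.ofArrows (fun i => (W i).base.left) (fun i => (β i).base.left) ∈
      Scheme.fpqcPrecoverage A.base.left) (U : A.base.left.Opens) {s s' : Γ(A.E, U)}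
    (h : ∀ i, apc (β i) U s = apc (β i) U s') : s = s' := by
  refine sec_ext (fun i => (β i).base.left) hβ A.E A.qc fun i => ?_
  apply (ap_bijective (th (β i) (β i).base.left rfl) _).1
  rw [ap_th (β i) _ rfl le_rfl le_rfl, ap_th (β i) _ rfl le_rfl le_rfl, h i]

/-- Morphisms are determined on a covering. -/
theorem sep {ι : Type v} {A B : MObj X} (W : ι → MObj X) (β : ∀ i, W i ⟶ A)
    (hβ : Presieve.ofArrows (fun i => (W i).base.left) (fun i => (β i).base.left) ∈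
      Scheme.fpqcPrecoverage A.base.left) {χ χ' : A ⟶ B} (hb : χ.base = χ'.base)
    (h : ∀ i, β i ≫ χ = β i ≫ χ') : χ = χ' := by
  refine md_ext_sec hb fun U m e => ?_
  refine sec_sep W β hβ _ fun i => ?_
  have h1 := rs_apc_congr (h i) m (W := (β i).base.left ⁻¹ᵁ (χ.base.left ⁻¹ᵁ U)) le_rfl
    ((β i).base.left.preimage_mono e)
  rw [apc_rs, ← comp_apc (β i) χ' U m (W := (β i).base.left ⁻¹ᵁ (χ.base.left ⁻¹ᵁ U))
    ((β i).base.left.preimage_mono e) ((β i).base.left.preimage_mono e), ← h1]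
  exact (rs_refl _ _ _).symm

end K927.ModSt
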