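import Groth.Agent.ModSt.K927.MdEff

/-!
# `Md X` is a stack for every topology coarser than the fpqc topology

`K927.ModSt.isStack_md`
-/

set_option autoImplicit false
universe v u

open CategoryTheory CategoryTheory.Limits AlgebraicGeometry Opposite ModSt Groth.Agent.Desc.QD K751.Test

noncomputable section

namespace K927.ModSt

variable {X : Scheme.{u}} {V : Over X} {R : Sieve V} (D : Stk.sieveCat R ⥤ᵇ Md X)
variable {ι : Type u} {Z : ι → Over X} (p : ∀ i, Z i ⟶ V) (hp : ∀ i, R (p i))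

omit D in
theorem comm_aux {Y Y₁ Y₂ T : Scheme.{u}} {N : T.Modules} {E₁ : Y₁.Modules} {E₂ : Y₂.Modules} {P : Y.Modules}
    (f₁ : Y ⟶ Y₁) (p₁ : Y₁ ⟶ T) (q : Y ⟶ T) (w₁ : f₁ ≫ p₁ = q) (f₂ : Y ⟶ Y₂) (p₂ : Y₂ ⟶ T) (w₂ : f₂ ≫ p₂ = q)
    (e₁ : PB p₁ N ⟶ E₁) (e₂ : PB p₂ N ⟶ E₂) (t₁ : PB f₁ E₁ ⟶ P) (t₂ : PB f₂ E₂ ⟶ P) (_ : IsIso t₂)
    (h : PBmap f₁ e₁ ≫ (t₁ ≫ inv t₂) = (cmpInv f₁ p₁ q w₁ N ≫ cmp f₂ p₂ q w₂ N) ≫ PBmap f₂ e₂) :
    cmp f₁ p₁ q w₁ N ≫ PBmap f₁ e₁ ≫ t₁ = cmp f₂ p₂ q w₂ N ≫ PBmap f₂ e₂ ≫ t₂ := by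
  have h2 : PBmap f₁ e₁ ≫ t₁ = (PBmap f₁ e₁ ≫ (t₁ ≫ inv t₂)) ≫ t₂ := by simp
  rw [h2, h]
  simp only [Category.assoc, cmp_cmpInv_assoc]

/-- The descended module. -/
theorem exists_obj (hf : Presieve.ofArrows (fun i => (Z i).left) (fun i => (p i).left) ∈
      Scheme.fpqcPrecoverage V.left) :
    ∃ (N : V.left.Modules) (_ : Coh.IsQCoh N) (e : ∀ i, PB (p i).left N ⟶ Ei D p hp i), (∀ i, IsIso (e i)) ∧
      ∀ (Y : Scheme.{u}) (q : Y ⟶ V.left) (hq : R (rq q)) (i j : ι) (f₁ : Y ⟶ (Z i).left)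
        (w₁ : f₁ ≫ (p i).left = q) (f₂ : Y ⟶ (Z j).left) (w₂ : f₂ ≫ (p j).left = q),
        cmp f₁ (p i).left q w₁ N ≫ PBmap f₁ (e i) ≫ θ D p hp hq f₁ w₁ =
          cmp f₂ (p j).left q w₂ N ≫ PBmap f₂ (e j) ≫ θ D p hp hq f₂ w₂ := by
  obtain ⟨N, hN, ⟨e⟩⟩ := Groth.Agent.S1130.result (fun i => (p i).left) hf (dd D p hp)
    (fun i => (st D (mkS (p i) (hp i))).qc)
  have he : ∀ i, IsIso (e.hom.hom i : PB (p i).left N ⟶ Ei D p hp i) := by
    intro i
    refine ⟨e.inv.hom i, ?_, ?_⟩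
    · exact congrArg (fun t => Pseudofunctor.DescentData.Hom.hom t i) e.hom_inv_id
    · exact congrArg (fun t => Pseudofunctor.DescentData.Hom.hom t i) e.inv_hom_id
  refine ⟨N, hN, fun i => e.hom.hom i, he, fun Y q hq i j f₁ w₁ f₂ w₂ => ?_⟩
  have h1 : PBmap f₁ (e.hom.hom i : PB (p i).left N ⟶ Ei D p hp i) ≫ hom₀ D p hp hq f₁ w₁ f₂ w₂ =
      (cmpInv f₁ (p i).left q w₁ N ≫ cmp f₂ (p j).left q w₂ N) ≫
        PBmap f₂ (e.hom.hom j : PB (p j).left N ⟶ Ei D p hp j) := by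
    refine (e.hom.comm q f₁ f₂ w₁ w₂).trans ?_
    refine congrArg (fun z => z ≫ _) ?_
    exact congrArg₂ (fun z z' => z ≫ z') (modPF_mapComp'_inv (p i).left f₁ q w₁ _ N)
      (modPF_mapComp' (p j).left f₂ q w₂ _ N)
  exact comm_aux (E₁ := Ei D p hp i) (E₂ := Ei D p hp j) (P := Mq D q hq) f₁ (p i).left q w₁ f₂ (p j).left w₂
    (e.hom.hom i) (e.hom.hom j) (θ D p hp hq f₁ w₁) (θ D p hp hq f₂ w₂) (isIso_θ D p hp hq f₂ w₂) h1

/-- Descent data along a sieve generated by an fpqc family are effective. -/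
theorem exists_eff {ι : Type u} {Z : ι → Over X} (p : ∀ i, Z i ⟶ V)
    (D : Stk.sieveCat (Sieve.generate (Presieve.ofArrows Z p)) ⥤ᵇ Md X)
    (hf : Presieve.ofArrows (fun i => (Z i).left) (fun i => (p i).left) ∈
      Scheme.fpqcPrecoverage V.left) : Nonempty (Eff D) := by
  let R := Sieve.generate (Presieve.ofArrows Z p)
  have hp : ∀ i, R (p i) := fun i => Sieve.le_generate _ _ _ (Presieve.ofArrows.mk i)
  obtain ⟨N, hN, e, he, hcomm⟩ := exists_obj D p hp hf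
  let pt : MObj X := ⟨V, N, hN⟩
  let ε : ∀ i, st D (mkS (p i) (hp i)) ⟶ pt := fun i => ofTh (A := st D (mkS (p i) (hp i))) (B := pt) (p i) (e i) (he i)
  have hε : ∀ i, (ε i).base = p i := fun i => rfl
  have thε : ∀ i (h : (ε i).base.left = (p i).left), th (ε i) (p i).left h = e i := fun i h =>
    th_ofTh (A := st D (mkS (p i) (hp i))) (B := pt) (p i) (e i) (he i) h
  -- the arrows out of the special objects
  have key : ∀ (Y : Scheme.{u}) (q : Y ⟶ V.left) (hq : R (rq q)) (i j : ι) (f₁ : Y ⟶ (Z i).left)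
        (w₁ : f₁ ≫ (p i).left = q) (f₂ : Y ⟶ (Z j).left) (w₂ : f₂ ≫ (p j).left = q),
      dm D (sq p hp hq f₁ w₁) ≫ ε i = dm D (sq p hp hq f₂ w₂) ≫ ε j := by
    intro Y q hq i j f₁ w₁ f₂ w₂
    have hb : ∀ (l : ι) (f : Y ⟶ (Z l).left) (w : f ≫ (p l).left = q),
        (dm D (sq p hp hq f w) ≫ ε l).base = rq q := by
      intro l f w
      rw [MObj.comp_base, dm_base, hε]
      exact Over.OverMorphism.ext w
    have ht : ∀ (l : ι) (f : Y ⟶ (Z l).left) (w : f ≫ (p l).left = q)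
        (h : (dm D (sq p hp hq f w) ≫ ε l).base.left = q),
        th (dm D (sq p hp hq f w) ≫ ε l) q h =
          cmp f (p l).left q w N ≫ PBmap f (e l) ≫ θ D p hp hq f w := by
      intro l f w h
      refine (th_comp (dm D (sq p hp hq f w)) (ε l) f (p l).left q
        (congrArg CommaMorphism.left (dm_base D (sq p hp hq f w))) rfl h w).trans ?_
      exact congrArg (fun t => cmp f (p l).left q w N ≫ PBmap f t ≫ θ D p hp hq f w) (thε l rfl)
    have hb' : ∀ (l : ι) (f : Y ⟶ (Z l).left) (w : f ≫ (p l).left = q),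
        (dm D (sq p hp hq f w) ≫ ε l).base.left = q := by
      intro l f w
      rw [hb l f w]
      rfl
    refine md_ext_th ((hb i f₁ w₁).trans (hb j f₂ w₂).symm) q (hb' i f₁ w₁) (hb' j f₂ w₂) ?_
    exact (ht i f₁ w₁ _).trans ((hcomm Y q hq i j f₁ w₁ f₂ w₂).trans (ht j f₂ w₂ _).symm)
  -- independence of the factorisation
  have indep : ∀ (a : R.arrows.category) (i j : ι) (f₁ : a.obj.left ⟶ Z i) (w₁ : f₁ ≫ p i = a.obj.hom)
      (f₂ : a.obj.left ⟶ Z j) (w₂ : f₂ ≫ p j = a.obj.hom),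
      dm D (homS (a := a) (b := mkS (p i) (hp i)) f₁ w₁) ≫ ε i =
        dm D (homS (a := a) (b := mkS (p j) (hp j)) f₂ w₂) ≫ ε j := by
    intro a i j f₁ w₁ f₂ w₂
    have u1 : f₁.left ≫ (p i).left = a.obj.hom.left := congrArg CommaMorphism.left w₁
    have u2 : f₂.left ≫ (p j).left = a.obj.hom.left := congrArg CommaMorphism.left w₂
    have hq : R (rq a.obj.hom.left) := rq_mem p hp f₁.left u1
    let κ : a ⟶ aq a.obj.hom.left hq := homS (a := a) (b := aq a.obj.hom.left hq)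
      (Over.homMk (𝟙 _) (by
        change 𝟙 _ ≫ (a.obj.hom.left ≫ V.hom) = _
        rw [Category.id_comp, Over.w a.obj.hom])) (Over.OverMorphism.ext (Category.id_comp _))
    have h1 : ∀ (l : ι) (f : a.obj.left ⟶ Z l) (w : f ≫ p l = a.obj.hom)
        (u : f.left ≫ (p l).left = a.obj.hom.left),
        dm D (homS (a := a) (b := mkS (p l) (hp l)) f w) = dm D κ ≫ dm D (sq p hp hq f.left u) := by
      intro l f w u
      have h2 : homS (a := a) (b := mkS (p l) (hp l)) f w = κ ≫ sq p hp hq f.left u := by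
        apply ObjectProperty.hom_ext
        apply Over.OverMorphism.ext
        apply Over.OverMorphism.ext
        exact (Category.id_comp _).symm
      rw [← dm_comp, ← h2]
    rw [h1 i f₁ w₁ u1, h1 j f₂ w₂ u2, Category.assoc, Category.assoc,
      key _ _ hq i j f₁.left u1 f₂.left u2]
  have fac : ∀ a : R.arrows.category, ∃ (i : ι) (h : a.obj.left ⟶ Z i), h ≫ p i = a.obj.hom := by
    intro a
    obtain ⟨W, h, g, ⟨i⟩, w⟩ := a.property
    exact ⟨i, h, w⟩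
  choose i h w using fac
  let ι' : ∀ a : R.arrows.category, st D a ⟶ pt := fun a =>
    dm D (homS (a := a) (b := mkS (p (i a)) (hp (i a))) (h a) (w a)) ≫ ε (i a)
  have hι'b : ∀ a, (ι' a).base = a.obj.hom := fun a => by
    simp only [ι']
    rw [MObj.comp_base, dm_base, hε]
    exact w a
  have hι' : ∀ {a b : R.arrows.category} (f : a ⟶ b), dm D f ≫ ι' b = ι' a := by
    intro a b f
    simp only [ι']
    rw [← Category.assoc, ← dm_comp]
    have w' : (f.hom.left ≫ h b) ≫ p (i b) = a.obj.hom := by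
      rw [Category.assoc, w b]
      exact Over.w f.hom
    have h2 : f ≫ homS (a := b) (b := mkS (p (i b)) (hp (i b))) (h b) (w b) =
        homS (a := a) (b := mkS (p (i b)) (hp (i b))) (f.hom.left ≫ h b) w' := by
      apply ObjectProperty.hom_ext
      apply Over.OverMorphism.ext
      rfl
    rw [h2]
    exact indep a (i b) (i a) _ w' (h a) (w a)
  refine ⟨⟨pt, fun a => sv D a ≫ ι' a, fun a => ?_, fun {a b} f => ?_, rfl⟩⟩
  · refine IsHomLift.of_fac' (Md X).p a.obj.hom (sv D a ≫ ι' a) (D_base D a) rfl ?_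
    change (sv D a ≫ ι' a).base = _
    rw [MObj.comp_base, sv_base, hι'b]
    exact congrArg (fun t => eqToHom _ ≫ t) (Category.comp_id _).symm
  · rw [← Category.assoc, map_sv, Category.assoc, hι']

/-- `Md X` is a stack. -/
theorem isStack_md (X : Scheme.{u}) {K : Precoverage Scheme.{u}} [K.IsStableUnderComposition]
    [K.IsStableUnderBaseChange] [K.HasPullbacks] [K.HasIsos] [Precoverage.Small.{u} K]
    (hK : K ≤ Scheme.fpqcPrecoverage) : Stk.IsStack (QuotSh.J K X) (Md X) := by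
  have hpre := isPrestack_md (X := X) hK
  refine ⟨hpre.1, fun V R hR => ?_⟩
  obtain ⟨ι, Z, p, hp, hpR⟩ := K185.Cover.exists_ofArrows_of_mem_J hR
  have hS : Sieve.generate (Presieve.ofArrows Z p) ∈ QuotSh.J K X V := K185.Cover.ofArrows_mem_J p hp
  refine K751.Loc.isStackFor_of_le hpre.1 (S := Sieve.generate (Presieve.ofArrows Z p)) ?_ ?_ ?_
  · rw [Sieve.generate_le_iff]
    rintro _ _ ⟨i⟩
    exact hpR i
  · rw [K751.Test.isStackFor_iff hpre.1]
    exact ⟨hpre.2 _ hS, fun D => exists_eff p D (hK _ hp)⟩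
  · intro W f _
    exact hpre.2 _ ((QuotSh.J K X).pullback_stable f hS)

end K927.ModSt
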