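import Groth.Agent.EtAlg.K361.RelMilnor2
import Groth.Agent.FCompl.K28.SBC

/-!
# Modules over fibre products of rings, relative version, instance-free

`B' = B ×_A A'` with `A' → A` surjective, `D'` a `B'`-algebra with base changes `D`, `C'`, `C`.
* `exists_phi` : the glueing isomorphism of semilinear base change maps `N → Q ← M'`;
* `flat`, `sbc_fst`, `sbc_snd`, `finitePresentation` : the module `E = N ×_Q M'`;
* `bijective_of_sbc` : uniqueness.
-/

set_option autoImplicit false
set_option linter.style.haveILetI false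
set_option linter.unusedSectionVars false
universe u

open scoped TensorProduct
open K28

namespace K927.RSAlg

section phi

variable (D C' C : Type u) [CommRing D] [CommRing C'] [CommRing C] [Algebra D C] [Algebra C' C]
  {N M' Q : Type u} [AddCommGroup N] [Module D N] [AddCommGroup M'] [Module C' M'] [AddCommGroup Q] [Module C Q]

theorem exists_phi (α : N →+ Q) (β : M' →+ Q) (hα : SBC (algebraMap D C) α) (hβ : SBC (algebraMap C' C) β) :
    ∃ φ : C ⊗[D] N ≃ₗ[C] C ⊗[C'] M', ∀ (n : N) (m : M'), φ (1 ⊗ₜ n) = 1 ⊗ₜ m ↔ α n = β m := by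
  letI m1 : Module D Q := Module.compHom Q (algebraMap D C)
  letI m2 : Module C' Q := Module.compHom Q (algebraMap C' C)
  haveI t1 : IsScalarTower D C Q := IsScalarTower.of_algebraMap_smul fun _ _ => rfl
  haveI t2 : IsScalarTower C' C Q := IsScalarTower.of_algebraMap_smul fun _ _ => rfl
  let α' : N →ₗ[D] Q := { toFun := α, map_add' := map_add α, map_smul' := fun a m => hα.smul a m }
  let β' : M' →ₗ[C'] Q := { toFun := β, map_add' := map_add β, map_smul' := fun a m => hβ.smul a m }
  have h1 : IsBaseChange C α' := SBC.isBaseChange (g := α') hα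
  have h2 : IsBaseChange C β' := SBC.isBaseChange (g := β') hβ
  refine ⟨h1.equiv ≪≫ₗ h2.equiv.symm, fun n m => ?_⟩
  rw [LinearEquiv.trans_apply, h1.equiv_tmul, one_smul, LinearEquiv.symm_apply_eq, h2.equiv_tmul, one_smul]
  rfl

end phi

section Main

variable {B' B A' A : Type u} [CommRing B'] [CommRing B] [CommRing A'] [CommRing A]
    [Algebra B' B] [Algebra B' A'] [Algebra B A] [Algebra A' A] [Algebra B' A]
    [IsScalarTower B' B A] [IsScalarTower B' A' A]
    (hsq : EtMil.IsFibreSquare B' B A' A)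
    (D' D C' C : Type u) [CommRing D'] [CommRing D] [CommRing C'] [CommRing C]
    [Algebra B' D'] [Algebra B D] [Algebra A' C'] [Algebra A C]
    [Algebra D' D] [Algebra B' D] [IsScalarTower B' B D] [IsScalarTower B' D' D]
    [Algebra.IsPushout B' B D' D]
    [Algebra D' C'] [Algebra B' C'] [IsScalarTower B' A' C'] [IsScalarTower B' D' C']
    [Algebra.IsPushout B' A' D' C']
    [Algebra D' C] [Algebra B' C] [IsScalarTower B' A C] [IsScalarTower B' D' C]
    [Algebra.IsPushout B' A D' C]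
    [Algebra D C] [IsScalarTower D' D C] [Algebra B C] [IsScalarTower B A C] [IsScalarTower B D C]
    [Algebra C' C] [IsScalarTower D' C' C] [Algebra A' C] [IsScalarTower A' A C]
    [IsScalarTower A' C' C]
    {N M' Q : Type u} [AddCommGroup N] [Module D N] [Module D' N] [IsScalarTower D' D N]
    [AddCommGroup M'] [Module C' M'] [Module D' M'] [IsScalarTower D' C' M']
    [Module B N] [IsScalarTower B D N] [Module A' M'] [IsScalarTower A' C' M']
    [Module B' N] [IsScalarTower B' B N] [Module B' M'] [IsScalarTower B' A' M']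
    [IsScalarTower B' D' N] [IsScalarTower B' D' M']
    [AddCommGroup Q] [Module C Q] (α : N →+ Q) (β : M' →+ Q)
    (hα : SBC (algebraMap D C) α) (hβ : SBC (algebraMap C' C) β)
    {E : Type u} [AddCommGroup E] [Module D' E] [Module B' E] [IsScalarTower B' D' E]
    (eN : E →ₗ[D'] N) (eM : E →ₗ[D'] M') (hcomp : ∀ e, α (eN e) = β (eM e))

section glue

variable (hinj : ∀ e, eN e = 0 → eM e = 0 → e = 0) (hsurj : ∀ n m, α n = β m → ∃ e, eN e = n ∧ eM e = m)

include hcomp hinj hsurj in
omit [Algebra B' D'] [Module B' E] [IsScalarTower B' D' E] [IsScalarTower D' D C] [IsScalarTower D' C' C] in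
theorem exists_equiv [IsScalarTower D' D C] [IsScalarTower D' C' C] (φ : C ⊗[D] N ≃ₗ[C] C ⊗[C'] M')
    (hφ : ∀ (n : N) (m : M'), φ (1 ⊗ₜ n) = 1 ⊗ₜ m ↔ α n = β m) :
    ∃ e : E ≃ₗ[D'] ↥(EtMil.glue D' φ), ∀ x, EtMil.glueFst D' φ (e x) = eN x ∧ EtMil.glueSnd D' φ (e x) = eM x := by
  let F : E →ₗ[D'] ↥(EtMil.glue D' φ) := LinearMap.codRestrict _ (eN.prod eM) (fun x => (hφ _ _).2 (hcomp x))
  have hF : Function.Bijective F := by
    constructor
    · rw [injective_iff_map_eq_zero]
      intro x hx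
      have h1 : (eN x, eM x) = (0 : N × M') := congrArg Subtype.val hx
      exact hinj x (congrArg Prod.fst h1) (congrArg Prod.snd h1)
    · rintro ⟨⟨n, m⟩, h⟩
      obtain ⟨e, h1, h2⟩ := hsurj n m ((hφ _ _).1 h)
      exact ⟨e, Subtype.ext (Prod.ext h1 h2)⟩
  exact ⟨LinearEquiv.ofBijective F hF, fun x => ⟨rfl, rfl⟩⟩

include hsq hα hβ hcomp hinj hsurj

theorem flat [Module.Flat B N] [Module.Flat A' M'] : Module.Flat B' E := by
  obtain ⟨φ, hφ⟩ := exists_phi D C' C α β hα hβ
  obtain ⟨e, -⟩ := exists_equiv D' D C' C α β eN eM hcomp hinj hsurj φ hφ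
  have h := K361.RelMilnor2.flat_glue (B' := B') (B := B) (A' := A') (A := A) hsq D' D C' C φ
  exact Module.Flat.of_linearEquiv (e.restrictScalars B')

theorem isBaseChange_fst : IsBaseChange D eN := by
  obtain ⟨φ, hφ⟩ := exists_phi D C' C α β hα hβ
  obtain ⟨e, he⟩ := exists_equiv D' D C' C α β eN eM hcomp hinj hsurj φ hφ
  have h := K361.RelMilnor2.baseChange_fst_bijective (B' := B') (B := B) (A' := A') (A := A) hsq D' D C' C φ
  let E1 := LinearEquiv.ofBijective (LinearMap.liftBaseChange D (EtMil.glueFst D' φ)) h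
  refine IsBaseChange.of_equiv ((e.baseChange D' D _ _) ≪≫ₗ E1) fun x => ?_
  have h1 : (e.baseChange D' D _ _) (1 ⊗ₜ x) = 1 ⊗ₜ e x := rfl
  rw [LinearEquiv.trans_apply, h1]
  change LinearMap.liftBaseChange D (EtMil.glueFst D' φ) (1 ⊗ₜ e x) = _
  rw [LinearMap.liftBaseChange_tmul, one_smul, (he x).1]

theorem isBaseChange_snd : IsBaseChange C' eM := by
  obtain ⟨φ, hφ⟩ := exists_phi D C' C α β hα hβ
  obtain ⟨e, he⟩ := exists_equiv D' D C' C α β eN eM hcomp hinj hsurj φ hφ
  have h := K361.RelMilnor2.baseChange_snd_bijective (B' := B') (B := B) (A' := A') (A := A) hsq D' D C' C φ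
  let E1 := LinearEquiv.ofBijective (LinearMap.liftBaseChange C' (EtMil.glueSnd D' φ)) h
  refine IsBaseChange.of_equiv ((e.baseChange D' C' _ _) ≪≫ₗ E1) fun x => ?_
  have h1 : (e.baseChange D' C' _ _) (1 ⊗ₜ x) = 1 ⊗ₜ e x := rfl
  rw [LinearEquiv.trans_apply, h1]
  change LinearMap.liftBaseChange C' (EtMil.glueSnd D' φ) (1 ⊗ₜ e x) = _
  rw [LinearMap.liftBaseChange_tmul, one_smul, (he x).2]

theorem finitePresentation [Module.Flat B N] [Module.Flat A' M'] [Module.FinitePresentation D N]
    [Module.FinitePresentation C' M'] : Module.FinitePresentation D' E := by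
  obtain ⟨φ, hφ⟩ := exists_phi D C' C α β hα hβ
  obtain ⟨e, -⟩ := exists_equiv D' D C' C α β eN eM hcomp hinj hsurj φ hφ
  have h := K361.RelMilnor2.finitePresentation_glue (B' := B') (B := B) (A' := A') (A := A) hsq D' D C' C φ
  exact Module.FinitePresentation.of_equiv e.symm

end glue

theorem isBaseChange_restrict (R₀ S₀ R S : Type u) [CommRing R₀] [CommRing S₀] [CommRing R] [CommRing S]
    [Algebra R₀ S₀] [Algebra R₀ R] [Algebra R₀ S] [Algebra S₀ S] [Algebra R S]
    [IsScalarTower R₀ S₀ S] [IsScalarTower R₀ R S] [Algebra.IsPushout R₀ S₀ R S]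
    {M : Type u} [AddCommGroup M] [Module R M] [Module R₀ M] [IsScalarTower R₀ R M]
    {P : Type u} [AddCommGroup P] [Module S P] [Module R P] [IsScalarTower R S P] [Module S₀ P]
    [IsScalarTower S₀ S P] [Module R₀ P] [IsScalarTower R₀ S₀ P] [IsScalarTower R₀ R P]
    (f : M →ₗ[R] P) (hf : IsBaseChange S f) : IsBaseChange S₀ (f.restrictScalars R₀) := by
  refine IsBaseChange.of_equiv ((Algebra.IsPushout.cancelBaseChange R₀ S₀ R S M).symm ≪≫ₗ
    hf.equiv.restrictScalars S₀) fun x => ?_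
  rw [LinearEquiv.trans_apply, Algebra.IsPushout.cancelBaseChange_symm_tmul, map_one]
  change hf.equiv (1 ⊗ₜ x) = _
  rw [hf.equiv_tmul, one_smul]
  rfl

include hsq hα hβ hcomp in
/-- Uniqueness: a module with base changes `N`, `M'` flat over `B`, `A'` is the fibre product. -/
theorem bijective_of_isBaseChange [Module.Flat B N] [Module.Flat A' M'] (hN : IsBaseChange D eN)
    (hM : IsBaseChange C' eM) :
    (∀ e, eN e = 0 → eM e = 0 → e = 0) ∧ ∀ n m, α n = β m → ∃ e, eN e = n ∧ eM e = m := by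
  obtain ⟨φ, hφ⟩ := exists_phi D C' C α β hα hβ
  have iN := isBaseChange_restrict B' B D' D eN hN
  have iM := isBaseChange_restrict B' A' D' C' eM hM
  have hc : ∀ l, K361.RelMilnor2.phiB (B' := B') (B := B) (A' := A') (A := A) D' D C' C φ
      (1 ⊗ₜ (eN.restrictScalars B') l) = 1 ⊗ₜ (eM.restrictScalars B') l := fun l =>
    (K361.RelMilnor2.phiB_iff D' D C' C φ _ _).2 ((hφ _ _).2 (hcomp l))
  have h := K364.MilnorPair.unit_bijective_of_flat _ _ _ hc hsq iN iM
  constructor
  · intro e h1 h2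
    apply h.1
    rw [map_zero]
    exact Subtype.ext (Prod.ext h1 h2)
  · intro n m hnm
    obtain ⟨e, he⟩ := h.2 ⟨(n, m), (K361.RelMilnor2.phiB_iff D' D C' C φ _ _).2 ((hφ _ _).2 hnm)⟩
    have h1 := congrArg Subtype.val he
    exact ⟨e, congrArg Prod.fst h1, congrArg Prod.snd h1⟩

end Main

end K927.RSAlg
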