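import Groth.Agent.ModSt.K927.RSHom
import Groth.Agent.AlgSp.K607.ArtinDefs
import Groth.Agent.Sga3C.Affinization

/-!
# The square of bases: spectra of fibre products of rings

* `bsq_spMap` : the square of spectra of a fibre product of rings;
* `BSq.existsUnique_hom` : it is a pushout with respect to affine schemes.
-/

set_option autoImplicit false
universe v u

open CategoryTheory CategoryTheory.Limits AlgebraicGeometry Opposite ModSt K607.Artin

noncomputable section

namespace K927.ModSt

variable {Λ : Type u} [CommRing Λ]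

/-- Functions on `Spec A`. -/
def sg (A : Type u) [CommRing A] [Algebra Λ A] : Γ((sp Λ A).left, ⊤) ≃+* A :=
  (Scheme.ΓSpecIso (CommRingCat.of A)).commRingCatIsoToRingEquiv

theorem sg_appTop {A B : Type u} [CommRing A] [CommRing B] [Algebra Λ A] [Algebra Λ B] (f : A →ₐ[Λ] B)
    (s : Γ((sp Λ A).left, ⊤)) : sg (Λ := Λ) B ((spMap f).left.appTop s) = f (sg A s) := by
  have h := Scheme.ΓSpecIso_naturality (CommRingCat.ofHom f.toRingHom)
  exact ConcreteCategory.congr_hom h s

theorem bsq_spMap {A B B' P : Type u} [CommRing A] [CommRing B] [CommRing B'] [CommRing P] [Algebra Λ A] [Algebra Λ B]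
    [Algebra Λ B'] [Algebra Λ P] (f : A →ₐ[Λ] B) (g : B' →ₐ[Λ] B) (p : P →ₐ[Λ] A) (q : P →ₐ[Λ] B')
    (h : IsFib f g p q) (hg : Function.Surjective g) :
    BSq (spMap f) (spMap g) (spMap p) (spMap q) where
  w := by
    apply Over.OverMorphism.ext
    change Spec.map _ ≫ Spec.map _ = Spec.map _ ≫ Spec.map _
    rw [← Spec.map_comp, ← Spec.map_comp, ← CommRingCat.ofHom_comp, ← CommRingCat.ofHom_comp]
    congr 2
    exact congrArg AlgHom.toRingHom h.w
  aP := inferInstanceAs (IsAffine (Spec _))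
  aA := inferInstanceAs (IsAffine (Spec _))
  aB' := inferInstanceAs (IsAffine (Spec _))
  aB := inferInstanceAs (IsAffine (Spec _))
  surj := by
    intro s
    obtain ⟨b, hb⟩ := hg (sg B s)
    refine ⟨(sg B').symm b, ?_⟩
    apply (sg (Λ := Λ) B).injective
    rw [sg_appTop, RingEquiv.apply_symm_apply, hb]
  fib := by
    intro s t hst
    have hst' := congrArg (sg (Λ := Λ) B) hst
    rw [sg_appTop, sg_appTop] at hst'
    obtain ⟨c, hc1, hc2⟩ := h.surj _ _ hst'
    refine ⟨(sg P).symm c, ⟨?_, ?_⟩, ?_⟩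
    · apply (sg (Λ := Λ) A).injective
      rw [sg_appTop, RingEquiv.apply_symm_apply, hc1]
    · apply (sg (Λ := Λ) B').injective
      rw [sg_appTop, RingEquiv.apply_symm_apply, hc2]
    · rintro c' ⟨h1, h2⟩
      apply (sg (Λ := Λ) P).injective
      rw [RingEquiv.apply_symm_apply]
      apply h.inj
      · rw [hc1, ← sg_appTop, h1]
      · rw [hc2, ← sg_appTop, h2]

section Push

variable {S : Scheme.{u}} [IsAffine S] {z x x' T Y : Over S} {a : z ⟶ x} {b : z ⟶ x'} {tA : x ⟶ T} {tB : x' ⟶ T}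
  (B : BSq a b tA tB)

include B in
theorem BSq.existsUnique_hom [IsAffine Y.left] (u : x ⟶ Y) (v : x' ⟶ Y) (h : a ≫ u = b ≫ v) :
    ∃! g : T ⟶ Y, tA ≫ g = u ∧ tB ≫ g = v := by
  have := B.aP
  have := B.aA
  have := B.aB'
  have hab : ∀ r, a.left.appTop (u.left.appTop r) = b.left.appTop (v.left.appTop r) := by
    intro r
    have h1 : a.left ≫ u.left = b.left ≫ v.left := congrArg CommaMorphism.left h
    have h2 : (a.left ≫ u.left).appTop = (b.left ≫ v.left).appTop := by rw [h1]
    rw [Scheme.Hom.comp_appTop, Scheme.Hom.comp_appTop] at h2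
    exact ConcreteCategory.congr_hom h2 r
  have uniq : ∀ c c' : Γ(T.left, ⊤), tA.left.appTop c = tA.left.appTop c' → tB.left.appTop c = tB.left.appTop c' →
      c = c' := by
    intro c c' h1 h2
    have h3 : a.left.appTop (tA.left.appTop c') = b.left.appTop (tB.left.appTop c') := by
      have h4 : a.left ≫ tA.left = b.left ≫ tB.left := congrArg CommaMorphism.left B.w
      have h5 : (a.left ≫ tA.left).appTop = (b.left ≫ tB.left).appTop := by rw [h4]
      rw [Scheme.Hom.comp_appTop, Scheme.Hom.comp_appTop] at h5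
      exact ConcreteCategory.congr_hom h5 c'
    exact (B.fib _ _ h3).unique ⟨h1, h2⟩ ⟨rfl, rfl⟩
  choose φ hφ using fun r => (B.fib _ _ (hab r)).exists
  let Φ : Γ(Y.left, ⊤) →+* Γ(T.left, ⊤) :=
    { toFun := φ
      map_one' := uniq _ _ (by rw [(hφ 1).1, map_one, map_one]) (by rw [(hφ 1).2, map_one, map_one])
      map_mul' := fun r s => uniq _ _ (by rw [(hφ _).1, map_mul, map_mul, (hφ r).1, (hφ s).1])
        (by rw [(hφ _).2, map_mul, map_mul, (hφ r).2, (hφ s).2])
      map_zero' := uniq _ _ (by rw [(hφ 0).1, map_zero, map_zero]) (by rw [(hφ 0).2, map_zero, map_zero])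
      map_add' := fun r s => uniq _ _ (by rw [(hφ _).1, map_add, map_add, (hφ r).1, (hφ s).1])
        (by rw [(hφ _).2, map_add, map_add, (hφ r).2, (hφ s).2]) }
  obtain ⟨g, hg⟩ := Groth.Agent.Sga3C.Affinization.exists_appTop_eq (X := T.left) (Z := Y.left)
    (CommRingCat.ofHom Φ)
  have hg' : ∀ r, g.appTop r = φ r := fun r => by rw [hg]; rfl
  have gA : tA.left ≫ g = u.left := by
    apply ext_of_isAffine
    rw [Scheme.Hom.comp_appTop]
    ext r
    exact (congrArg tA.left.appTop (hg' r)).trans (hφ r).1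
  have gB : tB.left ≫ g = v.left := by
    apply ext_of_isAffine
    rw [Scheme.Hom.comp_appTop]
    ext r
    exact (congrArg tB.left.appTop (hg' r)).trans (hφ r).2
  have hext : ∀ {Z : Scheme.{u}} [IsAffine Z] (k k' : T.left ⟶ Z), tA.left ≫ k = tA.left ≫ k' →
      tB.left ≫ k = tB.left ≫ k' → k = k' := by
    intro Z _ k k' h1 h2
    apply ext_of_isAffine
    ext r
    have h1' := congrArg (fun t : x.left ⟶ Z => t.appTop) h1
    have h2' := congrArg (fun t : x'.left ⟶ Z => t.appTop) h2
    rw [Scheme.Hom.comp_appTop, Scheme.Hom.comp_appTop] at h1' h2'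
    exact uniq _ _ (ConcreteCategory.congr_hom h1' r) (ConcreteCategory.congr_hom h2' r)
  refine ⟨Over.homMk g (hext _ _ ?_ ?_), ⟨?_, ?_⟩, ?_⟩
  · rw [← Category.assoc, gA, Over.w u, Over.w tA]
  · rw [← Category.assoc, gB, Over.w v, Over.w tB]
  · apply Over.OverMorphism.ext
    exact gA
  · apply Over.OverMorphism.ext
    exact gB
  · rintro g' ⟨h1, h2⟩
    apply Over.OverMorphism.ext
    refine hext _ _ ?_ ?_
    · exact (congrArg CommaMorphism.left h1).trans gA.symm
    · exact (congrArg CommaMorphism.left h2).trans gB.symm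

end Push

end K927.ModSt
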