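import Groth.Agent.ModSt.K927.RSAlg
import Mathlib.Algebra.Category.Ring.Constructions

/-!
# Modules over fibre products of rings, in terms of morphisms of `CommRingCat`

* `Cube` : a fibre product `P = A ×_B B'` of rings (`B' → B` surjective), a `P`-algebra `R` and its base changes.
* `Cube.both` : the fibre product `E` of modules, and its uniqueness.
-/

set_option autoImplicit false
set_option linter.style.haveILetI false
universe u

open CategoryTheory K28

namespace K927.RSAlg

/-- `P = A ×_B B'`, `B' → B` surjective, and the base changes of the `P`-algebra `R`. -/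
structure Cube {P A B' B R RA RB' RB : CommRingCat.{u}} (p : P ⟶ A) (q : P ⟶ B') (f : A ⟶ B) (g : B' ⟶ B)
    (s : P ⟶ R) (sA : A ⟶ RA) (sB' : B' ⟶ RB') (sB : B ⟶ RB) (i : R ⟶ RA) (h : R ⟶ RB') (ja : RA ⟶ RB)
    (jb : RB' ⟶ RB) : Prop where
  w0 : p ≫ f = q ≫ g
  surj : Function.Surjective g
  fib : ∀ (a : A) (b : B'), f a = g b → ∃! c : P, p c = a ∧ q c = b
  wA : sA ≫ ja = f ≫ sB
  wB : sB' ≫ jb = g ≫ sB
  wR : i ≫ ja = h ≫ jb
  poA : IsPushout p s sA i
  poB' : IsPushout q s sB' h
  poB : IsPushout (p ≫ f) s sB (i ≫ ja)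

/-- Flatness of a module along a ring map. -/
def FlatVia {P R : CommRingCat.{u}} (s : P ⟶ R) (M : Type u) [AddCommGroup M] [Module R M] : Prop :=
  letI : Module P M := Module.compHom M s.hom
  Module.Flat P M

variable {P A B' B R RA RB' RB : CommRingCat.{u}} {p : P ⟶ A} {q : P ⟶ B'} {f : A ⟶ B} {g : B' ⟶ B}
    {s : P ⟶ R} {sA : A ⟶ RA} {sB' : B' ⟶ RB'} {sB : B ⟶ RB} {i : R ⟶ RA} {h : R ⟶ RB'} {ja : RA ⟶ RB}
    {jb : RB' ⟶ RB} (K : Cube p q f g s sA sB' sB i h ja jb)
    {NA NB' NB : Type u} [AddCommGroup NA] [Module RA NA] [AddCommGroup NB'] [Module RB' NB']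
    [AddCommGroup NB] [Module RB NB] {α : NA →+ NB} {β : NB' →+ NB} (hα : SBC ja.hom α) (hβ : SBC jb.hom β)
    (fA : FlatVia sA NA) (fB : FlatVia sB' NB')
    {E : Type u} [AddCommGroup E] [Module R E] {eA : E →+ NA} {eB : E →+ NB'}
    (hcomp : ∀ e, α (eA e) = β (eB e))

include K hα hβ fA fB hcomp

theorem Cube.both (sl : ∀ (r : R) (e : E), eA (r • e) = i.hom r • eA e)
    (sl' : ∀ (r : R) (e : E), eB (r • e) = h.hom r • eB e) :
    ((∀ e, eA e = 0 → eB e = 0 → e = 0) → (∀ n m, α n = β m → ∃ e, eA e = n ∧ eB e = m) →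
      SBC i.hom eA ∧ SBC h.hom eB ∧ FlatVia s E ∧
      (Module.FinitePresentation RA NA → Module.FinitePresentation RB' NB' → Module.FinitePresentation R E)) ∧
    (SBC i.hom eA → SBC h.hom eB →
      (∀ e, eA e = 0 → eB e = 0 → e = 0) ∧ ∀ n m, α n = β m → ∃ e, eA e = n ∧ eB e = m) := by
  letI a1 : Algebra P A := p.hom.toAlgebra
  letI a2 : Algebra P B' := q.hom.toAlgebra
  letI a3 : Algebra A B := f.hom.toAlgebra
  letI a4 : Algebra B' B := g.hom.toAlgebra
  letI a5 : Algebra P B := (p ≫ f).hom.toAlgebra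
  letI b1 : Algebra P R := s.hom.toAlgebra
  letI b2 : Algebra A RA := sA.hom.toAlgebra
  letI b3 : Algebra B' RB' := sB'.hom.toAlgebra
  letI b4 : Algebra B RB := sB.hom.toAlgebra
  letI c1 : Algebra R RA := i.hom.toAlgebra
  letI c2 : Algebra R RB' := h.hom.toAlgebra
  letI c3 : Algebra RA RB := ja.hom.toAlgebra
  letI c4 : Algebra RB' RB := jb.hom.toAlgebra
  letI c5 : Algebra R RB := (i ≫ ja).hom.toAlgebra
  letI d1 : Algebra P RA := (p ≫ sA).hom.toAlgebra
  letI d2 : Algebra P RB' := (q ≫ sB').hom.toAlgebra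
  letI d3 : Algebra P RB := ((p ≫ f) ≫ sB).hom.toAlgebra
  letI d4 : Algebra A RB := (f ≫ sB).hom.toAlgebra
  letI d5 : Algebra B' RB := (g ≫ sB).hom.toAlgebra
  haveI t1 : IsScalarTower P A B := IsScalarTower.of_algebraMap_eq' rfl
  haveI t2 : IsScalarTower P B' B := IsScalarTower.of_algebraMap_eq' (congrArg CommRingCat.Hom.hom K.w0)
  haveI t3 : IsScalarTower P A RA := IsScalarTower.of_algebraMap_eq' rfl
  haveI t4 : IsScalarTower P R RA := IsScalarTower.of_algebraMap_eq' (congrArg CommRingCat.Hom.hom K.poA.w)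
  haveI t5 : IsScalarTower P B' RB' := IsScalarTower.of_algebraMap_eq' rfl
  haveI t6 : IsScalarTower P R RB' := IsScalarTower.of_algebraMap_eq' (congrArg CommRingCat.Hom.hom K.poB'.w)
  haveI t7 : IsScalarTower P B RB := IsScalarTower.of_algebraMap_eq' rfl
  haveI t8 : IsScalarTower P R RB := IsScalarTower.of_algebraMap_eq' (congrArg CommRingCat.Hom.hom K.poB.w)
  haveI t9 : IsScalarTower R RA RB := IsScalarTower.of_algebraMap_eq' rfl
  haveI t10 : IsScalarTower A B RB := IsScalarTower.of_algebraMap_eq' rfl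
  haveI t11 : IsScalarTower A RA RB := IsScalarTower.of_algebraMap_eq' (congrArg CommRingCat.Hom.hom K.wA).symm
  haveI t12 : IsScalarTower R RB' RB := IsScalarTower.of_algebraMap_eq' (congrArg CommRingCat.Hom.hom K.wR)
  haveI t13 : IsScalarTower B' B RB := IsScalarTower.of_algebraMap_eq' rfl
  haveI t14 : IsScalarTower B' RB' RB := IsScalarTower.of_algebraMap_eq' (congrArg CommRingCat.Hom.hom K.wB).symm
  haveI p1 : Algebra.IsPushout P A R RA := CommRingCat.isPushout_iff_isPushout.1 K.poA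
  haveI p2 : Algebra.IsPushout P B' R RB' := CommRingCat.isPushout_iff_isPushout.1 K.poB'
  haveI p3 : Algebra.IsPushout P B R RB := CommRingCat.isPushout_iff_isPushout.1 K.poB
  letI m1 : Module R NA := Module.compHom NA i.hom
  letI m2 : Module R NB' := Module.compHom NB' h.hom
  letI m3 : Module A NA := Module.compHom NA sA.hom
  letI m4 : Module B' NB' := Module.compHom NB' sB'.hom
  letI m5 : Module P NA := Module.compHom NA (p ≫ sA).hom
  letI m6 : Module P NB' := Module.compHom NB' (q ≫ sB').hom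
  letI m7 : Module P E := Module.compHom E s.hom
  haveI n1 : IsScalarTower R RA NA := IsScalarTower.of_algebraMap_smul fun _ _ => rfl
  haveI n2 : IsScalarTower A RA NA := IsScalarTower.of_algebraMap_smul fun _ _ => rfl
  haveI n3 : IsScalarTower R RB' NB' := IsScalarTower.of_algebraMap_smul fun _ _ => rfl
  haveI n4 : IsScalarTower B' RB' NB' := IsScalarTower.of_algebraMap_smul fun _ _ => rfl
  haveI n5 : IsScalarTower P A NA := IsScalarTower.of_algebraMap_smul fun _ _ => rfl
  haveI n6 : IsScalarTower P B' NB' := IsScalarTower.of_algebraMap_smul fun _ _ => rfl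
  haveI n7 : IsScalarTower P R NA := IsScalarTower.of_algebraMap_smul fun r x =>
    congrArg (fun (z : P →+* RA) => z r • x) (congrArg CommRingCat.Hom.hom K.poA.w).symm
  haveI n8 : IsScalarTower P R NB' := IsScalarTower.of_algebraMap_smul fun r x =>
    congrArg (fun (z : P →+* RB') => z r • x) (congrArg CommRingCat.Hom.hom K.poB'.w).symm
  haveI n9 : IsScalarTower P R E := IsScalarTower.of_algebraMap_smul fun _ _ => rfl
  haveI f1 : Module.Flat A NA := fA
  haveI f2 : Module.Flat B' NB' := fB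
  have hsq : EtMil.IsFibreSquare P A B' B := ⟨K.surj, K.fib⟩
  let eN : E →ₗ[R] NA := { toFun := eA, map_add' := map_add eA, map_smul' := sl }
  let eM : E →ₗ[R] NB' := { toFun := eB, map_add' := map_add eB, map_smul' := sl' }
  refine ⟨fun hinj hsurj => ⟨?_, ?_, ?_, fun _ _ => ?_⟩, fun hN hM => ?_⟩
  · exact SBC.of_isBaseChange (g := eN) (isBaseChange_fst (B' := P) (B := A) (A' := B') (A := B) hsq R RA RB' RB α β hα hβ
      eN eM hcomp hinj hsurj)
  · exact SBC.of_isBaseChange (g := eM) (isBaseChange_snd (B' := P) (B := A) (A' := B') (A := B) hsq R RA RB' RB α β hα hβ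
      eN eM hcomp hinj hsurj)
  · exact flat (B' := P) (B := A) (A' := B') (A := B) hsq R RA RB' RB α β hα hβ eN eM hcomp hinj hsurj
  · exact finitePresentation (B' := P) (B := A) (A' := B') (A := B) hsq R RA RB' RB α β hα hβ eN eM hcomp hinj hsurj
  · exact bijective_of_isBaseChange (B' := P) (B := A) (A' := B') (A := B) hsq R RA RB' RB α β hα hβ eN eM hcomp
      (SBC.isBaseChange (g := eN) hN) (SBC.isBaseChange (g := eM) hM)

end K927.RSAlg
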