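import Groth.Agent.ModSt.K927.RSGlue
import Groth.Agent.ModSt.K927.Rho
import Groth.Agent.ModSt.K927.Fib

/-!
# Glueing objects of `Fam f` over a fibre product of rings

* `BSq` : the square of bases; `exists_glue_fam` : glueing of objects.
-/

set_option autoImplicit false
universe v u

open CategoryTheory CategoryTheory.Limits AlgebraicGeometry Opposite ModSt Groth.Agent.Desc.QD K28 K927.RSAlg

noncomputable section

namespace K927.ModSt

variable {X S : Scheme.{u}} {f : X ⟶ S}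

theorem fam_ext_sec {A B : Obj f} {φ ψ : A ⟶ B} (hb : φ.base = ψ.base) (ht : φ.top = ψ.top)
    (h : ∀ (U : B.XT.Opens) (s : Γ(B.E, U)) (e : φ.top ⁻¹ᵁ U ≤ φ.top ⁻¹ᵁ U) (e' : φ.top ⁻¹ᵁ U ≤ ψ.top ⁻¹ᵁ U),
      cs φ.top φ.c e s = cs ψ.top ψ.c e' s) : φ = ψ := by
  obtain ⟨b, t, wp, wq, c, hc⟩ := φ
  obtain ⟨b', t', wp', wq', c', hc'⟩ := ψ
  cases hb
  dsimp only at ht
  subst ht
  have hcc : c = c' := by
    apply ap_ext
    intro U m
    have h1 := h U m le_rfl le_rfl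
    have r : ∀ z : Γ(A.E, t ⁻¹ᵁ U), rs A.E (le_refl (t ⁻¹ᵁ U)) z = z := fun z => rs_refl A.E _ z
    exact (r (ap c U m)).symm.trans (h1.trans (r (ap c' U m)))
  cases hcc
  rfl

theorem cs_comp {A B C : Obj f} (φ : A ⟶ B) (ψ : B ⟶ C) {U : C.XT.Opens} {V : A.XT.Opens}
    (e : V ≤ (φ ≫ ψ).top ⁻¹ᵁ U) (e' : V ≤ φ.top ⁻¹ᵁ (ψ.top ⁻¹ᵁ U)) (s : Γ(C.E, U)) :
    cs (φ ≫ ψ).top (φ ≫ ψ).c e s = cs φ.top φ.c e' (ap ψ.c U s) := rfl

/-- The induced map of total spaces. -/
def topMap (x : Obj f) {T : Over S} (g : x.base ⟶ T) {P : Scheme.{u}} {p : P ⟶ X} {q : P ⟶ T.left}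
    (h : IsPullback p q f T.hom) : x.XT ⟶ P :=
  h.lift x.p (x.q ≫ g.left) (by rw [Category.assoc, Over.w g, x.isPullback.w])

theorem topMap_p (x : Obj f) {T : Over S} (g : x.base ⟶ T) {P : Scheme.{u}} {p : P ⟶ X} {q : P ⟶ T.left}
    (h : IsPullback p q f T.hom) : topMap x g h ≫ p = x.p := h.lift_fst _ _ _

theorem topMap_q (x : Obj f) {T : Over S} (g : x.base ⟶ T) {P : Scheme.{u}} {p : P ⟶ X} {q : P ⟶ T.left}
    (h : IsPullback p q f T.hom) : topMap x g h ≫ q = x.q ≫ g.left := h.lift_snd _ _ _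

theorem isPullback_topMap (x : Obj f) {T : Over S} (g : x.base ⟶ T) {P : Scheme.{u}} {p : P ⟶ X}
    {q : P ⟶ T.left} (h : IsPullback p q f T.hom) : IsPullback (topMap x g h) x.q q g.left := by
  have h1 : IsPullback (topMap x g h ≫ p) x.q f (g.left ≫ T.hom) := by
    rw [topMap_p, Over.w g]
    exact x.isPullback
  exact IsPullback.of_right h1 (topMap_q x g h) h

/-- The square of bases is the spectrum of a fibre product of rings. -/
structure BSq {z x x' T : Over S} (a : z ⟶ x) (b : z ⟶ x') (tA : x ⟶ T) (tB : x' ⟶ T) : Prop where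
  w : a ≫ tA = b ≫ tB
  aP : IsAffine T.left
  aA : IsAffine x.left
  aB' : IsAffine x'.left
  aB : IsAffine z.left
  surj : Function.Surjective b.left.appTop
  fib : ∀ s t, a.left.appTop s = b.left.appTop t → ∃! c, tA.left.appTop c = s ∧ tB.left.appTop c = t

theorem BSq.gcube {z x x' : Obj f} (a : z ⟶ x) (b : z ⟶ x') {T : Over S} {tA : x.base ⟶ T} {tB : x'.base ⟶ T}
    (B : BSq a.base b.base tA tB) {P : Scheme.{u}} {p : P ⟶ X} {q : P ⟶ T.left} (h : IsPullback p q f T.hom)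
    (iA : x.XT ⟶ P) (hA1 : iA ≫ p = x.p) (hA2 : iA ≫ q = x.q ≫ tA.left)
    (iB : x'.XT ⟶ P) (hB1 : iB ≫ p = x'.p) (hB2 : iB ≫ q = x'.q ≫ tB.left) :
    GCube iA iB a.top b.top q x.q x'.q z.q tA.left tB.left a.base.left b.base.left := by
  have eA : iA = topMap x tA h := h.hom_ext (by rw [hA1, topMap_p]) (by rw [hA2, topMap_q])
  have eB : iB = topMap x' tB h := h.hom_ext (by rw [hB1, topMap_p]) (by rw [hB2, topMap_q])
  subst eA eB
  have w0 : a.base.left ≫ tA.left = b.base.left ≫ tB.left := congrArg CommaMorphism.left B.w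
  exact
    { hA := isPullback_topMap x tA h
      hB' := isPullback_topMap x' tB h
      hf := Obj.Hom.isPullback_top a
      w := by
        apply h.hom_ext
        · rw [Category.assoc, Category.assoc, topMap_p, topMap_p, a.w_p, b.w_p]
        · rw [Category.assoc, Category.assoc, topMap_q, topMap_q, ← Category.assoc, ← Category.assoc, a.w_q, b.w_q,
            Category.assoc, Category.assoc, w0]
      wB := b.w_q
      w0 := w0
      aP := B.aP
      aA := B.aA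
      aB' := B.aB'
      aB := B.aB
      surj := B.surj
      fib := B.fib }

theorem al_be_of_comp {z x x' w : Obj f} (a : z ⟶ x) (b : z ⟶ x') (c : x ⟶ w) (d : x' ⟶ w) (h : a ≫ c = b ≫ d)
    (ht : a.top ≫ c.top = b.top ≫ d.top) : c.c ≫ al c.top a.c = d.c ≫ be ht b.c := by
  have h1 := c_congr h.symm
  exact (h1.symm.trans (Category.assoc _ _ _))

theorem fam_ext_congr {A B : Obj f} {φ ψ : A ⟶ B} (hb : φ.base = ψ.base) (ht : ψ.top = φ.top)
    (hc : φ.c = ψ.c ≫ (Scheme.Modules.pushforwardCongr ht).hom.app A.E) : φ = ψ := by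
  obtain ⟨b, t, wp, wq, c, hcart⟩ := φ
  obtain ⟨b', t', wp', wq', c', hcart'⟩ := ψ
  cases hb
  dsimp only at ht
  subst ht
  have hcc : c = c' := by
    refine hc.trans ?_
    dsimp only
    rw [pushforwardCongr_rfl_app, Category.comp_id]
  cases hcc
  rfl

theorem comp_of_al_be {z x x' w : Obj f} (a : z ⟶ x) (b : z ⟶ x') (c : x ⟶ w) (d : x' ⟶ w)
    (hb : a.base ≫ c.base = b.base ≫ d.base) (ht : a.top ≫ c.top = b.top ≫ d.top)
    (h : c.c ≫ al c.top a.c = d.c ≫ be ht b.c) : a ≫ c = b ≫ d :=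
  fam_ext_congr hb ht.symm (h.trans (Category.assoc _ _ _).symm)

/-- **Glueing of objects.** -/
theorem exists_glue_fam {z x x' : Obj f} (a : z ⟶ x) (b : z ⟶ x') {T : Over S} {tA : x.base ⟶ T}
    {tB : x'.base ⟶ T} (B : BSq a.base b.base tA tB) (hx : IsCohObj x) (hx' : IsCohObj x')
    (hz : Coh.IsQCoh z.E) :
    ∃ (E : (pullback T.hom f).Modules) (c : x ⟶ ofHat T E) (d : x' ⟶ ofHat T E),
      IsCohObj (ofHat T E) ∧ c.base = tA ∧ d.base = tB ∧ a ≫ c = b ≫ d := by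
  have h : IsPullback (pullback.snd T.hom f) (pullback.fst T.hom f) f T.hom := (IsPullback.of_hasPullback T.hom f).flip
  let iA := topMap x tA h
  let iB := topMap x' tB h
  have G := BSq.gcube a b B h iA (topMap_p _ _ _) (topMap_q _ _ _) iB (topMap_p _ _ _) (topMap_q _ _ _)
  have qA : Coh.IsQCoh x.E := Groth.Agent.PerfC.FPSections.isQCoh_of_isFP hx.2
  have qB : Coh.IsQCoh x'.E := Groth.Agent.PerfC.FPSections.isQCoh_of_isFP hx'.2
  have hiA := G.isAffineHom_iA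
  have hiB := G.isAffineHom_iB
  have hjA := G.isAffineHom_jA
  let F := Limits.pullback (al iA a.c) (be G.w b.c)
  have q1 : Coh.IsQCoh ((Scheme.Modules.pushforward iA).obj x.E) :=
    Groth.Agent.Ega1.QcqsPush.isQCoh_pushforward iA x.E qA
  have q2 : Coh.IsQCoh ((Scheme.Modules.pushforward iB).obj x'.E) :=
    Groth.Agent.Ega1.QcqsPush.isQCoh_pushforward iB x'.E qB
  have q3 : Coh.IsQCoh ((Scheme.Modules.pushforward (a.top ≫ iA)).obj z.E) :=
    Groth.Agent.Ega1.QcqsPush.isQCoh_pushforward (a.top ≫ iA) z.E hz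
  have qF : Coh.IsQCoh F := Groth.Agent.S7502.isQCoh_fibreProduct _ _ q1 q2 q3
  obtain ⟨k1, k2, k3, k4⟩ := cart_of_pairBij G a.cart b.cart qA qB hx.1 hx'.1
    (pullback.fst (al iA a.c) (be G.w b.c)) (pullback.snd (al iA a.c) (be G.w b.c)) pullback.condition qF
    (fun U _ => pairBij_pullback G.w a.c b.c U)
  refine ⟨F, ⟨tA, iA, topMap_p _ _ _, topMap_q _ _ _, pullback.fst (al iA a.c) (be G.w b.c), k1⟩,
    ⟨tB, iB, topMap_p _ _ _, topMap_q _ _ _, pullback.snd (al iA a.c) (be G.w b.c), k2⟩, ⟨k3, k4 hx.2 hx'.2⟩,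
    rfl, rfl, comp_of_al_be _ _ _ _ B.w G.w pullback.condition⟩

end K927.ModSt
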