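import Groth.Agent.ModSt.K927.RSSec
import Groth.Agent.ModSt.K927.RSCat
import Groth.Agent.Pinch.K838.FerrBC

/-!
# The cube of schemes over a fibre product of rings

* `GCube` : `W` over `TP`, `TP` the affine scheme with functions `A ×_B B'`, and its base changes;
* `GCube.cube` : the cube of rings over an affine open of `W`.
-/

set_option autoImplicit false
universe v u

open CategoryTheory CategoryTheory.Limits AlgebraicGeometry Opposite ModSt Groth.Agent.Desc.QD K28 K927.RSAlg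

noncomputable section

namespace K927.ModSt

theorem leT {X Y : Scheme.{u}} (f : X ⟶ Y) (V : X.Opens) : V ≤ f ⁻¹ᵁ ⊤ := le_top

theorem appLE_top {X Y : Scheme.{u}} (f : X ⟶ Y) (a : Γ(Y, ⊤)) : f.appLE ⊤ ⊤ (leT f ⊤) a = f.appTop a := by
  have h : f.appLE ⊤ ⊤ (leT f ⊤) = f.appTop := Scheme.Hom.appLE_eq_app f
  rw [h]

/-- The base changes of `πW : W ⟶ TP` over a fibre product of rings. -/
structure GCube {W YA YB' YB TP TA TB' TB : Scheme.{u}} (iA : YA ⟶ W) (iB : YB' ⟶ W) (jA : YB ⟶ YA) (jB : YB ⟶ YB')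
    (πW : W ⟶ TP) (πA : YA ⟶ TA) (πB' : YB' ⟶ TB') (πB : YB ⟶ TB)
    (tA : TA ⟶ TP) (tB' : TB' ⟶ TP) (tf : TB ⟶ TA) (tg : TB ⟶ TB') : Prop where
  hA : IsPullback iA πA πW tA
  hB' : IsPullback iB πB' πW tB'
  hf : IsPullback jA πB πA tf
  w : jA ≫ iA = jB ≫ iB
  wB : jB ≫ πB' = πB ≫ tg
  w0 : tf ≫ tA = tg ≫ tB'
  aP : IsAffine TP
  aA : IsAffine TA
  aB' : IsAffine TB'
  aB : IsAffine TB
  surj : Function.Surjective tg.appTop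
  fib : ∀ a b, tf.appTop a = tg.appTop b → ∃! c, tA.appTop c = a ∧ tB'.appTop c = b

namespace GCube

variable {W YA YB' YB TP TA TB' TB : Scheme.{u}} {iA : YA ⟶ W} {iB : YB' ⟶ W} {jA : YB ⟶ YA} {jB : YB ⟶ YB'}
    {πW : W ⟶ TP} {πA : YA ⟶ TA} {πB' : YB' ⟶ TB'} {πB : YB ⟶ TB}
    {tA : TA ⟶ TP} {tB' : TB' ⟶ TP} {tf : TB ⟶ TA} {tg : TB ⟶ TB'}
    (G : GCube iA iB jA jB πW πA πB' πB tA tB' tf tg)

include G

theorem isAffineHom_iA : IsAffineHom iA := by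
  have := G.aP
  have := G.aA
  exact MorphismProperty.of_isPullback (P := @IsAffineHom) G.hA.flip inferInstance

theorem isAffineHom_iB : IsAffineHom iB := by
  have := G.aP
  have := G.aB'
  exact MorphismProperty.of_isPullback (P := @IsAffineHom) G.hB'.flip inferInstance

theorem isAffineHom_jA : IsAffineHom jA := by
  have := G.aB
  have := G.aA
  exact MorphismProperty.of_isPullback (P := @IsAffineHom) G.hf.flip inferInstance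

theorem preimage_eq (U : W.Opens) : jA ⁻¹ᵁ (iA ⁻¹ᵁ U) = jB ⁻¹ᵁ (iB ⁻¹ᵁ U) := by
  change (jA ≫ iA) ⁻¹ᵁ U = (jB ≫ iB) ⁻¹ᵁ U
  rw [G.w]

theorem cube {U : W.Opens} (hU : IsAffineOpen U) (eA : iA ⁻¹ᵁ U ≤ iA ⁻¹ᵁ U) (eB : iB ⁻¹ᵁ U ≤ iB ⁻¹ᵁ U)
    (e : jA ⁻¹ᵁ (iA ⁻¹ᵁ U) ≤ jA ⁻¹ᵁ (iA ⁻¹ᵁ U)) (e' : jA ⁻¹ᵁ (iA ⁻¹ᵁ U) ≤ jB ⁻¹ᵁ (iB ⁻¹ᵁ U)) :
    Cube (tA.appLE ⊤ ⊤ (leT _ _)) (tB'.appLE ⊤ ⊤ (leT _ _)) (tf.appLE ⊤ ⊤ (leT _ _)) (tg.appLE ⊤ ⊤ (leT _ _))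
      (πW.appLE ⊤ U (leT _ _)) (πA.appLE ⊤ (iA ⁻¹ᵁ U) (leT _ _)) (πB'.appLE ⊤ (iB ⁻¹ᵁ U) (leT _ _))
      (πB.appLE ⊤ (jA ⁻¹ᵁ (iA ⁻¹ᵁ U)) (leT _ _))
      (iA.appLE U (iA ⁻¹ᵁ U) eA) (iB.appLE U (iB ⁻¹ᵁ U) eB)
      (jA.appLE (iA ⁻¹ᵁ U) (jA ⁻¹ᵁ (iA ⁻¹ᵁ U)) e) (jB.appLE (iB ⁻¹ᵁ U) (jA ⁻¹ᵁ (iA ⁻¹ᵁ U)) e') where
  w0 := by simp only [Scheme.Hom.appLE_comp_appLE, G.w0]
  surj := by
    intro b
    obtain ⟨a, ha⟩ := G.surj b
    exact ⟨a, (appLE_top _ _).trans ha⟩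
  fib := by
    intro a b hab
    rw [appLE_top, appLE_top] at hab
    simp only [appLE_top]
    exact G.fib a b hab
  wA := by simp only [Scheme.Hom.appLE_comp_appLE, G.hf.w]
  wB := by simp only [Scheme.Hom.appLE_comp_appLE, G.wB]
  wR := by simp only [Scheme.Hom.appLE_comp_appLE, G.w]
  poA := by
    have := G.aP
    have := G.aA
    exact K838.FerrBC.isPushout_sections G.hA (leT _ _) (leT _ _) (by rw [Scheme.Hom.preimage_top, inf_top_eq])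
      (isAffineOpen_top _) (isAffineOpen_top _) hU _ _
  poB' := by
    have := G.aP
    have := G.aB'
    exact K838.FerrBC.isPushout_sections G.hB' (leT _ _) (leT _ _) (by rw [Scheme.Hom.preimage_top, inf_top_eq])
      (isAffineOpen_top _) (isAffineOpen_top _) hU _ _
  poB := by
    have := G.aP
    have := G.aB
    have H : IsPullback (jA ≫ iA) πB πW (tf ≫ tA) := G.hf.paste_horiz G.hA
    simp only [Scheme.Hom.appLE_comp_appLE]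
    exact K838.FerrBC.isPushout_sections H (leT _ _) (leT _ _) (by
      rw [Scheme.Hom.preimage_top, inf_top_eq]; rfl) (isAffineOpen_top _) (isAffineOpen_top _) hU _ _

end GCube

end K927.ModSt
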