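import Groth.Agent.ModSt.K927.RSGeom
import Groth.Agent.S7502
import Groth.Agent.Flat2C.FlatSec
import Groth.Agent.Desc.FPSections
import Groth.Agent.Sga67.Sec

/-!
# Glueing modules over a fibre product of rings

* `al`, `be` : the maps `iA_* EA ⟶ k_* EB ⟵ iB_* EB'`;
* `PairBij F c1 c2 U` : `Γ(F, U)` is the set of compatible pairs.
-/

set_option autoImplicit false
universe v u

open CategoryTheory CategoryTheory.Limits AlgebraicGeometry Opposite ModSt Groth.Agent.Desc.QD K28 K927.RSAlg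

noncomputable section

namespace K927.ModSt

section Maps

variable {W YA YB' YB : Scheme.{u}} {iA : YA ⟶ W} {iB : YB' ⟶ W} {jA : YB ⟶ YA} {jB : YB ⟶ YB'}
  (w : jA ≫ iA = jB ≫ iB) {EA : YA.Modules} {EB' : YB'.Modules} {EB : YB.Modules}
  (cA : EA ⟶ (Scheme.Modules.pushforward jA).obj EB) (cB : EB' ⟶ (Scheme.Modules.pushforward jB).obj EB)

variable (iA) in
/-- The map `iA_* EA ⟶ (jA ≫ iA)_* EB`. -/
def al : (Scheme.Modules.pushforward iA).obj EA ⟶ (Scheme.Modules.pushforward (jA ≫ iA)).obj EB :=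
  (Scheme.Modules.pushforward iA).map cA ≫ (Scheme.Modules.pushforwardComp jA iA).hom.app EB

/-- The map `iB_* EB' ⟶ (jA ≫ iA)_* EB`. -/
def be : (Scheme.Modules.pushforward iB).obj EB' ⟶ (Scheme.Modules.pushforward (jA ≫ iA)).obj EB :=
  ((Scheme.Modules.pushforward iB).map cB ≫ (Scheme.Modules.pushforwardComp jB iB).hom.app EB) ≫
    (Scheme.Modules.pushforwardCongr w.symm).hom.app EB

theorem ap_al (U : W.Opens) (x : Γ(EA, iA ⁻¹ᵁ U)) {V : YB.Opens} (e : V ≤ jA ⁻¹ᵁ (iA ⁻¹ᵁ U)) :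
    rs EB e (ap (al iA cA) U x : Γ(EB, jA ⁻¹ᵁ (iA ⁻¹ᵁ U))) = cs jA cA e x := rfl

theorem ap_be (U : W.Opens) (x : Γ(EB', iB ⁻¹ᵁ U)) {V : YB.Opens} (e : V ≤ (jA ≫ iA) ⁻¹ᵁ U)
    (e' : V ≤ jB ⁻¹ᵁ (iB ⁻¹ᵁ U)) :
    rs EB e (ap (be w cB) U x : Γ(EB, (jA ≫ iA) ⁻¹ᵁ U)) = cs jB cB e' x :=
  ap_congr_app w.symm EB U (ap cB (iB ⁻¹ᵁ U) x : Γ(EB, jB ⁻¹ᵁ (iB ⁻¹ᵁ U))) e e'

variable {F : W.Modules} (c1 : F ⟶ (Scheme.Modules.pushforward iA).obj EA)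
  (c2 : F ⟶ (Scheme.Modules.pushforward iB).obj EB')

/-- The sections of `F` are the compatible pairs. -/
def PairBij (U : W.Opens) : Prop :=
  (∀ s : Γ(F, U), ap c1 U s = 0 → ap c2 U s = 0 → s = 0) ∧
    ∀ (x : Γ((Scheme.Modules.pushforward iA).obj EA, U)) (y : Γ((Scheme.Modules.pushforward iB).obj EB', U)),
      ap (al iA cA) U x = ap (be w cB) U y → ∃ s : Γ(F, U), ap c1 U s = x ∧ ap c2 U s = y

theorem pairBij_pullback (U : W.Opens) :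
    PairBij w cA cB (pullback.fst (al iA cA) (be w cB)) (pullback.snd (al iA cA) (be w cB)) U := by
  have h1 := (IsPullback.of_hasPullback (al iA cA) (be w cB)).map
    (Groth.Agent.Sga67.Sec.secFunctor W U ⋙ forget AddCommGrpCat.{u})
  obtain ⟨-, h2, h3⟩ := (Types.isPullback_iff _ _ _ _).1 h1
  refine ⟨fun s hs hs' => h2 s 0 ⟨?_, ?_⟩, fun x y hxy => h3 x y hxy⟩
  · exact hs.trans (map_zero (ap (pullback.fst (al iA cA) (be w cB)) U)).symm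
  · exact hs'.trans (map_zero (ap (pullback.snd (al iA cA) (be w cB)) U)).symm

theorem al_be_iff (U : W.Opens) (x : Γ(EA, iA ⁻¹ᵁ U)) (y : Γ(EB', iB ⁻¹ᵁ U))
    (e : jA ⁻¹ᵁ (iA ⁻¹ᵁ U) ≤ jA ⁻¹ᵁ (iA ⁻¹ᵁ U)) (e' : jA ⁻¹ᵁ (iA ⁻¹ᵁ U) ≤ jB ⁻¹ᵁ (iB ⁻¹ᵁ U)) :
    (ap (al iA cA) U x = ap (be w cB) U y) ↔ cs jA cA e x = cs jB cB e' y := by
  have h1 : ap (al iA cA) U x = cs jA cA e x :=
    (rs_refl EB e (ap (al iA cA) U x : Γ(EB, jA ⁻¹ᵁ (iA ⁻¹ᵁ U)))).symm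
  have h2 : ap (be w cB) U y = cs jB cB e' y :=
    (rs_refl EB (le_refl ((jA ≫ iA) ⁻¹ᵁ U)) (ap (be w cB) U y : Γ(EB, (jA ≫ iA) ⁻¹ᵁ U))).symm.trans
      (ap_be w cB U y (le_refl ((jA ≫ iA) ⁻¹ᵁ U)) e')
  exact ⟨fun h => h1.symm.trans (h.trans h2), fun h => h1.trans (h.trans h2.symm)⟩

end Maps

section Main

variable {W YA YB' YB TP TA TB' TB : Scheme.{u}} {iA : YA ⟶ W} {iB : YB' ⟶ W} {jA : YB ⟶ YA} {jB : YB ⟶ YB'}
    {πW : W ⟶ TP} {πA : YA ⟶ TA} {πB' : YB' ⟶ TB'} {πB : YB ⟶ TB}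
    {tA : TA ⟶ TP} {tB' : TB' ⟶ TP} {tf : TB ⟶ TA} {tg : TB ⟶ TB'}
    (G : GCube iA iB jA jB πW πA πB' πB tA tB' tf tg)
    {EA : YA.Modules} {EB' : YB'.Modules} {EB : YB.Modules}
    {cA : EA ⟶ (Scheme.Modules.pushforward jA).obj EB} {cB : EB' ⟶ (Scheme.Modules.pushforward jB).obj EB}
    (hcA : IsCart jA cA) (hcB : IsCart jB cB) (qA : Coh.IsQCoh EA) (qB : Coh.IsQCoh EB')
    (fA : FlatMod.IsFlatOver πA EA) (fB : FlatMod.IsFlatOver πB' EB')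
    {F : W.Modules} (c1 : F ⟶ (Scheme.Modules.pushforward iA).obj EA)
    (c2 : F ⟶ (Scheme.Modules.pushforward iB).obj EB') (hc : c1 ≫ al iA cA = c2 ≫ be G.w cB)

include hcA hcB qA qB fA fB hc

theorem glue_both {U : W.Opens} (hU : IsAffineOpen U) (eA : iA ⁻¹ᵁ U ≤ iA ⁻¹ᵁ U) (eB : iB ⁻¹ᵁ U ≤ iB ⁻¹ᵁ U) :
    (PairBij G.w cA cB c1 c2 U →
      SBC (iA.appLE U (iA ⁻¹ᵁ U) eA).hom (cs iA c1 eA) ∧ SBC (iB.appLE U (iB ⁻¹ᵁ U) eB).hom (cs iB c2 eB) ∧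
      Groth.Agent.Flat2C.FlatSec.FlatSections πW F (leT πW U) ∧
      (Module.FinitePresentation Γ(YA, iA ⁻¹ᵁ U) Γ(EA, iA ⁻¹ᵁ U) →
        Module.FinitePresentation Γ(YB', iB ⁻¹ᵁ U) Γ(EB', iB ⁻¹ᵁ U) →
        Module.FinitePresentation Γ(W, U) Γ(F, U))) ∧
    (SBC (iA.appLE U (iA ⁻¹ᵁ U) eA).hom (cs iA c1 eA) → SBC (iB.appLE U (iB ⁻¹ᵁ U) eB).hom (cs iB c2 eB) →
      PairBij G.w cA cB c1 c2 U) := by
  have e' : jA ⁻¹ᵁ (iA ⁻¹ᵁ U) ≤ jB ⁻¹ᵁ (iB ⁻¹ᵁ U) := (G.preimage_eq U).le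
  have hiA := G.isAffineHom_iA
  have hiB := G.isAffineHom_iB
  have hjA := G.isAffineHom_jA
  have aUA : IsAffineOpen (iA ⁻¹ᵁ U) := hU.preimage iA
  have aUB : IsAffineOpen (iB ⁻¹ᵁ U) := hU.preimage iB
  have aUC : IsAffineOpen (jA ⁻¹ᵁ (iA ⁻¹ᵁ U)) := aUA.preimage jA
  have K := G.cube hU eA eB le_rfl e'
  have aTA : IsAffineOpen (⊤ : TA.Opens) := by
    have := G.aA
    exact isAffineOpen_top _
  have aTB : IsAffineOpen (⊤ : TB'.Opens) := by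
    have := G.aB'
    exact isAffineOpen_top _
  have flA : FlatVia (πA.appLE ⊤ (iA ⁻¹ᵁ U) (leT _ _)) Γ(EA, iA ⁻¹ᵁ U) :=
    (Groth.Agent.Flat2C.FlatSec.flat_sections_iff πA EA aUA aTA (leT _ _) qA).2 (fun x _ => fA x)
  have flB : FlatVia (πB'.appLE ⊤ (iB ⁻¹ᵁ U) (leT _ _)) Γ(EB', iB ⁻¹ᵁ U) :=
    (Groth.Agent.Flat2C.FlatSec.flat_sections_iff πB' EB' aUB aTB (leT _ _) qB).2 (fun x _ => fB x)
  have sA : SBC (jA.appLE (iA ⁻¹ᵁ U) (jA ⁻¹ᵁ (iA ⁻¹ᵁ U)) le_rfl).hom (cs jA cA (le_refl (jA ⁻¹ᵁ (iA ⁻¹ᵁ U)))) :=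
    sbc_of_cart jA cA qA hcA le_rfl aUA aUC
  have sB : SBC (jB.appLE (iB ⁻¹ᵁ U) (jA ⁻¹ᵁ (iA ⁻¹ᵁ U)) e').hom (cs jB cB e') :=
    sbc_of_cart jB cB qB hcB e' aUB aUC
  have hcomp : ∀ s : Γ(F, U), cs jA cA (le_refl (jA ⁻¹ᵁ (iA ⁻¹ᵁ U))) (cs iA c1 eA s) = cs jB cB e' (cs iB c2 eB s) := by
    intro s
    have h1 : cs iA c1 eA s = ap c1 U s := rs_refl _ _ _
    have h2 : cs iB c2 eB s = ap c2 U s := rs_refl _ _ _
    rw [h1, h2]
    refine (al_be_iff G.w cA cB U _ _ le_rfl e').1 ?_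
    exact congrArg (fun t => ap t U s) hc
  have key := K.both sA sB flA flB hcomp (cs_smul iA c1 eA) (cs_smul iB c2 eB)
  have r1 : ∀ s : Γ(F, U), cs iA c1 eA s = ap c1 U s := fun s => rs_refl _ _ _
  have r2 : ∀ s : Γ(F, U), cs iB c2 eB s = ap c2 U s := fun s => rs_refl _ _ _
  refine ⟨fun hP => key.1 (fun s h1 h2 => hP.1 s ((r1 s).symm.trans h1) ((r2 s).symm.trans h2)) ?_,
    fun h1 h2 => ?_⟩
  · intro x y hxy
    obtain ⟨s, hs1, hs2⟩ := hP.2 x y ((al_be_iff G.w cA cB U _ _ le_rfl e').2 hxy)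
    exact ⟨s, (r1 s).trans hs1, (r2 s).trans hs2⟩
  · obtain ⟨k1, k2⟩ := key.2 h1 h2
    refine ⟨fun s h1 h2 => k1 s ((r1 s).trans h1) ((r2 s).trans h2), fun x y hxy => ?_⟩
    obtain ⟨s, hs1, hs2⟩ := k2 x y ((al_be_iff G.w cA cB U _ _ le_rfl e').1 hxy)
    exact ⟨s, (r1 s).symm.trans hs1, (r2 s).symm.trans hs2⟩

/-- If the sections over affine opens are the compatible pairs, `F` restricts to the given modules. -/
theorem cart_of_pairBij (qF : Coh.IsQCoh F) (hP : ∀ U : W.Opens, IsAffineOpen U → PairBij G.w cA cB c1 c2 U) :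
    IsCart iA c1 ∧ IsCart iB c2 ∧ FlatMod.IsFlatOver πW F ∧
      (CohB1.IsFP EA → CohB1.IsFP EB' → CohB1.IsFP F) := by
  have hiA := G.isAffineHom_iA
  have hiB := G.isAffineHom_iB
  have aTP : IsAffineOpen (⊤ : TP.Opens) := by
    have := G.aP
    exact isAffineOpen_top _
  have key := fun (U : W.Opens) (hU : IsAffineOpen U) =>
    (glue_both G hcA hcB qA qB fA fB c1 c2 hc hU le_rfl le_rfl).1 (hP U hU)
  refine ⟨cart_of_sbc iA c1 qF qA fun U e hU => (key U hU).1, cart_of_sbc iB c2 qF qB fun U e hU => (key U hU).2.1,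
    ?_, fun h1 h2 => ?_⟩
  · refine Groth.Agent.Flat2C.FlatSec.isFlatOver_of_cover πW F qF fun x => ?_
    obtain ⟨U, hU, hxU, -⟩ := exists_isAffineOpen_mem_and_subset (x := x) (U := ⊤) trivial
    exact ⟨U, ⊤, hU, aTP, leT _ _, hxU, (key U hU).2.2.1⟩
  · rw [Groth.Agent.Desc.FPSections.isFP_iff_sections qF]
    intro U hU
    exact (key U hU).2.2.2 ((Groth.Agent.Desc.FPSections.isFP_iff_sections qA).1 h1 _ (hU.preimage iA))
      ((Groth.Agent.Desc.FPSections.isFP_iff_sections qB).1 h2 _ (hU.preimage iB))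

/-- A module restricting to flat modules is the module of compatible pairs. -/
theorem isIso_lift (qF : Coh.IsQCoh F) (qC : Coh.IsQCoh EB) (h1 : IsCart iA c1) (h2 : IsCart iB c2) :
    IsIso (pullback.lift c1 c2 hc) := by
  have hiA := G.isAffineHom_iA
  have hiB := G.isAffineHom_iB
  have hjA := G.isAffineHom_jA
  have hP : ∀ U : W.Opens, IsAffineOpen U → PairBij G.w cA cB c1 c2 U := fun U hU =>
    (glue_both G hcA hcB qA qB fA fB c1 c2 hc hU le_rfl le_rfl).2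
      (sbc_of_cart iA c1 qF h1 le_rfl hU (hU.preimage iA)) (sbc_of_cart iB c2 qF h2 le_rfl hU (hU.preimage iB))
  have q1 : Coh.IsQCoh ((Scheme.Modules.pushforward iA).obj EA) :=
    Groth.Agent.Ega1.QcqsPush.isQCoh_pushforward iA EA qA
  have q2 : Coh.IsQCoh ((Scheme.Modules.pushforward iB).obj EB') :=
    Groth.Agent.Ega1.QcqsPush.isQCoh_pushforward iB EB' qB
  have q3 : Coh.IsQCoh ((Scheme.Modules.pushforward (jA ≫ iA)).obj EB) :=
    Groth.Agent.Ega1.QcqsPush.isQCoh_pushforward (jA ≫ iA) EB qC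
  have qG : Coh.IsQCoh (Limits.pullback (al iA cA) (be G.w cB)) :=
    Groth.Agent.S7502.isQCoh_fibreProduct _ _ q1 q2 q3
  let θ : F ⟶ Limits.pullback (al iA cA) (be G.w cB) := pullback.lift c1 c2 hc
  have t1 : ∀ (U : W.Opens) (s : Γ(F, U)), ap (pullback.fst (al iA cA) (be G.w cB)) U (ap θ U s) = ap c1 U s :=
    fun U s => by rw [← ap_comp, pullback.lift_fst]
  have t2 : ∀ (U : W.Opens) (s : Γ(F, U)), ap (pullback.snd (al iA cA) (be G.w cB)) U (ap θ U s) = ap c2 U s :=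
    fun U s => by rw [← ap_comp, pullback.lift_snd]
  have := qF
  have := qG
  refine Groth.Agent.CohqB.AffIso.isIso_of_affine_cover θ fun x => ?_
  obtain ⟨U, hU, hxU, -⟩ := exists_isAffineOpen_mem_and_subset (x := x) (U := ⊤) trivial
  refine ⟨U, hxU, hU, ?_⟩
  have p1 := hP U hU
  have p2 := pairBij_pullback G.w cA cB U
  constructor
  · intro a b hab
    have hab' : ap θ U a = ap θ U b := hab
    rw [← sub_eq_zero]
    refine p1.1 _ ?_ ?_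
    · rw [map_sub, ← t1, ← t1, hab', sub_self]
    · rw [map_sub, ← t2, ← t2, hab', sub_self]
  · intro b
    obtain ⟨s, hs1, hs2⟩ := p1.2 (ap (pullback.fst (al iA cA) (be G.w cB)) U b)
      (ap (pullback.snd (al iA cA) (be G.w cB)) U b) (by rw [← ap_comp, ← ap_comp, pullback.condition])
    refine ⟨s, ?_⟩
    change ap θ U s = b
    rw [← sub_eq_zero]
    refine p2.1 _ ?_ ?_
    · rw [map_sub, t1, hs1, sub_self]
    · rw [map_sub, t2, hs2, sub_self]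

/-- Sections of a module restricting to flat modules are the compatible pairs. -/
theorem pairBij_of_cart (qF : Coh.IsQCoh F) (qC : Coh.IsQCoh EB) (h1 : IsCart iA c1) (h2 : IsCart iB c2)
    (U : W.Opens) : PairBij G.w cA cB c1 c2 U := by
  let θ : F ⟶ Limits.pullback (al iA cA) (be G.w cB) := pullback.lift c1 c2 hc
  have t1 : ∀ (U : W.Opens) (s : Γ(F, U)), ap (pullback.fst (al iA cA) (be G.w cB)) U (ap θ U s) = ap c1 U s :=
    fun U s => by rw [← ap_comp, pullback.lift_fst]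
  have t2 : ∀ (U : W.Opens) (s : Γ(F, U)), ap (pullback.snd (al iA cA) (be G.w cB)) U (ap θ U s) = ap c2 U s :=
    fun U s => by rw [← ap_comp, pullback.lift_snd]
  have hθ : IsIso θ := isIso_lift G hcA hcB qA qB fA fB c1 c2 hc qF qC h1 h2
  have p2 := pairBij_pullback G.w cA cB U
  refine ⟨fun s h1 h2 => ?_, fun x y hxy => ?_⟩
  · apply (ap_bijective θ U).1
    rw [map_zero]
    exact p2.1 _ ((t1 U s).trans h1) ((t2 U s).trans h2)
  · obtain ⟨b, hb1, hb2⟩ := p2.2 x y hxy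
    obtain ⟨s, rfl⟩ := (ap_bijective θ U).2 b
    exact ⟨s, (t1 U s).symm.trans hb1, (t2 U s).symm.trans hb2⟩

end Main

end K927.ModSt
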