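import Groth.Agent.ModSt.K927.MdSec
import Groth.Agent.FCompl.K28.LevelBC
import Groth.Agent.CohqB.AffIso

/-!
# Cartesian comparison maps on sections over affine opens

* `sbc_of_cart` : a cartesian comparison map is a semilinear base change on affine opens;
* `cart_of_sbc` : the converse for an affine morphism.
-/

set_option autoImplicit false
universe v u

open CategoryTheory CategoryTheory.Limits AlgebraicGeometry Opposite ModSt Groth.Agent.Desc.QD K28

noncomputable section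

namespace K927.ModSt

variable {Y Z : Scheme.{u}} (h : Y ⟶ Z) {N : Z.Modules} {M : Y.Modules}
  (c : N ⟶ (Scheme.Modules.pushforward h).obj M)

/-- The comparison map followed by restriction. -/
def cs {U : Z.Opens} {V : Y.Opens} (e : V ≤ h ⁻¹ᵁ U) : Γ(N, U) →+ Γ(M, V) :=
  (rs M e).comp (ap c U : Γ(N, U) →+ Γ(M, h ⁻¹ᵁ U))

theorem cs_apply {U : Z.Opens} {V : Y.Opens} (e : V ≤ h ⁻¹ᵁ U) (m : Γ(N, U)) :
    cs h c e m = rs M e (ap c U m : Γ(M, h ⁻¹ᵁ U)) := rfl

/-- The adjoint of the comparison map on the image of a section. -/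
theorem ap_adj_cs {U : Z.Opens} {V : Y.Opens} (e : V ≤ h ⁻¹ᵁ U) (m : Γ(N, U)) :
    ap ((adj h).symm c) V (sc h N e m) = cs h c e m := ap_adj_symm h c e m

/-- The action of a morphism of modules on sections, as a linear map. -/
def apL {M' M'' : Y.Modules} (φ : M' ⟶ M'') (V : Y.Opens) : Γ(M', V) →ₗ[Γ(Y, V)] Γ(M'', V) where
  toFun := ap φ V
  map_add' := map_add _
  map_smul' := fun a m => ap_smul φ a m

theorem cs_smul {U : Z.Opens} {V : Y.Opens} (e : V ≤ h ⁻¹ᵁ U) (a : Γ(Z, U)) (m : Γ(N, U)) :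
    cs h c e (a • m) = (h.appLE U V e).hom a • cs h c e m := by
  rw [← ap_adj_cs, ← ap_adj_cs, sc_smul, ap_smul]

theorem sbc_of_cart (hN : Coh.IsQCoh N) (hc : IsCart h c) {U : Z.Opens} {V : Y.Opens} (e : V ≤ h ⁻¹ᵁ U)
    (hU : IsAffineOpen U) (hV : IsAffineOpen V) : SBC (h.appLE U V e).hom (cs h c e) := by
  have hi : IsIso ((adj h).symm c) := (isCart_iff c).1 hc
  have h1 : SBC (h.appLE U V e).hom (sc h N e) := K28.LevelBC.sbc_sec h hN e hU hV
  exact h1.of_bijective (apL ((adj h).symm c) V) (ap_bijective _ V) (fun m => ap_adj_cs h c e m)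

theorem cart_of_sbc [IsAffineHom h] (hN : Coh.IsQCoh N) (hM : Coh.IsQCoh M)
    (H : ∀ (U : Z.Opens) (e : h ⁻¹ᵁ U ≤ h ⁻¹ᵁ U), IsAffineOpen U → SBC (h.appLE U (h ⁻¹ᵁ U) e).hom (cs h c e)) :
    IsCart h c := by
  rw [isCart_iff]
  have hPN : Coh.IsQCoh ((Scheme.Modules.pullback h).obj N) := Groth.Agent.VarietyB.PullSec.isQCoh_pullback h N hN
  refine Groth.Agent.CohqB.AffIso.isIso_of_affine_cover ((adj h).symm c) fun y => ?_
  obtain ⟨U, hU, hyU, -⟩ := exists_isAffineOpen_mem_and_subset (x := h y) (U := ⊤) trivial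
  refine ⟨h ⁻¹ᵁ U, hyU, hU.preimage h, ?_⟩
  have h1 : SBC (h.appLE U (h ⁻¹ᵁ U) le_rfl).hom (sc h N (le_refl (h ⁻¹ᵁ U))) :=
    K28.LevelBC.sbc_sec h hN le_rfl hU (hU.preimage h)
  exact h1.bijective (H U le_rfl hU) (apL ((adj h).symm c) (h ⁻¹ᵁ U)) (fun m => ap_adj_cs h c le_rfl m)

end K927.ModSt
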